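import Cfsg.Agent.Lib.LocalEven.PMinFF.Frame

/-!
The Sylow subgroup of a group with a minimal offender does not fix only the fixed points of the whole group.
-/

set_option autoImplicit false
set_option linter.unusedSectionVars false

universe u v

namespace CfsgLib.LocalEven.PMinFF

open CfsgLib.Fusion (conjSub mem_conjSub conj_mem_conjSub conjSub_conjSub conjSub_one conjSub_mono card_conjSub conjSub_eq_iff_mem_normalizer)
open CfsgLib.LocalEven.MinOffender (fx fx_anti mem_fx_conj smul_mem_fx_conj card_fx_conj smul_mk)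
open CfsgLib.LocalEven.StrongFF (IsMin fx_subgroupOf fx_top_subgroup conjSub_subgroupOf cm mem_cm smul_mem_cm card_sup_mul_card_inf card_sup_of_disjoint)

variable {Γ : Type u} [Group Γ] [Finite Γ] {p : ℕ} [Fact p.Prime] {T : Sylow p Γ} {Mx : Subgroup Γ}

section Quot

variable {N : Type*} [AddCommGroup N] [DistribMulAction Γ N] [Finite N] (h : Setting p T Mx N)
include h

/-- An abelian subgroup over an offender is that offender times the part centralising its overgroup. -/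
theorem InT.exists_split {C : Subgroup Γ} (hC : InT p T N C) {B : Subgroup Γ} (hBT : B ≤ (T : Subgroup Γ))
    (hCB : C ≤ B) (hcom : ∀ a ∈ B, ∀ b ∈ B, a * b = b * a) :
    ∀ b ∈ B, ∃ a ∈ C, ∀ l ∈ blk p T N C, (a⁻¹ * b) * l = l * (a⁻¹ * b) := by
  have hJ := InT.piece h hC
  have hA := InT.top h hC
  set J := others p T N C with hJdef
  set N' := Subgroup.normalizer (J : Set Γ) with hN
  have hBN : B ≤ N' := by
    intro b hb
    refine conjSub_eq_iff_mem_normalizer.1 ?_
    have h1 : conjSub b C = C := conjSub_eq_iff_mem_normalizer.2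
      (CfsgLib.Fusion.mem_normalizer_of_forall fun c hc => by
        rw [hcom b hb c (hCB hc), mul_inv_cancel_right]; exact hc)
    rw [hJdef, ← others_conj h (hBT hb), h1]
  obtain ⟨S₀, hS₀⟩ := exists_sylow_over (T.2.to_le hBT) hBN
  set P := (S₀ : Subgroup ↥N').map N'.subtype with hP
  have hCP : C ≤ P := hCB.trans hS₀
  have hPM : P ≤ Mx := Top.pgroup_le h hJ hA (S₀.2.map _) (Subgroup.map_subtype_le _) hCP
  set K : Subgroup ↥N' := (Mx.subgroupOf N').normalCore with hK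
  haveI : K.Normal := Subgroup.normalCore_normal _
  obtain ⟨Q, hQ⟩ := exists_sylow_eq_inf_of_isSubnormal S₀ (K := K) (Subgroup.Normal.isSubnormal ‹_›)
  have hfr := Sylow.normalizer_sup_eq_top Q
  rw [hQ, Subgroup.subgroupOf_map_subtype] at hfr
  set D := (S₀ : Subgroup ↥N') ⊓ K with hD
  have hout : ¬ Subgroup.normalizer (D : Set ↥N') ≤ Mx.subgroupOf N' := fun hle => hJ.notLe fun g hg => by
    have h1 := sup_le hle (Subgroup.normalCore_le (Mx.subgroupOf N')) (hfr ▸ Subgroup.mem_top (⟨g, hg⟩ : ↥N'))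
    exact h1
  obtain ⟨⟨x₀, hx₀N⟩, hx₀, hx₀M⟩ := SetLike.not_le_iff_exists.1 hout
  set R := D.map N'.subtype with hR
  have hCR : C ≤ Subgroup.normalizer (R : Set Γ) := fun a ha => by
    refine CfsgLib.Fusion.mem_normalizer_of_forall ?_
    rintro _ ⟨d, hd, rfl⟩
    obtain ⟨a', ha', rfl⟩ := hCP ha
    exact ⟨a' * d * a'⁻¹, ⟨S₀.toSubgroup.mul_mem (S₀.toSubgroup.mul_mem ha' hd.1) (S₀.toSubgroup.inv_mem ha'),
      Subgroup.Normal.conj_mem ‹_› d hd.2 a'⟩, rfl⟩
  have hx₀R : x₀ ∈ Subgroup.normalizer (R : Set Γ) := by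
    refine CfsgLib.Fusion.mem_normalizer_of_forall ?_
    rintro _ ⟨d, hd, rfl⟩
    exact ⟨_, (Subgroup.mem_normalizer_iff.1 hx₀ d).1 hd, rfl⟩
  obtain ⟨L, hLK, hLN, hL⟩ := Top.exists_min h hJ hA (K := C ⊔ conjSub x₀ C) le_sup_left
    (Top.not_le h hJ hA hx₀N hx₀M) (sup_le hA.le_norm (by
      rintro _ ⟨a, ha, rfl⟩
      exact N'.mul_mem (N'.mul_mem hx₀N (hA.le_norm ha)) (N'.inv_mem hx₀N)))
  have hblk : blk p T N C = L := Top.comp_eq h hJ hA hL hLN
  have hLR : L ≤ Subgroup.normalizer (R : Set Γ) := hLK.trans (sup_le hCR (by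
    rintro _ ⟨a, ha, rfl⟩
    exact mul_mem (mul_mem hx₀R (hCR ha)) (inv_mem hx₀R)))
  have hcent := Top.centralize h hJ hA hL hLN (S₀.2.map _) hPM (Subgroup.map_mono inf_le_left) hCP hLR
  obtain ⟨x, hxL, hx, -⟩ := Top.exists_out h hJ hA hL hLN
  intro b hb
  obtain ⟨a, ha, ha'⟩ := Top.exists_rep h hJ hA hL hLN hxL hx (g := b * x) (N'.mul_mem (hBN hb) (hLN hxL))
    fun e => hx (by
      have := Mx.mul_mem (Mx.inv_mem (h.sylLe (hBT hb))) e
      rwa [inv_mul_cancel_left] at this)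
  refine ⟨a, ha, hblk ▸ hcent _ ⟨⟨a⁻¹ * b, N'.mul_mem (N'.inv_mem (hA.le_norm ha)) (hBN hb)⟩, ⟨?_, ?_⟩, rfl⟩⟩
  · obtain ⟨z, hz, e⟩ := hS₀ (B.mul_mem (B.inv_mem (hCB ha)) hb)
    have e' : z = (⟨a⁻¹ * b, N'.mul_mem (N'.inv_mem (hA.le_norm ha)) (hBN hb)⟩ : ↥N') := Subtype.ext e
    exact e' ▸ hz
  · rintro ⟨g, hg⟩
    show g * (a⁻¹ * b) * g⁻¹ ∈ Mx
    have hk : a⁻¹ * b ∈ Mx := Mx.mul_mem (Mx.inv_mem (hA.leMx ha)) (h.sylLe (hBT hb))
    have hk' : x⁻¹ * (a⁻¹ * b) * x ∈ Mx := by simpa [mul_assoc] using ha'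
    by_cases hgM : g ∈ Mx
    · exact Mx.mul_mem (Mx.mul_mem hgM hk) (Mx.inv_mem hgM)
    obtain ⟨c, hc, hc'⟩ := Top.exists_rep h hJ hA hL hLN hxL hx (N'.inv_mem hg)
      (fun e => hgM (by simpa using Mx.inv_mem e))
    have hcomm' : c⁻¹ * (a⁻¹ * b) * c = a⁻¹ * b := by
      rw [mul_assoc, hcom _ (B.mul_mem (B.inv_mem (hCB ha)) hb) c (hCB hc), inv_mul_cancel_left]
    have h2 := Mx.mul_mem (Mx.mul_mem (Mx.inv_mem hc') hk') hc'
    generalize hm : (c * x)⁻¹ * g⁻¹ = m at h2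
    have hg' : g⁻¹ = c * x * m := by rw [← hm]; group
    have : g * (a⁻¹ * b) * g⁻¹ = m⁻¹ * (x⁻¹ * (c⁻¹ * (a⁻¹ * b) * c) * x) * m := by
      rw [show g = (c * x * m)⁻¹ by rw [← hg', inv_inv]]
      group
    rw [this, hcomm']
    exact h2

/-- Abelian subgroups of `T` are no better than offenders; equality splits the module. -/
theorem Setting.bound (k : ℕ) : ∀ B : Subgroup Γ, Nat.card ↥B < k → B ≤ (T : Subgroup Γ) →
    (∀ a ∈ B, ∀ b ∈ B, a * b = b * a) →
    Nat.card ↥B * Nat.card ↥(fx N B) ≤ Nat.card N ∧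
      (Nat.card N ≤ Nat.card ↥B * Nat.card ↥(fx N B) →
        fx N B ⊔ (⨆ C : {C : Subgroup Γ // InT p T N C ∧ C ≤ B}, mv N (blk p T N C.1)) = ⊤ ∧
          B ≤ ⨆ C : {C : Subgroup Γ // InT p T N C ∧ C ≤ B}, C.1) := by
  induction k with
  | zero => exact fun B hlt => absurd hlt (Nat.not_lt_zero _)
  | succ k ih =>
    intro B hlt hBT hcom
    by_cases hB0 : B = ⊥
    · have hfix : fx N B = ⊤ := (AddSubgroup.eq_top_iff' _).2 fun v g hg => by
        rw [hB0, Subgroup.mem_bot] at hg; rw [hg, one_smul]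
      rw [hfix, hB0, Subgroup.card_bot, one_mul, AddSubgroup.card_top]
      exact ⟨le_rfl, fun _ => ⟨top_sup_eq _, bot_le⟩⟩
    by_cases hsmall : Nat.card ↥B * Nat.card ↥(fx N B) < Nat.card N
    · exact ⟨hsmall.le, fun hge => absurd hge (_root_.not_le.2 hsmall)⟩
    obtain ⟨A, hAB, hA⟩ := exists_member hB0 (T.2.to_le hBT) hcom (not_lt.1 hsmall)
    have hAI : InT p T N A := ⟨hA, hAB.trans hBT⟩
    set L := blk p T N A with hL
    set K := B ⊓ Subgroup.centralizer (L : Set Γ) with hK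
    set D := fx N L with hD
    have hKL : ∀ g ∈ K, ∀ l ∈ L, g * l = l * g := fun g hg l hl =>
      (Subgroup.mem_centralizer_iff.1 hg.2 l hl).symm
    have hdec : ∀ b ∈ B, ∃ a ∈ A, a⁻¹ * b ∈ K := fun b hb => by
      obtain ⟨a, ha, hcent⟩ := InT.exists_split h hAI hBT hAB hcom b hb
      exact ⟨a, ha, B.mul_mem (B.inv_mem (hAB ha)) hb,
        Subgroup.mem_centralizer_iff.2 fun l hl => (hcent l hl).symm⟩
    have hAK : ∀ a ∈ A, a ∈ K → a = 1 := fun a ha haK => by
      obtain ⟨x, hxL, hx⟩ := SetLike.not_le_iff_exists.1 (InT.blk_min h hAI).notLe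
      refine Top.outside h (InT.piece h hAI) (InT.top h hAI) (InT.blk_le h hAI hxL) hx ha ?_
      rw [← hKL a haK x hxL, mul_inv_cancel_right]
      exact h.sylLe (hBT haK.1)
    have hcard : Nat.card ↥B = Nat.card ↥A * Nat.card ↥K := by
      rw [← Nat.card_prod]
      refine (Nat.card_eq_of_bijective
        (fun z : ↥A × ↥K => (⟨z.1 * z.2, B.mul_mem (hAB z.1.2) z.2.2.1⟩ : ↥B)) ⟨fun z z' e => ?_, fun b => ?_⟩).symm
      · have e' : (z.1 : Γ) * z.2 = z'.1 * z'.2 := congrArg Subtype.val e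
        have h1 : (z'.1 : Γ)⁻¹ * z.1 = 1 := by
          refine hAK _ (A.mul_mem (A.inv_mem z'.1.2) z.1.2) ?_
          rw [show (z'.1 : Γ)⁻¹ * z.1 = z'.2 * (z.2 : Γ)⁻¹ by
            rw [eq_mul_inv_iff_mul_eq, mul_assoc, e', inv_mul_cancel_left]]
          exact K.mul_mem z'.2.2 (K.inv_mem z.2.2)
        have h2 : z'.1 = z.1 := Subtype.ext (inv_mul_eq_one.1 h1)
        refine Prod.ext h2.symm (Subtype.ext (mul_left_cancel (a := (z.1 : Γ)) ?_))
        rw [e', h2]
      · obtain ⟨a, ha, hk⟩ := hdec b b.2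
        exact ⟨(⟨a, ha⟩, ⟨_, hk⟩), Subtype.ext (mul_inv_cancel_left a b)⟩
    have hKlt : Nat.card ↥K < k := by
      have h1 := (Subgroup.one_lt_card_iff_ne_bot A).2 hA.ne
      have h2 : 0 < Nat.card ↥K := Nat.card_pos
      have h3 : 1 * Nat.card ↥K < Nat.card ↥A * Nat.card ↥K := Nat.mul_lt_mul_of_pos_right h1 h2
      omega
    obtain ⟨ihle, ihsup⟩ := ih K hKlt (inf_le_left.trans hBT) fun a ha b hb => hcom a ha.1 b hb.1
    have hWK : mv N L ≤ fx N K := Top.mv_le_fix h (InT.piece h hAI) (InT.top h hAI) (InT.blk_min h hAI)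
      (InT.blk_le h hAI) (inf_le_left.trans hBT) hKL
    have hBsplit : fx N B = fx N A ⊓ fx N K := by
      refine le_antisymm (le_inf (fx_anti hAB) (fx_anti inf_le_left)) fun v hv b hb => ?_
      obtain ⟨a, ha, hk⟩ := hdec b hb
      rw [← mul_inv_cancel_left a b, mul_smul, hv.2 _ hk, hv.1 a ha]
    obtain ⟨a, ha, ha1⟩ : ∃ a ∈ A, a ≠ 1 := by
      by_contra hc; push Not at hc; exact hA.ne ((Subgroup.eq_bot_iff_forall A).2 hc)
    have hcmW : cm N a ≤ mv N L := cm_le_mv ((InT.blk_min h hAI).aLe ha)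
    have hsplit : fx N B = cm N a ⊔ (D ⊓ fx N K) := by
      rw [hBsplit]
      refine le_antisymm (fun v hv => ?_) (sup_le (le_inf (InT.cm_le h hAI ha) (hcmW.trans hWK))
        (le_inf (inf_le_left.trans (fx_anti (InT.blk_min h hAI).aLe)) inf_le_right))
      obtain ⟨c, hc, d, hd, e⟩ := AddSubgroup.mem_sup.1
        ((Top.cm_sup h (InT.piece h hAI) (InT.top h hAI) (InT.blk_min h hAI) (InT.blk_le h hAI) ha ha1).ge hv.1)
      rw [← e]
      refine AddSubgroup.add_mem_sup hc ⟨hd, ?_⟩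
      rw [show d = v - c by rw [← e]; abel]
      exact (fx N K).sub_mem hv.2 (hWK (hcmW hc))
    have htop : fx N K ⊔ D = ⊤ := top_le_iff.1 ((InT.mv_sup h hAI).ge.trans (sup_le_sup_right hWK _))
    have e1 := card_sup_mul_card_inf (fx N K) D
    rw [htop, AddSubgroup.card_top, Top.card_mod h (InT.piece h hAI) (InT.top h hAI),
      Top.card_fix h (InT.piece h hAI) (InT.top h hAI) (InT.blk_min h hAI) (InT.blk_le h hAI), inf_comm] at e1
    have e1' : Nat.card ↥A * Nat.card ↥A * Nat.card ↥(D ⊓ fx N K : AddSubgroup N) = Nat.card ↥(fx N K) := by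
      refine Nat.eq_of_mul_eq_mul_right (Nat.card_pos (α := ↥D)) ?_
      rw [← e1]; ring
    have hval : Nat.card ↥B * Nat.card ↥(fx N B) = Nat.card ↥K * Nat.card ↥(fx N K) := by
      rw [hcard, hsplit, card_sup_of_disjoint (fun v h1 h2 => InT.cm_disj h hAI ha h1 (AddSubgroup.mem_inf.1 h2).1),
        InT.card_cm h hAI ha ha1, ← e1']
      ring
    refine ⟨hval ▸ ihle, fun hge => ?_⟩
    obtain ⟨h1, h2⟩ := ihsup (hval ▸ hge)
    constructor
    swap
    · intro b hb
      obtain ⟨c, hc, hk⟩ := hdec b hb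
      rw [← mul_inv_cancel_left c b]
      refine mul_mem (le_iSup (fun C : {C : Subgroup Γ // InT p T N C ∧ C ≤ B} => C.1) ⟨A, hAI, hAB⟩ hc) ?_
      have hmono' : (⨆ C : {C : Subgroup Γ // InT p T N C ∧ C ≤ K}, C.1) ≤
          ⨆ C : {C : Subgroup Γ // InT p T N C ∧ C ≤ B}, C.1 :=
        iSup_le fun C => le_iSup_of_le (⟨C.1, C.2.1, C.2.2.trans inf_le_left⟩ :
          {C : Subgroup Γ // InT p T N C ∧ C ≤ B}) le_rfl
      exact hmono' (h2 hk)
    rw [eq_top_iff, ← h1]
    have hmono : (⨆ C : {C : Subgroup Γ // InT p T N C ∧ C ≤ K}, mv N (blk p T N C.1)) ≤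
        ⨆ C : {C : Subgroup Γ // InT p T N C ∧ C ≤ B}, mv N (blk p T N C.1) :=
      iSup_le fun C => le_iSup_of_le (⟨C.1, C.2.1, C.2.2.trans inf_le_left⟩ :
        {C : Subgroup Γ // InT p T N C ∧ C ≤ B}) le_rfl
    refine sup_le (fun v hv => ?_) (hmono.trans le_sup_right)
    obtain ⟨w, hw, d, hd, e⟩ := AddSubgroup.mem_sup.1 ((InT.mv_sup h hAI).ge (AddSubgroup.mem_top v))
    rw [← e]
    refine add_mem (AddSubgroup.mem_sup_right
      (le_iSup (fun C : {C : Subgroup Γ // InT p T N C ∧ C ≤ B} => mv N (blk p T N C.1)) ⟨A, hAI, hAB⟩ hw))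
      (AddSubgroup.mem_sup_left (hsplit.ge (AddSubgroup.mem_sup_right ⟨hd, ?_⟩)))
    rw [show d = v - w by rw [← e]; abel]
    exact (fx N K).sub_mem hv (hWK hw)

end Quot

/-- Some point fixed by `T` is moved. -/
theorem not_fx_le (hsyl : (T : Subgroup Γ) ≤ Mx) (hproper : Mx ≠ ⊤)
    (huniq : ∀ H : Subgroup Γ, (T : Subgroup Γ) ≤ H → H ≠ ⊤ → H ≤ Mx)
    (hcore : ∀ E : Subgroup Γ, E.Normal → IsPGroup p ↥E → E = ⊥) (n : ℕ) :
    ∀ (M : Type v) [AddCommGroup M] [DistribMulAction Γ M] [Finite M], Nat.card M < n →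
      (∀ m : M, p • m = 0) → (∀ g : Γ, (∀ m : M, g • m = m) → g = 1) → (∃ A : Subgroup Γ, Member p M A) →
      ¬ fx M (T : Subgroup Γ) ≤ fx M (⊤ : Subgroup Γ) := by
  induction n with
  | zero => exact fun M _ _ _ hlt => absurd hlt (Nat.not_lt_zero _)
  | succ n ih =>
    intro M _ _ _ hlt hexp hfaith hex hle
    set Z := fx M (⊤ : Subgroup Γ) with hZ
    set π := QuotientAddGroup.mk' Z with hπ
    have hπ0 : ∀ m : M, π m = 0 ↔ m ∈ Z := fun m => QuotientAddGroup.eq_zero_iff m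
    have hπs : ∀ (g : Γ) (m : M), g • π m = π (g • m) := fun g m => smul_mk g m
    have hπfix : ∀ (g : Γ) (m : M), g • π m = π m ↔ g • m - m ∈ Z := fun g m => by
      rw [hπs, ← hπ0, map_sub, sub_eq_zero]
    have hZfix : ∀ (g : Γ), ∀ z ∈ Z, g • z = z := fun g z hz => hz g (Subgroup.mem_top g)
    obtain ⟨A₀, hA₀⟩ := hex
    have hMne : (⊤ : AddSubgroup M) ≠ ⊥ := fun e => hA₀.ne ((Subgroup.eq_bot_iff_forall A₀).2 fun a _ =>
      hfaith a fun m => by
        rw [(AddSubgroup.mem_bot.1 (e ▸ AddSubgroup.mem_top m) : m = 0), smul_zero])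
    obtain ⟨y, -, hy0, hyT⟩ := exists_fixed_mem T.2 hexp hMne fun t _ m _ => AddSubgroup.mem_top _
    have hcardM : Nat.card M = Nat.card (M ⧸ Z) * Nat.card ↥Z := AddSubgroup.card_eq_card_quotient_mul_card_addSubgroup Z
    have hquot : Nat.card (M ⧸ Z) < n := by
      haveI : Nontrivial ↥Z := ⟨⟨⟨y, hle hyT⟩, 0, fun e => hy0 (congrArg Subtype.val e)⟩⟩
      have h1 : 1 < Nat.card ↥Z := Finite.one_lt_card
      have h2 : 0 < Nat.card (M ⧸ Z) := Nat.card_pos
      have h3 : Nat.card (M ⧸ Z) * 1 < Nat.card (M ⧸ Z) * Nat.card ↥Z := Nat.mul_lt_mul_of_pos_left h1 h2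
      omega
    have hpre : ∀ B : Subgroup Γ, Nat.card ↥(fx M B) ≤ Nat.card ↥(fx (M ⧸ Z) B) * Nat.card ↥Z ∧
        Nat.card ↥((fx (M ⧸ Z) B).comap π) = Nat.card ↥(fx (M ⧸ Z) B) * Nat.card ↥Z := by
      intro B
      have hcomap : Nat.card ↥((fx (M ⧸ Z) B).comap π) = Nat.card ↥(fx (M ⧸ Z) B) * Nat.card ↥Z := by
        set U := (fx (M ⧸ Z) B).comap π with hU
        have hs : Function.Surjective ((π.comp U.subtype).codRestrict (fx (M ⧸ Z) B) fun u => u.2) := fun z => by
          obtain ⟨m, hm⟩ := QuotientAddGroup.mk'_surjective Z (z : M ⧸ Z)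
          exact ⟨⟨m, show π m ∈ _ by rw [hπ, hm]; exact z.2⟩, Subtype.ext hm⟩
        set f := (π.comp U.subtype).codRestrict (fx (M ⧸ Z) B) fun u => u.2
        rw [AddSubgroup.card_eq_card_quotient_mul_card_addSubgroup f.ker,
          Nat.card_congr (QuotientAddGroup.quotientKerEquivOfSurjective f hs).toEquiv]
        congr 1
        have hk : f.ker = Z.addSubgroupOf U := by
          ext u
          rw [AddMonoidHom.mem_ker, AddSubgroup.mem_addSubgroupOf, ← Subtype.val_inj]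
          exact hπ0 _
        rw [hk]
        exact Nat.card_congr (AddSubgroup.addSubgroupOfEquivOfLe (fun z hz => show π z ∈ fx (M ⧸ Z) B by
          rw [(hπ0 z).2 hz]; exact zero_mem _)).toEquiv
      exact ⟨hcomap ▸ AddSubgroup.card_le_of_le fun v hv g hg => by rw [hπs, hv g hg], hcomap⟩
    -- the quotient inherits the setting
    have hexp' : ∀ z : M ⧸ Z, p • z = 0 := fun z => QuotientAddGroup.induction_on z fun m => by
      rw [← QuotientAddGroup.mk_nsmul, hexp]; rfl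
    have hfaith' : ∀ g : Γ, (∀ z : M ⧸ Z, g • z = z) → g = 1 := by
      let E : Subgroup Γ :=
        { carrier := {g | ∀ z : M ⧸ Z, g • z = z}
          one_mem' := fun z => one_smul Γ z
          mul_mem' := fun {a b} ha hb z => by rw [mul_smul, hb, ha]
          inv_mem' := fun {a} ha z => by rw [inv_smul_eq_iff, ha] }
      have hEn : E.Normal := ⟨fun e he g z => by rw [mul_smul, mul_smul, he, smul_inv_smul]⟩
      have hEp : IsPGroup p ↥E := fun e => ⟨1, Subtype.ext (hfaith _ fun m => by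
        rw [pow_one, Subgroup.coe_pow]
        exact StrongFF.pow_smul_of_series hexp (hZfix _ _ ((hπfix _ m).1 (e.2 (π m)))))⟩
      intro g hg
      have h1 : g ∈ E := hg
      rwa [hcore E hEn hEp, Subgroup.mem_bot] at h1
    have hoff' : ∀ {B : Subgroup Γ}, Nat.card M ≤ Nat.card ↥B * Nat.card ↥(fx M B) →
        Nat.card (M ⧸ Z) ≤ Nat.card ↥B * Nat.card ↥(fx (M ⧸ Z) B) := fun {B} hB =>
      Nat.le_of_mul_le_mul_right (c := Nat.card ↥Z) (by
        rw [← hcardM, mul_assoc]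
        exact hB.trans (Nat.mul_le_mul_left _ (hpre B).1)) Nat.card_pos
    obtain ⟨B₀, -, hB₀⟩ := exists_member hA₀.ne hA₀.pA hA₀.comm (hoff' hA₀.off)
    have hs : Setting p T Mx (M ⧸ Z) := by
      refine ⟨hexp', hfaith', hsyl, hproper, huniq, hcore, fun g hg => ?_⟩
      let H : Subgroup Γ :=
        { carrier := {g | ∀ z ∈ fx (M ⧸ Z) (T : Subgroup Γ), g • z = z}
          one_mem' := fun z _ => one_smul Γ z
          mul_mem' := fun {a b} ha hb z hz => by rw [mul_smul, hb z hz, ha z hz]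
          inv_mem' := fun {a} ha z hz => by rw [inv_smul_eq_iff, ha z hz] }
      exact huniq H (fun t ht z hz => hz t ht) (fun e => ih (M ⧸ Z) hquot hexp' hfaith' ⟨B₀, hB₀⟩
        fun z hz g _ => (show g ∈ H from e ▸ Subgroup.mem_top g) z hz) hg
    -- a member of the module inside `T` contains one of the quotient
    obtain ⟨P, hP⟩ := hA₀.pA.exists_le_sylow
    obtain ⟨g₀, hg₀⟩ := MulAction.exists_smul_eq Γ P T
    set B := conjSub g₀ A₀ with hB
    have hBm : Member p M B := hA₀.conj g₀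
    have hBT : B ≤ (T : Subgroup Γ) := by
      rw [← hg₀, Sylow.coe_subgroup_smul]; exact conjSub_mono g₀ hP
    obtain ⟨hub, hsup⟩ := hs.bound (Nat.card ↥B + 1) B (Nat.lt_succ_self _) hBT hBm.comm
    have hBq := hoff' hBm.off
    have hfull : (fx (M ⧸ Z) B).comap π = fx M B := by
      refine (AddSubgroup.eq_of_le_of_card_ge (fun v hv g hg => by rw [hπs, hv g hg]) ?_).symm
      rw [(hpre B).2]
      refine Nat.le_of_mul_le_mul_left ?_ (Nat.card_pos (α := ↥B))
      rw [← mul_assoc]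
      calc Nat.card ↥B * Nat.card ↥(fx (M ⧸ Z) B) * Nat.card ↥Z ≤ Nat.card (M ⧸ Z) * Nat.card ↥Z :=
            Nat.mul_le_mul_right _ hub
        _ = Nat.card M := hcardM.symm
        _ ≤ _ := hBm.off
    have htop := (hsup hBq).1
    obtain ⟨A, hAB, hA⟩ := exists_member hBm.ne hBm.pA hBm.comm hBq
    have hAI : InT p T (M ⧸ Z) A := ⟨hA, hAB.trans hBT⟩
    -- that member fixes the whole preimage of its fixed points
    set X := (fx (M ⧸ Z) A).comap π with hX
    have hXfix : X ≤ fx M A := by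
      intro u hu a ha
      rw [← sub_eq_zero]
      let δ : ↥X →+ M := ((DistribSMul.toAddMonoidHom M a - AddMonoidHom.id M)).comp X.subtype
      let U : AddSubgroup (M ⧸ Z) := δ.ker.map (π.comp X.subtype)
      have hker : ∀ x : ↥X, π (x : M) ∈ U → δ x = 0 := by
        rintro x ⟨x', hx', e⟩
        have hz : (x : M) - x' ∈ Z := (hπ0 _).1 (by rw [map_sub]; exact sub_eq_zero.2 e.symm)
        have h1 : a • (x' : M) - x' = 0 := hx'
        show a • (x : M) - x = 0
        rw [show (x : M) = ((x : M) - x') + x' by abel, smul_add, hZfix a _ hz, add_sub_add_left_eq_sub, h1]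
      suffices hU : fx (M ⧸ Z) A ≤ U from hker ⟨u, hu⟩ (hU hu)
      have hUB : fx (M ⧸ Z) B ≤ U := by
        intro z hz
        obtain ⟨m, rfl⟩ := QuotientAddGroup.mk'_surjective Z z
        refine ⟨⟨m, show π m ∈ fx (M ⧸ Z) A from fx_anti hAB hz⟩, ?_, rfl⟩
        have h1 : m ∈ fx M B := hfull ▸ (show π m ∈ fx (M ⧸ Z) B from hz)
        show a • m - m = 0
        rw [h1 a (hAB ha), sub_self]
      have hUW : ∀ C : {C : Subgroup Γ // InT p T (M ⧸ Z) C ∧ C ≤ B}, C.1 ≠ A →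
          mv (M ⧸ Z) (blk p T (M ⧸ Z) C.1) ≤ U := by
        intro C hne
        set LC := blk p T (M ⧸ Z) C.1 with hLC
        have hWA : mv (M ⧸ Z) LC ≤ fx (M ⧸ Z) A := InT.mv_le_fix hs C.2.1 hAI hne.symm
        set W' : AddSubgroup (M ⧸ Z) :=
          AddSubgroup.closure {z | ∃ g ∈ LC, ∃ w ∈ mv (M ⧸ Z) LC, g • w - w = z} with hW'
        have hW'U : W' ≤ U := by
          refine (AddSubgroup.closure_le U).2 ?_
          rintro _ ⟨g, hg, w, hw, rfl⟩
          obtain ⟨m, rfl⟩ := QuotientAddGroup.mk'_surjective Z w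
          have hmX : m ∈ X := hWA hw
          have hgX : g • m ∈ X := by
            show π (g • m) ∈ fx (M ⧸ Z) A
            rw [← hπs]
            exact hWA (smul_mem_mv (Subgroup.le_normalizer hg) hw)
          refine ⟨⟨g • m - m, sub_mem hgX hmX⟩, ?_, ?_⟩
          · show a • (g • m - m) - (g • m - m) = 0
            rw [smul_sub, ← mul_smul, InT.blk_comm hs C.2.1 hAI hne.symm a ha g hg, mul_smul,
              show g • a • m - a • m - (g • m - m) = (g • a • m - g • m) - (a • m - m) by abel, ← smul_sub,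
              hZfix g _ ((hπfix a m).1 (hWA hw a ha)), sub_self]
          · show π (g • m - m) = g • π m - π m
            rw [map_sub, hπs]
        obtain ⟨c, hc, hc1⟩ : ∃ c ∈ C.1, c ≠ 1 := by
          by_contra hc; push Not at hc; exact C.2.1.1.ne ((Subgroup.eq_bot_iff_forall C.1).2 hc)
        obtain ⟨z, hz⟩ : ∃ z : M ⧸ Z, c • z ≠ z := by
          by_contra hc'; push Not at hc'; exact hc1 (hfaith' c hc')
        obtain ⟨w, hw, d, hd, rfl⟩ := AddSubgroup.mem_sup.1
          ((InT.mv_sup hs C.2.1).ge (AddSubgroup.mem_top z))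
        have hcL := (InT.blk_min hs C.2.1).aLe hc
        have hmem : c • w - w ∈ W' := AddSubgroup.subset_closure ⟨c, hcL, w, hw, rfl⟩
        refine le_trans ((InT.invariant_top hs C.2.1 (U := W') (fun g hg v hv => ?_) hmem fun hd' => ?_).2) hW'U
        · refine AddSubgroup.closure_induction (p := fun v _ => g • v ∈ W') ?_ (by rw [smul_zero]; exact zero_mem _)
            (fun a b _ _ ha hb => by rw [smul_add]; exact add_mem ha hb)
            (fun a _ ha => by rw [smul_neg]; exact neg_mem ha) hv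
          rintro _ ⟨k, hk, v, hv, rfl⟩
          refine AddSubgroup.subset_closure ⟨g * k * g⁻¹, LC.mul_mem (LC.mul_mem hg hk) (LC.inv_mem hg), g • v,
            smul_mem_mv (Subgroup.le_normalizer hg) hv, ?_⟩
          rw [mul_smul, mul_smul, inv_smul_smul, ← smul_sub]
        · refine hz ?_
          rw [smul_add, hd c hcL, sub_eq_zero.1 (InT.cm_disj hs C.2.1 hc (mem_cm.2 ⟨w, rfl⟩) hd')]
      intro z hz
      obtain ⟨x₁, hx₁, x₂, hx₂, rfl⟩ := AddSubgroup.mem_sup.1 (htop.ge (AddSubgroup.mem_top z))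
      -- remove the part of the member itself
      have hsum : ∀ y ∈ (⨆ C : {C : Subgroup Γ // InT p T (M ⧸ Z) C ∧ C ≤ B}, mv (M ⧸ Z) (blk p T (M ⧸ Z) C.1)),
          ∃ w ∈ mv (M ⧸ Z) (blk p T (M ⧸ Z) A), y - w ∈ U ⊓ fx (M ⧸ Z) A := by
        intro y hy
        refine AddSubgroup.iSup_induction _ (C := fun y => ∃ w ∈ mv (M ⧸ Z) (blk p T (M ⧸ Z) A),
          y - w ∈ U ⊓ fx (M ⧸ Z) A) hy (fun C y hy => ?_) ⟨0, zero_mem _, by rw [sub_zero]; exact zero_mem _⟩ ?_
        · by_cases hne : C.1 = A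
          · exact ⟨y, hne ▸ hy, by rw [sub_self]; exact zero_mem _⟩
          · exact ⟨0, zero_mem _, by rw [sub_zero]; exact ⟨hUW C hne hy, InT.mv_le_fix hs C.2.1 hAI (Ne.symm hne) hy⟩⟩
        · rintro y₁ y₂ ⟨w₁, hw₁, h₁⟩ ⟨w₂, hw₂, h₂⟩
          exact ⟨w₁ + w₂, add_mem hw₁ hw₂, by rw [add_sub_add_comm]; exact add_mem h₁ h₂⟩
      obtain ⟨w, hw, hwU⟩ := hsum x₂ hx₂
      have hwA : w ∈ fx (M ⧸ Z) A := by
        rw [show w = (x₁ + x₂) - x₁ - (x₂ - w) by abel]
        exact sub_mem (sub_mem hz (fx_anti hAB hx₁)) hwU.2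
      -- the member's own part is fixed by `B`
      have hwB : w ∈ fx (M ⧸ Z) B := by
        intro b hb
        obtain ⟨a', ha', hk⟩ := InT.exists_split hs hAI hBT hAB hBm.comm b hb
        have hWK : ∀ v ∈ mv (M ⧸ Z) (blk p T (M ⧸ Z) A), (a'⁻¹ * b) • v = v := fun v hv => by
          have hKT : Subgroup.zpowers (a'⁻¹ * b) ≤ (T : Subgroup Γ) :=
            Subgroup.zpowers_le.2 (mul_mem (inv_mem (hAI.2 ha')) (hBT hb))
          refine Top.mv_le_fix hs (InT.piece hs hAI) (InT.top hs hAI) (InT.blk_min hs hAI) (InT.blk_le hs hAI) hKT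
            ?_ hv _ (Subgroup.mem_zpowers _)
          intro c hc l hl
          have hle : Subgroup.zpowers (a'⁻¹ * b) ≤ Subgroup.centralizer {l} :=
            Subgroup.zpowers_le.2 (Subgroup.mem_centralizer_singleton_iff.2 (hk l hl))
          exact Subgroup.mem_centralizer_singleton_iff.1 (hle hc)
        rw [← mul_inv_cancel_left a' b, mul_smul, hWK w hw, hwA a' ha']
      rw [show x₁ + x₂ = x₁ + w + (x₂ - w) by abel]
      exact add_mem (hUB (add_mem hx₁ hwB)) hwU.1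
    have hfxA : fx M A = X := le_antisymm (fun v hv g hg => by rw [hπs, hv g hg]) hXfix
    have hAm : Member p M A := by
      refine ⟨hA.ne, hA.pA, hA.comm, ?_, fun B' hle' hne' hne'' => ?_⟩
      · rw [hfxA, hX, (hpre A).2, ← mul_assoc, hcardM]
        exact Nat.mul_le_mul_right _ hA.off
      · refine lt_of_le_of_lt (Nat.mul_le_mul_left _ (hpre B').1) ?_
        rw [← mul_assoc, hcardM]
        exact Nat.mul_lt_mul_of_pos_right (hA.strict B' hle' hne' hne'') Nat.card_pos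
    -- the natural module upstairs
    set L := blk p T (M ⧸ Z) A with hL
    have hLmin := InT.blk_min hs hAI
    have hAL : A ≤ L := hLmin.aLe
    have hJ := InT.piece hs hAI
    have hAtop := InT.top hs hAI
    have hLN := InT.blk_le hs hAI
    have hDD : ∀ v ∈ fx M L, π v ∈ fx (M ⧸ Z) L := fun v hv g hg => by rw [hπs, hv g hg]
    have hcore' : MinOffender.Core p (A.subgroupOf L) (Mx.subgroupOf L) M := by
      refine
        { prime := Fact.out, exp := hexp, faithful := fun g hg => Subtype.ext (hfaith g fun m => hg m)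
          pA := hA.pA.of_equiv (Subgroup.subgroupOfEquivOfLe hAL).symm
          aComm := fun a ha b hb => Subtype.ext (hA.comm _ ha _ hb)
          off := ?_, proper := ?_, gen := ?_
          quad := fun {a b} ha hb v => hAm.quad hexp ha hb v
          interBot := ?_, moved := ?_ }
      · rw [Nat.card_congr (Subgroup.subgroupOfEquivOfLe hAL).toEquiv, fx_subgroupOf hAL]; exact hAm.off
      · obtain ⟨x, hxL, hx⟩ := SetLike.not_le_iff_exists.1 hLmin.notLe
        exact ⟨⟨x, hxL⟩, hx⟩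
      · intro x hx
        rw [conjSub_subgroupOf, ← Subgroup.subgroupOf_sup hAL
          (le_trans le_sup_right (Top.gen_eq hs hJ hAtop hLmin hLN x.2 hx).le),
          Top.gen_eq hs hJ hAtop hLmin hLN x.2 hx, Subgroup.subgroupOf_self]
      · intro x hx
        rw [Subgroup.eq_bot_iff_forall]
        rintro a ⟨ha, ha'⟩
        rw [conjSub_subgroupOf] at ha'
        refine Subtype.ext (Top.outside hs hJ hAtop (x := (x : Γ)⁻¹)
          ((Subgroup.normalizer (others p T (M ⧸ Z) A : Set Γ)).inv_mem (hLN x.2))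
          (fun e => hx ?_) ha ?_)
        · have := Mx.inv_mem e
          rwa [inv_inv] at this
        · have := mem_conjSub.1 ha'
          simpa using this
      · obtain ⟨z, hz, hzL⟩ := hs.exists_moved T.2 hsyl hLmin.notLe
        obtain ⟨m, rfl⟩ := QuotientAddGroup.mk'_surjective Z z
        refine ⟨m, ?_, ?_, fun E hE hEp => ?_⟩
        · rw [fx_subgroupOf hAL]; exact hXfix (fx_anti hAI.2 hz)
        · rw [fx_top_subgroup]
          exact fun hm => hzL (hDD m hm)
        · rw [Top.no_pgroup hs hJ hAtop hLmin hLN E hE hEp]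
          intro g hg
          rw [Subgroup.mem_bot] at hg
          rw [hg, one_smul]
    have hDfull : (fx (M ⧸ Z) L).comap π = fx M L := by
      refine (AddSubgroup.eq_of_le_of_card_ge (fun v hv => hDD v hv) ?_).symm
      have e1 := hcore'.card_fix
      rw [fx_top_subgroup, fx_subgroupOf hAL, Nat.card_congr (Subgroup.subgroupOfEquivOfLe hAL).toEquiv,
        hfxA, hX, (hpre A).2, Top.card_fix hs hJ hAtop hLmin hLN, mul_assoc] at e1
      exact ((hpre L).2.trans (Nat.eq_of_mul_eq_mul_left Nat.card_pos e1)).le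
    -- sum over the orbit
    set H := (T : Subgroup Γ) ⊓ Subgroup.normalizer (A : Set Γ) with hH
    obtain ⟨a, ha, ha1, hac⟩ := exists_central_mem (T.2.to_le inf_le_left) hA.pA hA.ne
      (inf_le_right : H ≤ Subgroup.normalizer (A : Set Γ))
    obtain ⟨l, hl, hl0, hlf⟩ := exists_fixed_mem (T.2.to_le inf_le_left : IsPGroup p ↥H) hexp (Y := cm M a)
      (fun e => ha1 (hfaith a fun m => sub_eq_zero.1 (by
        have h1 : a • m - m ∈ cm M a := mem_cm.2 ⟨m, rfl⟩
        rwa [e, AddSubgroup.mem_bot] at h1)))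
      fun t ht v hv => by
        have h1 := smul_mem_cm (g := t).2 hv
        rwa [hac t ht, mul_inv_cancel_right] at h1
    have hlD : π l ∉ fx (M ⧸ Z) L := fun hd => hl0 (by
      have hlL : l ∈ fx M L := hDfull ▸ hd
      obtain ⟨m, hm⟩ := mem_cm.1 hl
      obtain ⟨x, hxL, hx⟩ := SetLike.not_le_iff_exists.1 hLmin.notLe
      obtain ⟨v, hv, w, hw, e⟩ := hcore'.exists_add (x := ⟨x, hxL⟩) hx m
      rw [fx_subgroupOf hAL] at hv
      rw [← hm, e, smul_add, hv a ha, add_sub_add_left_eq_sub] at hlL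
      have hw' := hcore'.semireg (x := ⟨x, hxL⟩) hx (a := ⟨a, hAL ha⟩) ha
        (fun e => ha1 (congrArg Subtype.val e)) hw (by rw [fx_top_subgroup]; exact hlL)
      rw [fx_top_subgroup] at hw'
      rw [← hm, e, smul_add, hv a ha, add_sub_add_left_eq_sub, hw' a (hAL ha), sub_self])
    set ι := ↥(T : Subgroup Γ) ⧸ H.subgroupOf (T : Subgroup Γ)
    haveI : Fintype ι := Fintype.ofFinite ι
    classical
    let β : ι → Γ := fun o => ((Quotient.out o : ↥(T : Subgroup Γ)) : Γ)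
    have hβ : ∀ o, β o ∈ (T : Subgroup Γ) := fun o => (Quotient.out o : ↥(T : Subgroup Γ)).2
    set s := ∑ o, β o • l with hsdef
    have hsT : s ∈ fx M (T : Subgroup Γ) := by
      intro t ht
      rw [hsdef, Finset.smul_sum]
      refine Fintype.sum_equiv (MulAction.toPerm (⟨t, ht⟩ : ↥(T : Subgroup Γ))) _ _ fun o => ?_
      show t • β o • l = β ((⟨t, ht⟩ : ↥(T : Subgroup Γ)) • o) • l
      set o' := (⟨t, ht⟩ : ↥(T : Subgroup Γ)) • o with ho'
      have hc : ((⟨t, ht⟩ * Quotient.out o : ↥(T : Subgroup Γ)))⁻¹ * Quotient.out o' ∈ H.subgroupOf (T : Subgroup Γ) := by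
        refine QuotientGroup.eq.1 ?_
        rw [QuotientGroup.out_eq', ← smul_eq_mul, ← MulAction.Quotient.smul_mk]
        exact congrArg ((⟨t, ht⟩ : ↥(T : Subgroup Γ)) • ·) (QuotientGroup.out_eq' o)
      have h1 : ((t * β o)⁻¹ * β o') • l = l := hlf _ hc
      rw [← mul_smul]
      conv_lhs => rw [← h1, ← mul_smul, mul_inv_cancel_left]
    have hsZ := hle hsT
    obtain ⟨o₀⟩ : Nonempty ι := ⟨QuotientGroup.mk 1⟩
    have hCo : ∀ o, InT p T (M ⧸ Z) (conjSub (β o) A) := fun o => InT.conj hs hAI (hβ o)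
    have hcmo : ∀ o, π (β o • l) ∈ cm (M ⧸ Z) (β o * a * (β o)⁻¹) := fun o => by
      rw [← hπs, smul_mem_cm]
      obtain ⟨m, hm⟩ := mem_cm.1 hl
      exact mem_cm.2 ⟨π m, by rw [hπs, ← map_sub, hm]⟩
    have hne : ∀ o o', o ≠ o' → conjSub (β o) A ≠ conjSub (β o') A := fun o o' hne e => hne (by
      rw [← QuotientGroup.out_eq' o, ← QuotientGroup.out_eq' o']
      refine QuotientGroup.eq.2 ⟨(((Quotient.out o : ↥(T : Subgroup Γ)))⁻¹ * Quotient.out o').2,
        conjSub_eq_iff_mem_normalizer.1 ?_⟩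
      show conjSub ((β o)⁻¹ * β o') A = A
      rw [← conjSub_conjSub, ← e, conjSub_conjSub, inv_mul_cancel, conjSub_one])
    have h0 : π s = 0 := (hπ0 s).2 hsZ
    rw [hsdef, map_sum, ← Finset.add_sum_erase _ _ (Finset.mem_univ o₀)] at h0
    have hD₀ : π (β o₀ • l) ∈ fx (M ⧸ Z) (blk p T (M ⧸ Z) (conjSub (β o₀) A)) := by
      rw [eq_neg_of_add_eq_zero_left h0]
      exact neg_mem (sum_mem fun o ho => InT.cm_le_fix hs (hCo o₀) (hCo o)
        (hne o o₀ (Finset.ne_of_mem_erase ho)) (conj_mem_conjSub ha) (hcmo o))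
    rw [blk_conj hs (hβ o₀), mem_fx_conj, hπs, inv_smul_smul] at hD₀
    exact hlD hD₀

/-- The setting follows from the other hypotheses. -/
theorem Setting.of_offender {M : Type v} [AddCommGroup M] [DistribMulAction Γ M] [Finite M]
    (hexp : ∀ m : M, p • m = 0) (hfaith : ∀ g : Γ, (∀ m : M, g • m = m) → g = 1)
    (hsyl : (T : Subgroup Γ) ≤ Mx) (hproper : Mx ≠ ⊤)
    (huniq : ∀ H : Subgroup Γ, (T : Subgroup Γ) ≤ H → H ≠ ⊤ → H ≤ Mx)
    (hcore : ∀ E : Subgroup Γ, E.Normal → IsPGroup p ↥E → E = ⊥) (hex : ∃ A : Subgroup Γ, Member p M A) :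
    Setting p T Mx M := by
  refine ⟨hexp, hfaith, hsyl, hproper, huniq, hcore, fun g hg => ?_⟩
  let H : Subgroup Γ :=
    { carrier := {g | ∀ z ∈ fx M (T : Subgroup Γ), g • z = z}
      one_mem' := fun z _ => one_smul Γ z
      mul_mem' := fun {a b} ha hb z hz => by rw [mul_smul, hb z hz, ha z hz]
      inv_mem' := fun {a} ha z hz => by rw [inv_smul_eq_iff, ha z hz] }
  exact huniq H (fun t ht z hz => hz t ht) (fun e => not_fx_le hsyl hproper huniq hcore (Nat.card M + 1) M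
    (Nat.lt_succ_self _) hexp hfaith hex fun z hz g _ => (show g ∈ H from e ▸ Subgroup.mem_top g) z hz) hg

end CfsgLib.LocalEven.PMinFF
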