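import Cfsg.Agent.Lib.LocalEven.PMinFF.Frame

/-!
Over more than two elements the minimal overgroups act on independent parts of the module.
-/

set_option autoImplicit false
set_option linter.unusedSectionVars false

namespace CfsgLib.LocalEven.PMinFF

open CfsgLib.Fusion (conjSub mem_conjSub conj_mem_conjSub conjSub_conjSub conjSub_one conjSub_mono card_conjSub conjSub_eq_iff_mem_normalizer)
open CfsgLib.LocalEven.MinOffender (fx fx_anti mem_fx_conj smul_mem_fx_conj card_fx_conj)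
open CfsgLib.LocalEven.StrongFF (IsMin fx_subgroupOf fx_top_subgroup cm mem_cm smul_mem_cm)
open CfsgLib.LocalEven.FaithfulBound (upper upper00 upper01 upper10 upper11 sl_ext sl_mul_apply det_eq_one)
open Matrix (SpecialLinearGroup)

/-- The diagonal matrix. -/
def dia {F : Type*} [Field F] (u : Fˣ) : SpecialLinearGroup (Fin 2) F :=
  ⟨!![(u : F), 0; 0, ((u⁻¹ : Fˣ) : F)], by simp [Matrix.det_fin_two]⟩

theorem dia_mul {F : Type*} [Field F] (u v : Fˣ) : dia (u * v) = dia u * dia v := by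
  refine sl_ext ?_ ?_ ?_ ?_ <;> simp only [sl_mul_apply] <;> simp [dia, mul_comm]

theorem dia_pow {F : Type*} [Field F] (u : Fˣ) : ∀ n : ℕ, dia u ^ n = dia (u ^ n)
  | 0 => by
    rw [pow_zero, pow_zero]
    refine sl_ext ?_ ?_ ?_ ?_ <;> simp [dia]
  | n + 1 => by rw [pow_succ, dia_pow u n, ← dia_mul, pow_succ]

variable {Γ : Type*} [Group Γ] [Finite Γ] {M : Type*} [AddCommGroup M] [DistribMulAction Γ M] [Finite M]
variable {p : ℕ} [Fact p.Prime] {T : Sylow p Γ} {Mx : Subgroup Γ} (h : Setting p T Mx M)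
variable {C : Subgroup Γ} (hC : InT p T M C)
include h hC

theorem InT.natural :
    ∃ (F : Type) (_ : Field F) (_ : Fintype F), Fintype.card F = Nat.card ↥C ∧
      ∃ (ρ : ↥(blk p T M C) →* SpecialLinearGroup (Fin 2) F) (ψ : M →+ (Fin 2 → F)), Function.Bijective ρ ∧
        Function.Surjective ψ ∧ (∀ m, ψ m = 0 ↔ m ∈ fx M (blk p T M C)) ∧
        ∀ (g : ↥(blk p T M C)) (m : M), ψ ((g : Γ) • m) = (ρ g).1.mulVec (ψ m) := by
  obtain ⟨TL, hyp⟩ := Top.hyp h (InT.piece h hC) (InT.top h hC) (InT.blk_min h hC) (InT.blk_le h hC)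
  obtain ⟨-, F, iF, iFF, hF, ρ, ψ, hρ, hψs, hψk, hψ⟩ := hyp.main
  exact ⟨F, iF, iFF, hF.trans (Nat.card_congr (Subgroup.subgroupOfEquivOfLe (InT.blk_min h hC).aLe).toEquiv), ρ, ψ, hρ,
    hψs, fun m => by rw [hψk, fx_top_subgroup], hψ⟩

/-- An element of the overgroup normalising the offender and fixing no vector modulo the fixed points. -/
theorem InT.exists_torus (hq : 2 < Nat.card ↥C) : ∃ t ∈ blk p T M C, conjSub t C = C ∧ t ^ (Nat.card ↥C - 1) = 1 ∧
    ∀ v : M, t • v = v → v ∈ fx M (blk p T M C) := by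
  obtain ⟨F, iF, iFF, hF, ρ, ψ, hρ, hψs, hψk, hψ⟩ := InT.natural h hC
  classical
  have hCL : C ≤ (blk p T M C) := (InT.blk_min h hC).aLe
  obtain ⟨v₀, hv₀, hv₀L⟩ : ∃ v ∈ fx M C, v ∉ fx M (blk p T M C) := by
    obtain ⟨z, hz, hzL⟩ := h.exists_moved T.2 h.sylLe (InT.blk_min h hC).notLe
    exact ⟨z, fx_anti hC.2 hz, hzL⟩
  set e := ψ v₀ with he
  have he0 : e ≠ 0 := fun e0 => hv₀L ((hψk v₀).1 e0)
  obtain ⟨g₀, hg₀0, hg₀1⟩ : ∃ g₀ : SpecialLinearGroup (Fin 2) F, g₀.1 0 0 = e 0 ∧ g₀.1 1 0 = e 1 := by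
    by_cases h0 : e 0 = 0
    · have h1 : e 1 ≠ 0 := fun h1 => he0 (funext fun i => by fin_cases i <;> assumption)
      exact ⟨⟨!![e 0, -(e 1)⁻¹; e 1, 0], by simp [Matrix.det_fin_two, h1]⟩, rfl, rfl⟩
    · exact ⟨⟨!![e 0, 0; e 1, (e 0)⁻¹], by simp [Matrix.det_fin_two, h0]⟩, rfl, rfl⟩
  have hge : g₀.1.mulVec ![1, 0] = e := by
    funext i
    fin_cases i <;> simp [Matrix.mulVec, Fin.sum_univ_two, dotProduct, hg₀0, hg₀1]
  let θ : ↥C → SpecialLinearGroup (Fin 2) F := fun c => g₀⁻¹ * ρ ⟨c, hCL c.2⟩ * g₀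
  have hθ : ∀ c, θ c = upper ((θ c).1 0 1) := by
    intro c
    have h1 : (θ c).1.mulVec ![1, 0] = ![1, 0] := by
      have h2 : (ρ ⟨c, hCL c.2⟩).1.mulVec e = e := by rw [he, ← hψ, hv₀ c c.2]
      simp only [θ, Matrix.SpecialLinearGroup.coe_mul]
      rw [← Matrix.mulVec_mulVec, hge, ← Matrix.mulVec_mulVec, h2, ← hge, Matrix.mulVec_mulVec,
        ← Matrix.SpecialLinearGroup.coe_mul, inv_mul_cancel, Matrix.SpecialLinearGroup.coe_one, Matrix.one_mulVec]
    have h00 := congrFun h1 0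
    have h10 := congrFun h1 1
    simp [Matrix.mulVec, Fin.sum_univ_two, dotProduct] at h00 h10
    refine sl_ext ?_ ?_ ?_ ?_
    · rw [upper00]; exact h00
    · rw [upper01]
    · rw [upper10]; exact h10
    · rw [upper11]
      have := det_eq_one (θ c)
      rw [h00, h10] at this
      simpa using this
  have hsurj : ∀ s : F, ∃ c : ↥C, θ c = upper s := by
    let f : ↥C → F := fun c => (θ c).1 0 1
    have hf : Function.Injective f := fun a b hab => by
      have h1 : θ a = θ b := by rw [hθ a, hθ b]; exact congrArg upper hab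
      have h2 := hρ.1 (mul_left_cancel (mul_right_cancel h1))
      exact Subtype.ext (congrArg (fun x : ↥(blk p T M C) => (x : Γ)) h2)
    intro s
    obtain ⟨c, hc⟩ := ((Nat.bijective_iff_injective_and_card f).2 ⟨hf, by
      rw [Nat.card_eq_fintype_card (α := F), hF]⟩).2 s
    exact ⟨c, (hθ c).trans (congrArg upper hc)⟩
  obtain ⟨l, hl⟩ : ∃ l : Fˣ, l ≠ 1 := by
    haveI : Nontrivial Fˣ := by
      rw [← Fintype.one_lt_card_iff_nontrivial, Fintype.card_units, hF]
      omega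
    exact exists_ne 1
  obtain ⟨⟨t, htL⟩, ht⟩ := hρ.2 (g₀ * dia l * g₀⁻¹)
  refine ⟨t, htL, ?_, ?_, ?_⟩
  · refine Subgroup.eq_of_le_of_card_ge ?_ (card_conjSub t C).ge
    rintro _ ⟨c, hc, rfl⟩
    obtain ⟨c', hc'⟩ := hsurj ((l : F) * (θ ⟨c, hc⟩).1 0 1 * (l : F))
    have e1 : θ c' = dia l * θ ⟨c, hc⟩ * (dia l)⁻¹ := by
      rw [hc', hθ ⟨c, hc⟩, eq_mul_inv_iff_mul_eq]
      refine sl_ext ?_ ?_ ?_ ?_ <;> simp only [sl_mul_apply] <;> simp [dia, upper, mul_comm, mul_left_comm]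
    have e2 : ρ ⟨c', hCL c'.2⟩ = ρ (⟨t, htL⟩ * ⟨c, hCL hc⟩ * ⟨t, htL⟩⁻¹) := by
      rw [map_mul, map_mul, map_inv, ht,
        show ρ ⟨c', hCL c'.2⟩ = g₀ * θ c' * g₀⁻¹ by simp only [θ]; group, e1]
      simp only [θ]
      group
    have e3 := congrArg (fun x : ↥(blk p T M C) => (x : Γ)) (hρ.1 e2)
    simp only [Subgroup.coe_mul, Subgroup.coe_inv] at e3
    show t * c * t⁻¹ ∈ C
    rw [← e3]
    exact c'.2
  · have h1 : ρ (⟨t, htL⟩ ^ (Nat.card ↥C - 1)) = 1 := by
      rw [map_pow, ht, conj_pow, dia_pow, show l ^ (Nat.card ↥C - 1) = 1 by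
        rw [← hF, ← Fintype.card_units]; exact pow_card_eq_one]
      have : dia (1 : Fˣ) = 1 := by refine sl_ext ?_ ?_ ?_ ?_ <;> simp [dia]
      rw [this]; group
    exact congrArg (fun x : ↥(blk p T M C) => (x : Γ)) (hρ.1 (h1.trans (map_one ρ).symm))
  · intro v hv
    rw [← hψk]
    have h1 := hψ ⟨t, htL⟩ v
    rw [show ((⟨t, htL⟩ : ↥(blk p T M C)) : Γ) • v = v from hv, ht] at h1
    set u := (g₀⁻¹).1.mulVec (ψ v) with hu
    have h2 : (dia l).1.mulVec u = u := by
      conv_rhs => rw [hu, h1]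
      rw [hu, Matrix.mulVec_mulVec, Matrix.mulVec_mulVec, ← Matrix.SpecialLinearGroup.coe_mul,
        ← Matrix.SpecialLinearGroup.coe_mul]
      congr 2
      simp only [mul_assoc, inv_mul_cancel_left]
      rfl
    have h3 : u = 0 := by
      have a0 := congrFun h2 0
      have a1 := congrFun h2 1
      simp [dia, Matrix.mulVec, Fin.sum_univ_two, dotProduct] at a0 a1
      have hl' : (l : F) ≠ 1 := fun e => hl (Units.ext e)
      funext i
      fin_cases i
      · show u 0 = 0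
        by_contra hne
        exact hl' (mul_right_cancel₀ hne (a0.trans (one_mul _).symm))
      · show u 1 = 0
        by_contra hne
        have := mul_right_cancel₀ hne (a1.trans (one_mul _).symm)
        exact hl' (by rw [← inv_inv (l : F), this, inv_one])
    have h4 : g₀.1.mulVec u = ψ v := by
      rw [hu, Matrix.mulVec_mulVec, ← Matrix.SpecialLinearGroup.coe_mul, mul_inv_cancel,
        Matrix.SpecialLinearGroup.coe_one, Matrix.one_mulVec]
    rw [← h4, h3, Matrix.mulVec_zero]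

omit hC in
/-- Over more than two elements the other module commutators are fixed. -/
theorem InT.orth {A B : Subgroup Γ} (hA : InT p T M A) (hB : InT p T M B) (hne : A ≠ B) (hq : 2 < Nat.card ↥A) :
    mv M (blk p T M B) ≤ fx M (blk p T M A) := by
  obtain ⟨t, htL, htA, htpow, htfix⟩ := InT.exists_torus h hA hq
  obtain ⟨b, hb, hb1⟩ : ∃ b ∈ B, b ≠ 1 := by
    by_contra hc; push Not at hc; exact hB.1.ne ((Subgroup.eq_bot_iff_forall B).2 hc)
  set LB := blk p T M B
  set D := fx M LB with hD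
  have htcomm : ∀ {E : Subgroup Γ}, InT p T M E → E ≠ A → ∀ c ∈ E, t * c = c * t := fun hE hEne c hc =>
    (InT.blk_comm h hA hE hEne c hc t htL).symm
  have htfixE : ∀ {E : Subgroup Γ}, InT p T M E → conjSub t E = E := by
    intro E hE
    by_cases hEA : E = A
    · rw [hEA, htA]
    refine conjSub_eq_iff_mem_normalizer.2 (CfsgLib.Fusion.mem_normalizer_of_forall fun c hc => ?_)
    rw [htcomm hE hEA c hc, mul_inv_cancel_right]
    exact hc
  have htnorm : t ∈ Subgroup.normalizer (others p T M B : Set Γ) := by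
    refine CfsgLib.Fusion.mem_normalizer_of_forall fun c hc => ?_
    have hle : conjSub t (others p T M B) ≤ others p T M B := by
      rw [conjSub, Subgroup.map_le_iff_le_comap]
      exact sSup_le fun E hE => Subgroup.map_le_iff_le_comap.1
        ((htfixE (E := E) ⟨hE.1, hE.2.1⟩).le.trans (le_sSup hE))
    exact hle (conj_mem_conjSub hc)
  have htLB : t ∈ Subgroup.normalizer (LB : Set Γ) := conjSub_eq_iff_mem_normalizer.1 (comp_conj htnorm)
  have htb : t * b = b * t := htcomm hB hne.symm b hb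
  have htc : ∀ u ∈ cm M b, t • u = u := fun u hu => InT.cm_le_fix h hA hB hne.symm hb hu t htL
  have htX : ∀ v : M, t • v - v ∈ fx M B := fun v => InT.fix_of h hB hb hb1 (sub_eq_zero.1 (by
    have h1 : t • (b • v - v) = b • v - v := htc _ (mem_cm.2 ⟨v, rfl⟩)
    rw [smul_sub, ← mul_smul, htb, mul_smul] at h1
    rw [smul_sub, sub_sub_sub_comm, h1, sub_self]))
  have htX' : ∀ u ∈ fx M B, t • u - u ∈ D := by
    intro u hu
    obtain ⟨c, hc, d, hd, rfl⟩ : ∃ c ∈ cm M b, ∃ d ∈ D, c + d = u := AddSubgroup.mem_sup.1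
      ((Top.cm_sup h (InT.piece h hB) (InT.top h hB) (InT.blk_min h hB) (InT.blk_le h hB) hb hb1).ge hu)
    rw [smul_add, htc c hc, add_sub_add_left_eq_sub]
    exact sub_mem (smul_mem_fx htLB hd) hd
  have hpow : ∀ (v : M) (k : ℕ), t ^ k • v - v - k • (t • v - v) ∈ D := by
    intro v k
    induction k with
    | zero => simp [zero_mem]
    | succ k ih =>
      have key : ∀ w d : M, d = t • v - v → t • w - v - (k + 1) • d = t • (w - v - k • d) + k • (t • d - d) := by
        intro w d hd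
        rw [succ_nsmul, smul_sub, smul_sub, smul_comm t k d, nsmul_sub, show t • v = d + v by rw [hd]; abel]
        abel
      rw [pow_succ', mul_smul, key _ _ rfl]
      exact add_mem (smul_mem_fx htLB ih) (D.nsmul_mem (htX' _ (htX v)) k)
  have htD : ∀ v : M, t • v - v ∈ D := by
    intro v
    have h1 := hpow v (Nat.card ↥A - 1)
    rw [htpow, one_smul, sub_self, zero_sub] at h1
    have h2 : (Nat.card ↥A - 1) • (t • v - v) ∈ D := neg_mem_iff.1 h1
    haveI : Nontrivial ↥A := (Subgroup.nontrivial_iff_ne_bot A).2 hA.1.ne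
    obtain ⟨n, hn0, hn⟩ := hA.1.pA.nontrivial_iff_card.1 inferInstance
    have h3 : Nat.card ↥A • (t • v - v) ∈ D := by
      rw [hn, show n = n - 1 + 1 by omega, pow_succ, mul_nsmul', h.exp, smul_zero]
      exact zero_mem _
    rw [show Nat.card ↥A = Nat.card ↥A - 1 + 1 by omega, succ_nsmul] at h3
    have h4 := sub_mem h3 h2
    rwa [add_sub_cancel_left] at h4
  have htcent : ∀ l ∈ LB, t * l = l * t := by
    intro l hl
    have hl' : t * l * t⁻¹ * l⁻¹ ∈ LB :=
      LB.mul_mem ((Subgroup.mem_normalizer_iff.1 htLB l).1 hl) (LB.inv_mem hl)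
    refine mul_inv_eq_iff_eq_mul.1 (mul_inv_eq_one.1 (InT.triv_quot h hB hl' fun m => ?_))
    obtain ⟨v, rfl⟩ : ∃ v, (l * t) • v = m := ⟨(l * t)⁻¹ • m, smul_inv_smul _ _⟩
    rw [← mul_smul, show t * l * t⁻¹ * l⁻¹ * (l * t) = t * l by group, mul_smul, mul_smul,
      show t • l • v - l • t • v = (t • l • v - l • v) - l • (t • v - v) by rw [smul_sub]; abel,
      htD v l hl]
    exact sub_mem (htD _) (htD v)
  let U : AddSubgroup M :=
    { carrier := {v | t • v = v}
      zero_mem' := smul_zero t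
      add_mem' := fun {u v} hu hv => by rw [Set.mem_setOf_eq] at *; rw [smul_add, hu, hv]
      neg_mem' := fun {u} hu => by rw [Set.mem_setOf_eq] at *; rw [smul_neg, hu] }
  obtain ⟨m, hm⟩ : ∃ m : M, b • m ≠ m := by
    by_contra hc; push Not at hc; exact hb1 (h.faithful b hc)
  obtain ⟨-, hle⟩ := InT.invariant_top h hB (U := U)
    (fun l hl v (hv : t • v = v) => show t • l • v = l • v by rw [← mul_smul, htcent l hl, mul_smul, hv])
    (u := b • m - m) (htc _ (mem_cm.2 ⟨m, rfl⟩))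
    fun hd => sub_ne_zero.2 hm (InT.cm_disj h hB hb (mem_cm.2 ⟨m, rfl⟩) hd)
  exact fun v hv => htfix v (hle hv)

end CfsgLib.LocalEven.PMinFF
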