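import Cfsg.Agent.Lib.LocalEven.PMinFF.Transvection

/-!
The group is the product of the Sylow subgroup and commuting blocks, special linear or symmetric on their modules.
-/

set_option autoImplicit false
set_option linter.unusedSectionVars false

namespace CfsgLib.LocalEven.PMinFF

open CfsgLib.Fusion (conjSub mem_conjSub conj_mem_conjSub conjSub_conjSub conjSub_one conjSub_mono card_conjSub conjSub_eq_iff_mem_normalizer)
open CfsgLib.LocalEven.MinOffender (fx fx_anti mem_fx_conj smul_mem_fx_conj card_fx_conj)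
open CfsgLib.LocalEven.StrongFF (IsMin cm mem_cm smul_mem_cm)
open Matrix (SpecialLinearGroup)

variable {Γ : Type*} [Group Γ] [Finite Γ] {M : Type*} [AddCommGroup M] [DistribMulAction Γ M] [Finite M]

theorem mem_fx_iSup {ι : Sort*} {E : ι → Subgroup Γ} {v : M} (hv : ∀ i, v ∈ fx M (E i)) :
    v ∈ fx M (⨆ i, E i) := by
  have hle : (⨆ i, E i) ≤ MulAction.stabilizer Γ v := iSup_le fun i g hg => hv i g hg
  exact fun g hg => hle hg

theorem smul_mem_mv_conj {t : Γ} {L : Subgroup Γ} {v : M} (hv : v ∈ mv M L) : t • v ∈ mv M (conjSub t L) := by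
  refine AddSubgroup.closure_induction (p := fun v _ => t • v ∈ mv M (conjSub t L)) ?_
    (by rw [smul_zero]; exact zero_mem _) (fun a b _ _ ha hb => by rw [smul_add]; exact add_mem ha hb)
    (fun a _ ha => by rw [smul_neg]; exact neg_mem ha) hv
  rintro _ ⟨g, hg, m, rfl⟩
  have h1 := sub_mem_mv (M := M) (conj_mem_conjSub (g := t) hg) (t • m)
  rwa [mul_smul, mul_smul, inv_smul_smul, ← smul_sub] at h1

/-- The natural or the even permutation module, split off by a block. -/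
def Block (p : ℕ) (M : Type*) [AddCommGroup M] [DistribMulAction Γ M] (E : Subgroup Γ) : Prop :=
  mv M E ⊔ fx M E = ⊤ ∧ ∃ n : ℕ, 1 ≤ n ∧
    ((∃ (F : Type) (_ : Field F) (_ : Fintype F), Fintype.card F = p ^ n ∧
      ∃ (ρ : ↥E →* SpecialLinearGroup (Fin 2) F) (ψ : M →+ (Fin 2 → F)), Function.Bijective ρ ∧
        Function.Surjective ψ ∧ (∀ m, ψ m = 0 ↔ m ∈ fx M E) ∧
        ∀ (g : ↥E) (m : M), ψ ((g : Γ) • m) = (ρ g).1.mulVec (ψ m)) ∨
    (p = 2 ∧ ∃ (ρ : ↥E →* Equiv.Perm (Fin (2 ^ n + 1))) (ψ : M →+ (Fin (2 ^ n + 1) → ZMod 2)),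
      Function.Bijective ρ ∧ (∀ m, ∑ i, ψ m i = 0) ∧
      (∀ w : Fin (2 ^ n + 1) → ZMod 2, ∑ i, w i = 0 → ∃ m, ψ m = w) ∧
      (∀ m, ψ m = 0 ↔ m ∈ fx M E) ∧ ∀ (g : ↥E) (m : M) i, ψ ((g : Γ) • m) i = ψ m ((ρ g)⁻¹ i)))

variable {p : ℕ} [Fact p.Prime] {T : Sylow p Γ} {Mx : Subgroup Γ} (h : Setting p T Mx M)
include h

theorem InT.exists_ne_one {C : Subgroup Γ} (hC : InT p T M C) : ∃ a ∈ C, a ≠ 1 := by
  by_contra hc
  push Not at hc
  exact hC.1.ne ((Subgroup.eq_bot_iff_forall C).2 hc)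

theorem Link.conj {B C : Subgroup Γ} {t : Γ} (ht : t ∈ (T : Subgroup Γ)) (hl : Link p T M B C) :
    Link p T M (conjSub t B) (conjSub t C) := by
  rcases hl with rfl | hl
  · exact Or.inl rfl
  refine Or.inr fun hle => hl fun v hv => ?_
  rw [blk_conj h ht, blk_conj h ht] at hle
  have h1 := mem_fx_conj.1 (hle (smul_mem_mv_conj (t := t) hv))
  rwa [inv_smul_smul] at h1

/-- The order of a member is two only at the prime two. -/
theorem two_of_card {C : Subgroup Γ} (hC : InT p T M C) (h2 : Nat.card ↥C = 2) : p = 2 := by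
  haveI : Nontrivial ↥C := (Subgroup.nontrivial_iff_ne_bot C).2 hC.1.ne
  obtain ⟨n, hn0, hn⟩ := hC.1.pA.nontrivial_iff_card.1 inferInstance
  rw [h2] at hn
  exact (Nat.prime_dvd_prime_iff_eq Fact.out Nat.prime_two).1 (hn ▸ dvd_pow_self p (by omega))

theorem two_lt_card {C : Subgroup Γ} (hC : InT p T M C) (h2 : Nat.card ↥C ≠ 2) : 2 < Nat.card ↥C := by
  have := (Subgroup.one_lt_card_iff_ne_bot C).2 hC.1.ne
  omega

theorem Link.eq_of_card {B C : Subgroup Γ} (hB : InT p T M B) (hC : InT p T M C) (h2 : Nat.card ↥B ≠ 2)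
    (hl : Link p T M B C) : B = C :=
  hl.elim id fun hl => by_contra fun hne => hl (InT.orth h hB hC hne (two_lt_card h hB h2))

theorem Link.symm' {B C : Subgroup Γ} (hB : InT p T M B) (hC : InT p T M C) (hl : Link p T M B C) :
    Link p T M C B := by
  by_cases h2 : Nat.card ↥B = 2
  · obtain rfl := two_of_card h hB h2
    letI : Module (ZMod 2) M := AddCommGroup.zmodModule h.exp
    exact Link.symm h (fun hD => (InT.card_eq h hB hD).trans h2) hB hC hl
  · exact Or.inl (Link.eq_of_card h hB hC h2 hl).symm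

theorem Link.trans' {B C E : Subgroup Γ} (hB : InT p T M B) (hC : InT p T M C) (hE : InT p T M E)
    (hl : Link p T M B C) (hl' : Link p T M C E) : Link p T M B E := by
  by_cases h2 : Nat.card ↥B = 2
  · obtain rfl := two_of_card h hB h2
    letI : Module (ZMod 2) M := AddCommGroup.zmodModule h.exp
    exact Link.trans h (fun hD => (InT.card_eq h hB hD).trans h2) hB hC hE hl hl'
  · exact Link.eq_of_card h hB hC h2 hl ▸ hl'

omit h in
/-- The block of the class of a member. -/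
def cls (p : ℕ) (T : Sylow p Γ) (M : Type*) [AddCommGroup M] [DistribMulAction Γ M] (C : Subgroup Γ) : Subgroup Γ :=
  ⨆ B : {B : Subgroup Γ // InT p T M B ∧ Link p T M C B}, blk p T M B.1

theorem cls_eq {B C : Subgroup Γ} (hB : InT p T M B) (hC : InT p T M C) (hl : Link p T M B C) :
    cls p T M B = cls p T M C := by
  refine le_antisymm (iSup_le fun D => ?_) (iSup_le fun D => ?_)
  · exact le_iSup (fun D : {D : Subgroup Γ // InT p T M D ∧ Link p T M C D} => blk p T M D.1)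
      ⟨D.1, D.2.1, Link.trans' h hC hB D.2.1 (Link.symm' h hB hC hl) D.2.2⟩
  · exact le_iSup (fun D : {D : Subgroup Γ // InT p T M D ∧ Link p T M B D} => blk p T M D.1)
      ⟨D.1, D.2.1, Link.trans' h hB hC D.2.1 hl D.2.2⟩

theorem cls_conj {C : Subgroup Γ} {t : Γ} (ht : t ∈ (T : Subgroup Γ)) :
    conjSub t (cls p T M C) = cls p T M (conjSub t C) := by
  rw [cls, conjSub_iSup]
  refine le_antisymm (iSup_le fun D => ?_) (iSup_le fun D => ?_)
  · rw [← blk_conj h ht]
    exact le_iSup (fun D : {D : Subgroup Γ // InT p T M D ∧ Link p T M (conjSub t C) D} => blk p T M D.1)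
      ⟨_, InT.conj h D.2.1 ht, Link.conj h ht D.2.2⟩
  · have h1 := Link.conj h (inv_mem ht) D.2.2
    rw [conjSub_conjSub, inv_mul_cancel, conjSub_one] at h1
    refine le_trans (le_of_eq ?_) (le_iSup (fun D : {D : Subgroup Γ // InT p T M D ∧ Link p T M C D} =>
      conjSub t (blk p T M D.1)) ⟨_, InT.conj h D.2.1 (inv_mem ht), h1⟩)
    rw [← blk_conj h ht, conjSub_inv_cancel]

/-- Members of different classes fix each other's module commutators. -/
theorem cls_orth {B C : Subgroup Γ} (hB : InT p T M B) (hC : InT p T M C) (hne : cls p T M B ≠ cls p T M C) :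
    mv M (cls p T M B) ≤ fx M (cls p T M C) := by
  let U := fx M (cls p T M C)
  have hle : ∀ D : {D : Subgroup Γ // InT p T M D ∧ Link p T M B D}, mv M (blk p T M D.1) ≤ U := fun D v hv =>
    mem_fx_iSup fun F => by
      by_contra hn
      have hl : Link p T M F.1 D.1 := Or.inr fun hle => hn (hle hv)
      exact hne ((cls_eq h hB D.2.1 D.2.2).trans ((cls_eq h F.2.1 D.2.1 hl).symm.trans (cls_eq h hC F.2.1 F.2.2).symm))
  have hle' : ∀ D : {D : Subgroup Γ // InT p T M D ∧ Link p T M B D}, ∀ g ∈ blk p T M D.1, ∀ m : M, g • m - m ∈ U :=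
    fun D g hg m => hle D (sub_mem_mv hg m)
  refine mv_le_of_gen (S := ⋃ D : {D : Subgroup Γ // InT p T M D ∧ Link p T M B D}, (blk p T M D.1 : Set Γ))
    (iSup_le fun D g hg => Subgroup.subset_closure (Set.mem_iUnion.2 ⟨D, hg⟩)) ?_
  intro g hg
  obtain ⟨D, hD⟩ := Set.mem_iUnion.1 hg
  exact hle' D g hD

/-- A class is a power of two in size. -/
theorem card_cls {C : Subgroup Γ} (hC : InT p T M C) :
    ∃ m : ℕ, Nat.card {B : Subgroup Γ // InT p T M B ∧ Link p T M C B} = p ^ m := by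
  let H : Subgroup Γ :=
    { carrier := {t | t ∈ (T : Subgroup Γ) ∧ Link p T M C (conjSub t C)}
      one_mem' := ⟨one_mem _, Or.inl (conjSub_one C).symm⟩
      mul_mem' := fun {a b} ha hb => ⟨mul_mem ha.1 hb.1, by
        have h1 := Link.conj h ha.1 hb.2
        rw [conjSub_conjSub] at h1
        exact Link.trans' h hC (InT.conj h hC ha.1) (InT.conj h hC (mul_mem ha.1 hb.1)) ha.2 h1⟩
      inv_mem' := fun {a} ha => ⟨inv_mem ha.1, by
        have h1 := Link.conj h (inv_mem ha.1) ha.2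
        rw [conjSub_conjSub, inv_mul_cancel, conjSub_one] at h1
        exact Link.symm' h (InT.conj h hC (inv_mem ha.1)) hC h1⟩ }
  letI : MulAction ↥H (Subgroup Γ) :=
    { smul := fun t B => conjSub (t : Γ) B
      one_smul := fun B => conjSub_one B
      mul_smul := fun a b B => (conjSub_conjSub (a : Γ) (b : Γ) B).symm }
  have hH : IsPGroup p ↥H := T.2.to_le fun t ht => ht.1
  obtain ⟨m, hm⟩ := hH.card_orbit C
  refine ⟨m, hm ▸ Nat.card_congr (Equiv.subtypeEquivRight fun B => ⟨fun hB => ?_, ?_⟩)⟩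
  · obtain ⟨t, ht, rfl⟩ := InT.exists_conj h hC hB.1
    exact ⟨⟨t, ht, hB.2⟩, rfl⟩
  · rintro ⟨t, rfl⟩
    exact ⟨InT.conj h hC t.2.1, t.2.2⟩

/-- The block of a class is special linear or symmetric. -/
theorem cls_block {C : Subgroup Γ} (hC : InT p T M C) : Block p M (cls p T M C) := by
  classical
  by_cases h2 : Nat.card ↥C = 2
  swap
  · have he : cls p T M C = blk p T M C := le_antisymm
      (iSup_le fun D => by rw [← Link.eq_of_card h hC D.2.1 h2 D.2.2])
      (le_iSup (fun D : {D : Subgroup Γ // InT p T M D ∧ Link p T M C D} => blk p T M D.1) ⟨C, hC, Or.inl rfl⟩)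
    rw [he]
    refine ⟨InT.mv_sup h hC, ?_⟩
    haveI : Nontrivial ↥C := (Subgroup.nontrivial_iff_ne_bot C).2 hC.1.ne
    obtain ⟨n, hn0, hn⟩ := hC.1.pA.nontrivial_iff_card.1 inferInstance
    obtain ⟨F, iF, iFF, hF, ρ, ψ, hρ, hψs, hψk, hψ⟩ := InT.natural h hC
    exact ⟨n, hn0, Or.inl ⟨F, iF, iFF, hF.trans hn, ρ, ψ, hρ, hψs, hψk, hψ⟩⟩
  obtain rfl := two_of_card h hC h2
  letI : Module (ZMod 2) M := AddCommGroup.zmodModule h.exp
  have hall : ∀ {D : Subgroup Γ}, InT 2 T M D → Nat.card ↥D = 2 := fun hD => (InT.card_eq h hC hD).trans h2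
  set K := {B : Subgroup Γ // InT 2 T M B ∧ Link 2 T M C B} with hK
  haveI : Fintype K := Fintype.ofFinite K
  haveI : Nonempty K := ⟨⟨C, hC, Or.inl rfl⟩⟩
  choose a b e f α β hP using fun D : K => InT.exists_pair h D.2.1 (hall D.2.1)
  have htab : ∀ D D' : K, D ≠ D' → α D (e D') = 0 ∧ α D (f D') = 0 ∧ β D (e D') = 0 ∧ β D (f D') = 1 := by
    intro D D' hne
    have hne' : D.1 ≠ D'.1 := fun e => hne (Subtype.ext e)
    obtain ⟨t1, t2, t3⟩ := Pair.table h D.2.1 D'.2.1 hne' (hP D) (hP D')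
    exact ⟨t1, t2, t3, (Pair.link_iff h D.2.1 D'.2.1 hne' (hP D) (hP D')).1
      (Link.trans' h D.2.1 hC D'.2.1 (Link.symm' h hC D.2.1 D.2.2) D'.2.2)⟩
  let t : K × Bool → Γ := fun s => if s.2 then a s.1 * b s.1 * a s.1 else b s.1
  let u : K × Bool → M := fun s => if s.2 then f s.1 + e s.1 else f s.1
  let φ : K × Bool → M →ₗ[ZMod 2] ZMod 2 := fun s => if s.2 then β s.1 + α s.1 else β s.1
  have htv : ∀ s, IsTv (t s) (u s) (φ s) := by
    rintro ⟨D, x⟩
    cases x
    · exact (hP D).tvb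
    · have h1 := (hP D).tvb.conj (hP D).tva (hP D).ae
      rwa [(hP D).af, (hP D).be, one_smul, one_smul] at h1
  have hgram : ∀ s s', φ s (u s') = if s = s' then 0 else 1 := by
    rintro ⟨D, x⟩ ⟨D', x'⟩
    by_cases hD : D = D'
    · subst hD
      cases x <;> cases x' <;>
        simp [φ, u, (hP D).ae, (hP D).af, (hP D).be, (hP D).bf, CharTwo.add_self_eq_zero]
    · obtain ⟨t1, t2, t3, t4⟩ := htab D D' hD
      cases x <;> cases x' <;> simp [φ, u, hD, t1, t2, t3, t4]
  have hE : cls 2 T M C = Subgroup.closure (Set.range t) := by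
    refine le_antisymm (iSup_le fun D => ?_) ((Subgroup.closure_le _).2 ?_)
    · refine (hP D).le.trans ((Subgroup.closure_le _).2 ?_)
      have hb : b D ∈ Subgroup.closure (Set.range t) := Subgroup.subset_closure ⟨(D, false), rfl⟩
      have hc : t (D, true) ∈ Subgroup.closure (Set.range t) := Subgroup.subset_closure ⟨_, rfl⟩
      rintro _ (rfl | rfl)
      · have h1 := (htv (D, true)).conj (hP D).tvb (hP D).bf
        simp only [φ, u, if_true, map_add, (hP D).bf, (hP D).be, zero_add, one_smul, LinearMap.add_apply, (hP D).af]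
          at h1
        rw [add_right_comm, add_self_zero, zero_add, add_comm (β D) (α D), add_assoc, add_self_zero, add_zero] at h1
        have e1 : b D * t (D, true) * b D = a D := h1.eq_of h.faithful (hP D).tva
        exact e1 ▸ mul_mem (mul_mem hb hc) hb
      · exact hb
    · rintro _ ⟨⟨D, x⟩, rfl⟩
      have hle : blk 2 T M D.1 ≤ cls 2 T M C :=
        le_iSup (fun D : {D : Subgroup Γ // InT 2 T M D ∧ Link 2 T M C D} => blk 2 T M D.1) D
      have ha := (InT.blk_min h D.2.1).aLe (hP D).mem_a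
      cases x
      · exact hle (hP D).mem_b
      · exact hle ((blk 2 T M D.1).mul_mem ((blk 2 T M D.1).mul_mem ha (hP D).mem_b) ha)
  obtain ⟨m, hm⟩ := card_cls h hC
  have hcard : Fintype.card (Option (K × Bool)) = 2 ^ (m + 1) + 1 := by
    rw [Fintype.card_option, Fintype.card_prod, Fintype.card_bool, ← Nat.card_eq_fintype_card, hm, pow_succ]
  obtain ⟨hsup, ρ, ψ, hρ, hsum, hsurj, hker, hψ⟩ := perm_block (by
    rw [Fintype.card_prod, Fintype.card_bool]; exact even_two.mul_left _) h.faithful t u φ htv hgram hE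
  refine ⟨hsup, m + 1, by omega, Or.inr ⟨rfl, ?_⟩⟩
  let ε := Fintype.equivFinOfCardEq hcard
  let ψ' : M →+ (Fin (2 ^ (m + 1) + 1) → ZMod 2) :=
    { toFun := fun v i => ψ v (ε.symm i)
      map_zero' := by funext i; simp
      map_add' := fun a b => by funext i; simp }
  refine ⟨ε.permCongrHom.toMonoidHom.comp ρ, ψ', ε.permCongrHom.bijective.comp hρ,
    fun v => (Equiv.sum_comp ε.symm (ψ v)).trans (hsum v), fun w hw => ?_, fun v => ?_, fun g v i => ?_⟩
  · obtain ⟨v, hv⟩ := hsurj (fun i => w (ε i)) ((Equiv.sum_comp ε w).trans hw)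
    refine ⟨v, funext fun i => ?_⟩
    show ψ v (ε.symm i) = w i
    rw [hv]
    show w (ε (ε.symm i)) = w i
    rw [Equiv.apply_symm_apply]
  · rw [← hker]
    constructor
    · intro e0
      funext i
      have := congrFun e0 (ε i)
      change ψ v (ε.symm (ε i)) = 0 at this
      rwa [Equiv.symm_apply_apply] at this
    · intro e0
      funext i
      show ψ v (ε.symm i) = 0
      rw [e0]; rfl
  · show ψ ((g : Γ) • v) (ε.symm i) = ψ v (ε.symm ((ε.permCongrHom (ρ g))⁻¹ i))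
    rw [hψ, ← map_inv ε.permCongrHom]
    show _ = ψ v (ε.symm (ε ((ρ g)⁻¹ (ε.symm i))))
    rw [Equiv.symm_apply_apply]

/-- The structure. -/
theorem Setting.structure_thm (hex : ∃ A : Subgroup Γ, Member p M A) :
    ∃ (r : ℕ) (E : Fin r → Subgroup Γ), 1 ≤ r ∧ (∀ i j, i ≠ j → ∀ g ∈ E i, ∀ l ∈ E j, g * l = l * g) ∧
      (∀ i, E i ⊓ (⨆ j ∈ {j | j ≠ i}, E j) = ⊥) ∧ (⨆ i, E i) ⊔ (T : Subgroup Γ) = ⊤ ∧
      (∀ i j, ∃ t ∈ (T : Subgroup Γ), conjSub t (E i) = E j) ∧
      (fx M (⨆ i, E i) ⊔ ⨆ i, mv M (E i)) = ⊤ ∧ (∀ i j, i ≠ j → mv M (E i) ≤ fx M (E j)) ∧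
      (∀ i, Block p M (E i)) ∧ (∀ C : Subgroup Γ, InT p T M C → blk p T M C ≤ ⨆ i, E i) ∧
      ∀ i, E i ≤ ⨆ C : {C : Subgroup Γ // InT p T M C}, blk p T M C.1 := by
  classical
  obtain ⟨J, hJ⟩ := h.exists_piece
  obtain ⟨A₀, hA₀, hA₀T⟩ := Piece.exists_top h hJ hex
  have hA : InT p T M A₀ := ⟨hA₀.member, hA₀T⟩
  let 𝒦 : Type _ := {E : Subgroup Γ // ∃ C, InT p T M C ∧ E = cls p T M C}
  haveI : Fintype 𝒦 := Fintype.ofFinite 𝒦
  haveI : Nonempty 𝒦 := ⟨⟨_, A₀, hA, rfl⟩⟩
  let ε : Fin (Fintype.card 𝒦) ≃ 𝒦 := (Fintype.equivFin 𝒦).symm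
  let E : Fin (Fintype.card 𝒦) → Subgroup Γ := fun i => (ε i).1
  choose C hC hEC using fun i => (ε i).2
  have horth : ∀ i j, i ≠ j → mv M (E i) ≤ fx M (E j) := fun i j hne => by
    show mv M (ε i).1 ≤ fx M (ε j).1
    rw [hEC i, hEC j]
    exact cls_orth h (hC i) (hC j) fun e => hne (ε.injective (Subtype.ext ((hEC i).trans (e.trans (hEC j).symm))))
  have hblock : ∀ i, Block p M (E i) := fun i => by
    show Block p M (ε i).1
    rw [hEC i]
    exact cls_block h (hC i)
  have hdec : ∀ (S : Finset (Fin (Fintype.card 𝒦))) (v : M),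
      ∃ w ∈ (⨆ i, mv M (E i)), ∀ i ∈ S, v - w ∈ fx M (E i) := by
    intro S
    induction S using Finset.induction_on with
    | empty => exact fun v => ⟨0, zero_mem _, by simp⟩
    | insert k S hk ih =>
      intro v
      obtain ⟨w, hw, hwS⟩ := ih v
      obtain ⟨x, hx, d, hd, e⟩ := AddSubgroup.mem_sup.1 ((hblock k).1 ▸ AddSubgroup.mem_top (v - w))
      refine ⟨w + x, add_mem hw (le_iSup (fun i => mv M (E i)) k hx), fun i hi => ?_⟩
      rw [sub_add_eq_sub_sub]
      rcases Finset.mem_insert.1 hi with rfl | hi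
      · rw [show v - w - x = d by rw [← e]; abel]; exact hd
      · exact sub_mem (hwS i hi) (horth k i (fun e => hk (e ▸ hi)) hx)
  have hmem : ∀ D : Subgroup Γ, InT p T M D → blk p T M D ≤ ⨆ i, E i := fun D hD => by
    refine le_trans ?_ (le_iSup E (ε.symm ⟨_, D, hD, rfl⟩))
    show _ ≤ (ε (ε.symm _)).1
    rw [Equiv.apply_symm_apply]
    exact le_iSup (fun F : {F : Subgroup Γ // InT p T M F ∧ Link p T M D F} => blk p T M F.1) ⟨D, hD, Or.inl rfl⟩
  refine ⟨_, E, Fintype.card_pos, fun i j hne g hg l hl => ?_, fun i => ?_, ?_, fun i j => ?_, ?_, horth, hblock, hmem,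
    fun i => ?_⟩
  · -- the blocks commute
    refine inv_mul_eq_one.1 (h.faithful _ fun m => ?_)
    rw [mul_smul, inv_smul_eq_iff, mul_smul, mul_smul]
    obtain ⟨w, -, hw⟩ := hdec {i, j} m
    obtain ⟨x, hx, d, hd, rfl⟩ := AddSubgroup.mem_sup.1 ((hblock i).1 ▸ AddSubgroup.mem_top m)
    obtain ⟨y, hy, d', hd', rfl⟩ := AddSubgroup.mem_sup.1 ((hblock j).1 ▸ AddSubgroup.mem_top d)
    have hd'i : d' ∈ fx M (E i) := by
      rw [show d' = y + d' - y by abel]; exact sub_mem hd (horth j i hne.symm hy)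
    have h1 : ∀ z ∈ mv M (E i), g • l • z = l • g • z := fun z hz => by
      rw [horth i j hne hz l hl, horth i j hne (smul_mem_mv (Subgroup.le_normalizer hg) hz) l hl]
    have h2 : ∀ z ∈ mv M (E j), g • l • z = l • g • z := fun z hz => by
      rw [horth j i hne.symm hz g hg, horth j i hne.symm (smul_mem_mv (Subgroup.le_normalizer hl) hz) g hg]
    simp only [smul_add]
    rw [h1 x hx, h2 y hy, hd' l hl, hd'i g hg, hd' l hl]
  · rw [Subgroup.eq_bot_iff_forall]
    rintro g ⟨hgi, hgo⟩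
    refine h.faithful g (fx_mv (hblock i).1 hgi fun u hu => ?_)
    have hle : (⨆ j ∈ {j | j ≠ i}, E j) ≤ MulAction.stabilizer Γ u :=
      iSup₂_le fun j hj l hl => horth i j (Ne.symm hj) hu l hl
    exact hle hgo
  · by_contra hne
    refine (InT.blk_min h hA).notLe ?_
    have hle := hmem A₀ hA
    exact hle.trans (le_sup_left.trans (h.uniq _ le_sup_right hne))
  · obtain ⟨t, ht, e⟩ := InT.exists_conj h (hC i) (hC j)
    refine ⟨t, ht, ?_⟩
    show conjSub t (ε i).1 = (ε j).1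
    rw [hEC i, hEC j, cls_conj h ht, e]
  · rw [AddSubgroup.eq_top_iff']
    intro v
    obtain ⟨w, hw, hwS⟩ := hdec Finset.univ v
    rw [show v = (v - w) + w by abel]
    exact AddSubgroup.add_mem_sup (mem_fx_iSup fun i => hwS i (Finset.mem_univ i)) hw
  · show (ε i).1 ≤ _
    rw [hEC i]
    exact iSup_le fun D => le_iSup (fun D : {D : Subgroup Γ // InT p T M D} => blk p T M D.1) ⟨D.1, D.2.1⟩

end CfsgLib.LocalEven.PMinFF
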