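import Cfsg.Agent.Lib.LocalEven.PMinFF.Natural

/-!
A `p`-group sharing a `p`-subgroup of `Mx` with an offender is centralised by each minimal overgroup normalising it.
-/

set_option autoImplicit false
set_option linter.unusedSectionVars false

namespace CfsgLib.LocalEven.PMinFF

open CfsgLib.Fusion (conjSub mem_conjSub conj_mem_conjSub conjSub_conjSub conjSub_one conjSub_mono card_conjSub conjSub_eq_iff_mem_normalizer)
open CfsgLib.LocalEven.MinOffender (fx fx_anti mem_fx_conj smul_mem_fx_conj card_fx_conj)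
open CfsgLib.LocalEven.StrongFF (IsMin fx_subgroupOf fx_top_subgroup conjSub_subgroupOf cm mem_cm smul_mem_cm card_cm_conj)

variable {Γ : Type*} [Group Γ] [Finite Γ] {M : Type*} [AddCommGroup M] [DistribMulAction Γ M] [Finite M]
variable {p : ℕ} [Fact p.Prime] {T : Sylow p Γ} {Mx : Subgroup Γ}
variable (h : Setting p T Mx M) {J : Subgroup Γ} (hJ : Piece p T Mx M J) {A : Subgroup Γ} (hA : Top p Mx M J A)
variable {L : Subgroup Γ} (hL : IsMin Mx A L) (hLN : L ≤ Subgroup.normalizer (J : Set Γ))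
include h hJ hA hL hLN

/-- The centralisation. -/
theorem Top.centralize {R P : Subgroup Γ} (hP : IsPGroup p ↥P) (hPM : P ≤ Mx) (hRP : R ≤ P) (hAP : A ≤ P)
    (hnorm : L ≤ Subgroup.normalizer (R : Set Γ)) : ∀ r ∈ R, ∀ l ∈ L, r * l = l * r := by
  obtain ⟨m, hm, hPT⟩ := h.exists_conj_of_le hP hPM
  have h' := h.conjSylow hm
  set S := ((m • T : Sylow p Γ) : Subgroup Γ) with hSdef
  have hS : S = conjSub m (T : Subgroup Γ) := Sylow.coe_subgroup_smul
  have hPS : P ≤ S := hPT.trans hS.ge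
  set W := mv M L with hW
  set D := fx M L with hD
  have hsup : W ⊔ D = ⊤ := Top.mv_sup h hJ hA hL hLN
  obtain ⟨z, hz, hzL⟩ := h'.exists_moved (m • T).2 h'.sylLe hL.notLe
  have hWR : ∀ w ∈ W, ∀ r ∈ R, r • w = w := by
    have h1 := (Top.invariant_top h hJ hA hL hLN (U := fx M R)
      (fun g hg u hu => smul_mem_fx (hnorm hg) hu) (fx_anti (hRP.trans hPS) hz) hzL).2
    exact fun w hw r hr => h1 hw r hr
  have hLW : ∀ l ∈ L, ∀ v : M, l • v - v ∈ W := fun l hl v => sub_mem_mv hl v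
  set Y : AddSubgroup M := AddSubgroup.closure {v | ∃ t ∈ S, ∃ w ∈ W, t • w = v} with hY
  have hWY : W ≤ Y := fun w hw => AddSubgroup.subset_closure ⟨1, one_mem _, w, hw, one_smul Γ w⟩
  have hSY : ∀ t ∈ S, ∀ y ∈ Y, t • y ∈ Y := by
    intro t ht y hy
    refine AddSubgroup.closure_induction (p := fun v _ => t • v ∈ Y) ?_ (by rw [smul_zero]; exact zero_mem _)
      (fun a b _ _ ha hb => by rw [smul_add]; exact add_mem ha hb)
      (fun a _ ha => by rw [smul_neg]; exact neg_mem ha) hy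
    rintro _ ⟨s, hs, w, hw, rfl⟩
    exact AddSubgroup.subset_closure ⟨t * s, mul_mem ht hs, w, hw, mul_smul t s w⟩
  have hLY : ∀ l ∈ L, ∀ y ∈ Y, l • y ∈ Y := fun l hl y hy => by
    rw [show l • y = (l • y - y) + y by abel]; exact add_mem (hWY (hLW l hl y)) hy
  let St : Subgroup Γ :=
    { carrier := {g | ∀ y, g • y ∈ Y ↔ y ∈ Y}
      one_mem' := fun y => by rw [one_smul]
      mul_mem' := fun {a b} ha hb y => by rw [mul_smul, ha, hb]
      inv_mem' := fun {a} ha y => by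
        have h1 := ha (a⁻¹ • y)
        rw [smul_inv_smul] at h1
        exact h1.symm }
  have hmemSt : ∀ {K : Subgroup Γ}, (∀ g ∈ K, ∀ y ∈ Y, g • y ∈ Y) → K ≤ St := fun {K} hK g hg y =>
    ⟨fun hy => by simpa using hK g⁻¹ (inv_mem hg) _ hy, hK g hg y⟩
  have hSt : St = ⊤ := by
    by_contra hne
    exact hL.notLe ((hmemSt hLY).trans (h'.uniq St (hmemSt hSY) hne))
  have hGY : ∀ g : Γ, ∀ y ∈ Y, g • y ∈ Y := fun g y hy => ((hSt ▸ Subgroup.mem_top g : g ∈ St) y).2 hy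
  let C : Subgroup Γ :=
    { carrier := {g | ∀ y ∈ Y, g • y = y}
      one_mem' := fun y _ => one_smul Γ y
      mul_mem' := fun {a b} ha hb y hy => by rw [mul_smul, hb y hy, ha y hy]
      inv_mem' := fun {a} ha y hy => by rw [inv_smul_eq_iff, ha y hy] }
  haveI hCn : C.Normal := ⟨fun c hc g y hy => by
    rw [mul_smul, mul_smul, hc _ (hGY g⁻¹ y hy), smul_inv_smul]⟩
  have hCL : ∀ l ∈ L, l ∈ C → l = 1 := fun l hl hlC =>
    h.faithful l (fx_mv hsup hl fun w hw => hlC w (hWY hw))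
  have hCS : S ⊓ C = ⊥ := by
    by_cases hCM : C ≤ Mx
    · exact h'.inf_eq_bot hCn hCM
    exfalso
    have htop : S ⊔ C = ⊤ := by
      by_contra hne
      exact hCM (le_sup_right.trans (h'.uniq _ le_sup_left hne))
    have hLp : IsPGroup p ↥L := by
      rintro ⟨l, hl⟩
      have hl' : l ∈ S ⊔ C := htop ▸ Subgroup.mem_top l
      obtain ⟨t, ht, c, hc, rfl⟩ := Subgroup.mem_sup_of_normal_right.1 hl'
      obtain ⟨k, hk⟩ := (m • T).2 ⟨t, ht⟩
      refine ⟨k, Subtype.ext ?_⟩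
      have ht1 : t ^ p ^ k = 1 := congrArg Subtype.val hk
      refine hCL ((t * c) ^ p ^ k) (pow_mem hl _) ((QuotientGroup.eq_one_iff _).1 ?_)
      rw [QuotientGroup.mk_pow, QuotientGroup.mk_mul, (QuotientGroup.eq_one_iff c).2 hc, mul_one,
        ← QuotientGroup.mk_pow, ht1, QuotientGroup.mk_one]
    exact hL.notLe (Top.pgroup_le h hJ hA hLp hLN hL.aLe)
  obtain ⟨H, hH, hHY⟩ := not_le_comm (m • T).2 (Y := Y) (fun e => by
    rw [e, le_bot_iff] at hWY
    rw [hWY, bot_sup_eq] at hsup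
    obtain ⟨a, ha, ha1⟩ : ∃ a ∈ A, a ≠ 1 := by
      by_contra hc; push Not at hc; exact hA.member.ne ((Subgroup.eq_bot_iff_forall A).2 hc)
    exact ha1 (h.faithful a fun v => (show v ∈ D from hsup ▸ AddSubgroup.mem_top v) a (hL.aLe ha))) h.exp hSY
  have hHS : ∀ t ∈ S, ∀ y ∈ H, t • y ∈ H := fun t ht y hy => by
    rw [show t • y = (t • y - y) + y by abel]; exact add_mem (hHY t ht y (hH.le hy)) hy
  -- the commutators fix `W`, and `L` permutes their commutators with `Y`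
  have hcomW : ∀ r ∈ R, ∀ l ∈ L, ∀ w ∈ W, (r * l * r⁻¹ * l⁻¹) • w = w := fun r hr l hl w hw => by
    have hlw : l⁻¹ • w ∈ W := smul_mem_mv (Subgroup.le_normalizer (inv_mem hl)) hw
    rw [mul_smul, mul_smul, mul_smul, hWR _ hlw _ (inv_mem hr), smul_inv_smul, hWR w hw r hr]
  set U : AddSubgroup M :=
    AddSubgroup.closure {v | ∃ r ∈ R, ∃ l ∈ L, ∃ y ∈ Y, (r * l * r⁻¹ * l⁻¹) • y - y = v} with hU
  have hUinv : ∀ g ∈ L, ∀ u ∈ U, g • u ∈ U := by
    intro g hg u hu
    refine AddSubgroup.closure_induction (p := fun v _ => g • v ∈ U) ?_ (by rw [smul_zero]; exact zero_mem _)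
      (fun a b _ _ ha hb => by rw [smul_add]; exact add_mem ha hb)
      (fun a _ ha => by rw [smul_neg]; exact neg_mem ha) hu
    rintro _ ⟨r, hr, l, hl, y, hy, rfl⟩
    have hr' : g * r * g⁻¹ ∈ R := (Subgroup.mem_normalizer_iff.1 (hnorm hg) r).1 hr
    have hl' : g * l * g⁻¹ ∈ L := mul_mem (mul_mem hg hl) (inv_mem hg)
    refine AddSubgroup.subset_closure ⟨_, hr', _, hl', y, hy, ?_⟩
    set c' := g * r * g⁻¹ * (g * l * g⁻¹) * (g * r * g⁻¹)⁻¹ * (g * l * g⁻¹)⁻¹
    have e : c' * g = g * (r * l * r⁻¹ * l⁻¹) := by simp [c', mul_assoc]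
    have h1 : c' • (g • y) = g • (r * l * r⁻¹ * l⁻¹) • y := by rw [← mul_smul, e, mul_smul]
    have h2 : c' • (g • y - y) = g • y - y := hcomW _ hr' _ hl' _ (hLW g hg y)
    rw [smul_sub, ← h1, show g • y = (g • y - y) + y by abel, smul_add, h2]
    abel
  have hUH : U ≤ H := (AddSubgroup.closure_le H).2 fun _ ⟨r, hr, l, hl, y, hy, e⟩ => by
    refine e ▸ hHY _ (hPS (hRP ?_)) y hy
    rw [mul_assoc, mul_assoc, ← mul_assoc l]
    exact mul_mem hr ((Subgroup.mem_normalizer_iff.1 (hnorm hl) r⁻¹).1 (inv_mem hr))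
  have hUD : U ≤ D := fun u hu => by
    by_contra hud
    have hWH : W ≤ H := (Top.invariant_top h hJ hA hL hLN hUinv hu hud).2.trans hUH
    refine hH.not_ge ((AddSubgroup.closure_le H).2 ?_)
    rintro _ ⟨t, ht, w, hw, rfl⟩
    exact hHS t ht w (hWH hw)
  have hcommA : ∀ r ∈ R, ∀ a ∈ A, r * a = a * r := by
    intro r hr a ha
    have hc : r * a * r⁻¹ * a⁻¹ ∈ S ⊓ C := by
      refine ⟨S.mul_mem (S.mul_mem (S.mul_mem (hPS (hRP hr)) (hPS (hAP ha))) (S.inv_mem (hPS (hRP hr))))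
        (S.inv_mem (hPS (hAP ha))), fun y hy => sub_eq_zero.1 ?_⟩
      refine Top.cm_disj h hJ hA hL hLN ha ?_ (hUD (AddSubgroup.subset_closure ⟨r, hr, a, hL.aLe ha, y, hy, rfl⟩))
      rw [mul_smul, mul_smul, mul_smul]
      set v := a⁻¹ • y with hv
      set u := r⁻¹ • v with hu
      have h1 : r • (a • u - u) = a • u - u := hWR _ (hLW a (hL.aLe ha) u) r hr
      rw [show r • a • u - y = r • (a • u - u) + (r • u - y) by rw [smul_sub]; abel, h1]
      refine add_mem (mem_cm.2 ⟨u, rfl⟩) ?_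
      rw [show r • u = v from smul_inv_smul r v, show v - y = -(a • v - v) by rw [hv, smul_inv_smul]; abel]
      exact neg_mem (mem_cm.2 ⟨v, rfl⟩)
    rw [hCS, Subgroup.mem_bot, mul_inv_eq_one, mul_inv_eq_iff_eq_mul] at hc
    exact hc
  obtain ⟨x, hxL, -, hgen⟩ := Top.exists_out h hJ hA hL hLN
  have hle : L ≤ Subgroup.centralizer (R : Set Γ) := by
    refine hgen.ge.trans (sup_le (fun a ha => Subgroup.mem_centralizer_iff.2 fun r hr => hcommA r hr a ha) ?_)
    rintro _ ⟨a, ha, rfl⟩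
    refine Subgroup.mem_centralizer_iff.2 fun r hr => ?_
    have hr' : x⁻¹ * r * x ∈ R := by
      simpa using (Subgroup.mem_normalizer_iff.1 (hnorm (inv_mem hxL)) r).1 hr
    have h1 := congrArg (fun g => x * g * x⁻¹) (hcommA _ hr' a ha)
    simpa [mul_assoc] using h1
  exact fun r hr l hl => Subgroup.mem_centralizer_iff.1 (hle hl) r hr

/-- `J` is centralised. -/
theorem Top.commute_J : ∀ r ∈ J, ∀ l ∈ L, r * l = l * r :=
  Top.centralize h hJ hA hL hLN (P := A ⊔ J)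
    (hA.member.pA.to_sup_of_normal_right' (T.2.to_le hJ.le) hA.le_norm) (sup_le hA.leMx (hJ.leMx h))
    le_sup_right le_sup_left hLN

end CfsgLib.LocalEven.PMinFF
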