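import Cfsg.Agent.Lib.LocalEven.PMinFF.Orbit

/-!
The minimal overgroup attached to each minimal offender of the Sylow subgroup.
-/

set_option autoImplicit false
set_option linter.unusedSectionVars false

namespace CfsgLib.LocalEven.PMinFF

open CfsgLib.Fusion (conjSub mem_conjSub conj_mem_conjSub conjSub_conjSub conjSub_one conjSub_mono card_conjSub conjSub_eq_iff_mem_normalizer)
open CfsgLib.LocalEven.MinOffender (fx fx_anti mem_fx_conj smul_mem_fx_conj card_fx_conj)
open CfsgLib.LocalEven.StrongFF (IsMin fx_subgroupOf fx_top_subgroup conjSub_subgroupOf cm mem_cm smul_mem_cm card_cm_conj card_sup_mul_card_inf)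

variable {Γ : Type*} [Group Γ] [Finite Γ] {M : Type*} [AddCommGroup M] [DistribMulAction Γ M] [Finite M]
variable {p : ℕ}

/-- A minimal offender inside `T`. -/
def InT (p : ℕ) (T : Sylow p Γ) (M : Type*) [AddCommGroup M] [DistribMulAction Γ M] (C : Subgroup Γ) : Prop :=
  Member p M C ∧ C ≤ (T : Subgroup Γ)

/-- The join of the other minimal offenders of `T`. -/
def others (p : ℕ) (T : Sylow p Γ) (M : Type*) [AddCommGroup M] [DistribMulAction Γ M] (C : Subgroup Γ) : Subgroup Γ :=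
  sSup {B | Member p M B ∧ B ≤ (T : Subgroup Γ) ∧ B ≠ C}

/-- The minimal overgroup of a minimal offender of `T`. -/
def blk (p : ℕ) (T : Sylow p Γ) (M : Type*) [AddCommGroup M] [DistribMulAction Γ M] (C : Subgroup Γ) : Subgroup Γ :=
  comp (others p T M C) C

theorem conjSub_iSup {ι : Sort*} (g : Γ) (f : ι → Subgroup Γ) : conjSub g (⨆ i, f i) = ⨆ i, conjSub g (f i) :=
  Subgroup.map_iSup _ f

theorem comp_conjSub (t : Γ) (J A : Subgroup Γ) : comp (conjSub t J) (conjSub t A) = conjSub t (comp J A) := by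
  have key : ∀ (t : Γ) (J A : Subgroup Γ), comp (conjSub t J) (conjSub t A) ≤ conjSub t (comp J A) := by
    intro t J A
    refine iSup₂_le fun g hg => ?_
    have hg' : t⁻¹ * g * t ∈ Subgroup.normalizer (J : Set Γ) := by
      rw [← conjSub_eq_iff_mem_normalizer, mul_assoc, ← conjSub_conjSub, ← conjSub_conjSub g t,
        conjSub_eq_iff_mem_normalizer.2 hg, conjSub_conjSub, inv_mul_cancel, conjSub_one]
    rw [conjSub_conjSub, show g * t = t * (t⁻¹ * g * t) by group, ← conjSub_conjSub]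
    exact conjSub_mono t (le_iSup₂ (f := fun g (_ : g ∈ Subgroup.normalizer (J : Set Γ)) => conjSub g A) _ hg')
  refine le_antisymm (key t J A) ?_
  have h1 := conjSub_mono t (key t⁻¹ (conjSub t J) (conjSub t A))
  rw [conjSub_conjSub t⁻¹ t, conjSub_conjSub t⁻¹ t, inv_mul_cancel, conjSub_one, conjSub_one, conjSub_inv_cancel] at h1
  exact h1

variable [Fact p.Prime] {T : Sylow p Γ} {Mx : Subgroup Γ} (h : Setting p T Mx M)
include h

theorem InT.conj {C : Subgroup Γ} (hC : InT p T M C) {t : Γ} (ht : t ∈ (T : Subgroup Γ)) : InT p T M (conjSub t C) :=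
  ⟨hC.1.conj t, conjSub_le_of_le_normalizer (Subgroup.le_normalizer ht) hC.2⟩

theorem others_conj {C : Subgroup Γ} {t : Γ} (ht : t ∈ (T : Subgroup Γ)) :
    others p T M (conjSub t C) = conjSub t (others p T M C) := by
  have key : ∀ (t : Γ), t ∈ (T : Subgroup Γ) → ∀ C : Subgroup Γ,
      others p T M (conjSub t C) ≤ conjSub t (others p T M C) := fun t ht C => sSup_le fun B hB => by
    rw [← conjSub_inv_cancel t B]
    exact conjSub_mono t (le_sSup ⟨hB.1.conj t⁻¹,
      conjSub_le_of_le_normalizer (Subgroup.le_normalizer (inv_mem ht)) hB.2.1, fun e => hB.2.2 (by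
        rw [← e, conjSub_inv_cancel])⟩)
  refine le_antisymm (key t ht C) ?_
  have h1 := conjSub_mono t (key t⁻¹ (inv_mem ht) (conjSub t C))
  rwa [conjSub_conjSub t⁻¹ t, inv_mul_cancel, conjSub_one, conjSub_inv_cancel] at h1

theorem blk_conj {C : Subgroup Γ} {t : Γ} (ht : t ∈ (T : Subgroup Γ)) :
    blk p T M (conjSub t C) = conjSub t (blk p T M C) := by
  rw [blk, others_conj h ht, comp_conjSub]; rfl

variable {C : Subgroup Γ} (hC : InT p T M C)
include hC

theorem InT.piece : Piece p T Mx M (others p T M C) := (h.frame hC.1 hC.2).1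

theorem InT.top : Top p Mx M (others p T M C) C := (h.frame hC.1 hC.2).2

theorem InT.blk_min : IsMin Mx C (blk p T M C) :=
  (Top.comp_min h (InT.piece h hC) (InT.top h hC)).1

theorem InT.blk_le : blk p T M C ≤ Subgroup.normalizer (others p T M C : Set Γ) :=
  (Top.comp_min h (InT.piece h hC) (InT.top h hC)).2

theorem InT.exists_conj {B : Subgroup Γ} (hB : InT p T M B) : ∃ t ∈ (T : Subgroup Γ), B = conjSub t C :=
  Top.orbit h (InT.piece h hC) (InT.top h hC) hC.2 hB.1 hB.2

theorem InT.card_eq {B : Subgroup Γ} (hB : InT p T M B) : Nat.card ↥B = Nat.card ↥C := by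
  obtain ⟨t, -, rfl⟩ := InT.exists_conj h hC hB
  exact card_conjSub t C

theorem InT.le_others {B : Subgroup Γ} (hB : InT p T M B) (hne : B ≠ C) : B ≤ others p T M C :=
  le_sSup ⟨hB.1, hB.2, hne⟩

theorem InT.blk_comm {B : Subgroup Γ} (hB : InT p T M B) (hne : B ≠ C) :
    ∀ b ∈ B, ∀ l ∈ blk p T M C, b * l = l * b := fun b hb l hl =>
  Top.commute_J h (InT.piece h hC) (InT.top h hC) (InT.blk_min h hC) (InT.blk_le h hC) b
    (InT.le_others h hC hB hne hb) l hl

theorem InT.fix_of {a : Γ} (ha : a ∈ C) (ha1 : a ≠ 1) {v : M} (hv : a • v = v) : v ∈ fx M C :=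
  Top.fix_of h (InT.piece h hC) (InT.top h hC) ha ha1 hv

theorem InT.card_cm {a : Γ} (ha : a ∈ C) (ha1 : a ≠ 1) : Nat.card ↥(cm M a) = Nat.card ↥C :=
  Top.card_cm h (InT.piece h hC) (InT.top h hC) ha ha1

theorem InT.cm_disj {a : Γ} (ha : a ∈ C) {v : M} (hv : v ∈ cm M a) (hvD : v ∈ fx M (blk p T M C)) : v = 0 :=
  Top.cm_disj h (InT.piece h hC) (InT.top h hC) (InT.blk_min h hC) (InT.blk_le h hC) ha hv hvD

theorem InT.cm_le {a : Γ} (ha : a ∈ C) : cm M a ≤ fx M C := (InT.top h hC).cm_le h.exp ha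

theorem InT.invariant_top {U : AddSubgroup M} (hU : ∀ g ∈ blk p T M C, ∀ u ∈ U, g • u ∈ U) {u : M} (hu : u ∈ U)
    (hud : u ∉ fx M (blk p T M C)) : U ⊔ fx M (blk p T M C) = ⊤ ∧ mv M (blk p T M C) ≤ U :=
  Top.invariant_top h (InT.piece h hC) (InT.top h hC) (InT.blk_min h hC) (InT.blk_le h hC) hU hu hud

theorem InT.mv_sup : mv M (blk p T M C) ⊔ fx M (blk p T M C) = ⊤ :=
  Top.mv_sup h (InT.piece h hC) (InT.top h hC) (InT.blk_min h hC) (InT.blk_le h hC)

theorem InT.cm_le_fix {B : Subgroup Γ} (hB : InT p T M B) (hne : B ≠ C) {b : Γ} (hb : b ∈ B) :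
    cm M b ≤ fx M (blk p T M C) := by
  refine Top.cm_le_fix h (InT.piece h hC) (InT.top h hC) (InT.blk_min h hC) (InT.blk_le h hC)
    (InT.blk_comm h hC hB hne b hb) ?_
  by_cases hb1 : b = 1
  · have h0 : cm M b = ⊥ := by
      rw [eq_bot_iff]
      rintro v hv
      obtain ⟨m, rfl⟩ := mem_cm.1 hv
      rw [AddSubgroup.mem_bot, hb1, one_smul, sub_self]
    rw [h0, AddSubgroup.card_bot]
    exact Nat.card_pos
  · rw [InT.card_cm h hB hb hb1, InT.card_eq h hC hB]

theorem InT.mv_le_fix {B : Subgroup Γ} (hB : InT p T M B) (hne : B ≠ C) : mv M (blk p T M C) ≤ fx M B :=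
  Top.mv_le_fix h (InT.piece h hC) (InT.top h hC) (InT.blk_min h hC) (InT.blk_le h hC) hB.2
    (InT.blk_comm h hC hB hne)

/-- An element of the overgroup trivial modulo its fixed points is trivial. -/
theorem InT.triv_quot {l : Γ} (hl : l ∈ blk p T M C)
    (hq : ∀ m : M, l • m - m ∈ fx M (blk p T M C)) : l = 1 := by
  set L := blk p T M C with hLdef
  set D := fx M L with hD
  let E : Subgroup ↥L :=
    { carrier := {g | ∀ m : M, (g : Γ) • m - m ∈ D}
      one_mem' := fun m => by simp [zero_mem]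
      mul_mem' := fun {a b} ha hb m => by
        rw [show ((a * b : ↥L) : Γ) • m - m = ((a : Γ) • (b : Γ) • m - (b : Γ) • m) + ((b : Γ) • m - m) by
          rw [Subgroup.coe_mul, mul_smul]; abel]
        exact add_mem (ha _) (hb m)
      inv_mem' := fun {a} ha m => by
        rw [show ((a⁻¹ : ↥L) : Γ) • m - m = -((a : Γ) • ((a : Γ)⁻¹ • m) - (a : Γ)⁻¹ • m) by
          rw [Subgroup.coe_inv, smul_inv_smul]; abel]
        exact neg_mem (ha _) }
  have hEn : E.Normal := ⟨fun e he g m => by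
    have h1 := he ((g : Γ)⁻¹ • m)
    rw [show ((g * e * g⁻¹ : ↥L) : Γ) • m - m = (g : Γ) • ((e : Γ) • (g : Γ)⁻¹ • m - (g : Γ)⁻¹ • m) by
      rw [smul_sub, smul_inv_smul, Subgroup.coe_mul, Subgroup.coe_mul, Subgroup.coe_inv, mul_smul, mul_smul]]
    rw [h1 (g : Γ) g.2]
    exact h1⟩
  have hEp : IsPGroup p ↥E := fun e => ⟨1, Subtype.ext (Subtype.ext (h.faithful _ fun m => by
    rw [pow_one, Subgroup.coe_pow, Subgroup.coe_pow]
    exact StrongFF.pow_smul_of_series h.exp (e.2 m _ (e : ↥L).2)))⟩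
  have hE := Top.no_pgroup h (InT.piece h hC) (InT.top h hC) (InT.blk_min h hC) (InT.blk_le h hC) E hEn hEp
  have h2 : (⟨l, hl⟩ : ↥L) ∈ E := hq
  rw [hE, Subgroup.mem_bot] at h2
  exact congrArg Subtype.val h2

end CfsgLib.LocalEven.PMinFF
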