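import Cfsg.Agent.Lib.LocalEven.PMinFF.Setting

/-!
A largest offender subgroup with normaliser outside the maximal subgroup, and the offenders beside it.
-/

set_option autoImplicit false
set_option linter.unusedSectionVars false

namespace CfsgLib.LocalEven.PMinFF

open CfsgLib.Fusion (conjSub mem_conjSub conj_mem_conjSub conjSub_conjSub conjSub_one conjSub_mono card_conjSub conjSub_eq_iff_mem_normalizer)
open CfsgLib.LocalEven.MinOffender (fx fx_anti mem_fx_conj smul_mem_fx_conj card_fx_conj)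
open CfsgLib.LocalEven.StrongFF (IsMin fx_subgroupOf fx_top_subgroup conjSub_subgroupOf)

variable {Γ : Type*} [Group Γ] [Finite Γ] {M : Type*} [AddCommGroup M] [DistribMulAction Γ M] [Finite M]
variable {p : ℕ} [Fact p.Prime] {T : Sylow p Γ} {Mx : Subgroup Γ}

/-- A largest subgroup of `T` generated by minimal offenders with normaliser outside `Mx`. -/
structure Piece (p : ℕ) (T : Sylow p Γ) (Mx : Subgroup Γ) (M : Type*) [AddCommGroup M] [DistribMulAction Γ M]
    (J : Subgroup Γ) : Prop where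
  le : J ≤ (T : Subgroup Γ)
  gen_eq : gen p M J = J
  notLe : ¬ Subgroup.normalizer (J : Set Γ) ≤ Mx
  max : ∀ S : Subgroup Γ, IsPGroup p ↥S → S ≤ Mx → Nat.card ↥J < Nat.card ↥(gen p M S) →
    Subgroup.normalizer (gen p M S : Set Γ) ≤ Mx

/-- A minimal offender of `N(J) ∩ Mx` outside `J`. -/
structure Top (p : ℕ) (Mx : Subgroup Γ) (M : Type*) [AddCommGroup M] [DistribMulAction Γ M]
    (J A : Subgroup Γ) : Prop where
  member : Member p M A
  le_norm : A ≤ Subgroup.normalizer (J : Set Γ)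
  leMx : A ≤ Mx
  notLe : ¬ A ≤ J

/-- A Sylow subgroup over a `p`-subgroup. -/
theorem exists_sylow_over {N S₀ : Subgroup Γ} (hS₀ : IsPGroup p ↥S₀) (hS₀N : S₀ ≤ N) :
    ∃ S : Sylow p ↥N, S₀ ≤ (S : Subgroup ↥N).map N.subtype := by
  obtain ⟨S, hS⟩ := (hS₀.of_equiv (Subgroup.subgroupOfEquivOfLe hS₀N).symm).exists_le_sylow
  exact ⟨S, fun x hx => ⟨⟨x, hS₀N hx⟩, hS hx, rfl⟩⟩

variable (h : Setting p T Mx M)
include h

theorem Setting.exists_piece : ∃ J, Piece p T Mx M J := by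
  obtain ⟨J, ⟨hle, hgen, hN⟩, hmax⟩ := Set.exists_max_image
    {J : Subgroup Γ | J ≤ (T : Subgroup Γ) ∧ gen p M J = J ∧ ¬ Subgroup.normalizer (J : Set Γ) ≤ Mx}
    (fun J => Nat.card ↥J) (Set.toFinite _)
    ⟨⊥, bot_le, le_bot_iff.1 (gen_le _), by
      rw [Subgroup.normalizer_eq_top]; exact fun e => h.proper (top_le_iff.1 e)⟩
  refine ⟨J, hle, hgen, hN, fun S hS hSM hlt => ?_⟩
  by_contra hout
  obtain ⟨m, hm, hmle⟩ := h.exists_conj_of_le hS hSM
  have hSle : conjSub m⁻¹ S ≤ (T : Subgroup Γ) := by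
    have := conjSub_mono m⁻¹ hmle
    rwa [conjSub_conjSub, inv_mul_cancel, conjSub_one] at this
  refine absurd (hmax (gen p M (conjSub m⁻¹ S)) ⟨(gen_le _).trans hSle, gen_gen _, fun hle' => hout ?_⟩) ?_
  · intro g hg
    have hg' : m⁻¹ * g * m ∈ Subgroup.normalizer (gen p M (conjSub m⁻¹ S) : Set Γ) := by
      rw [gen_conj, ← conjSub_eq_iff_mem_normalizer, conjSub_conjSub,
        show m⁻¹ * g * m * m⁻¹ = m⁻¹ * g by group, ← conjSub_conjSub, conjSub_eq_iff_mem_normalizer.2 hg]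
    simpa [mul_assoc] using mul_mem (mul_mem hm (hle' hg')) (inv_mem hm)
  · rw [not_le, gen_conj, card_conjSub]; exact hlt

variable {J : Subgroup Γ} (hJ : Piece p T Mx M J)
include hJ

theorem Piece.leMx : J ≤ Mx := hJ.le.trans h.sylLe

theorem Piece.exists_top (hex : ∃ A : Subgroup Γ, Member p M A) : ∃ A : Subgroup Γ, Top p Mx M J A ∧ A ≤ (T : Subgroup Γ) := by
  by_contra hc
  push Not at hc
  set U := (T : Subgroup Γ) ⊓ Subgroup.normalizer (J : Set Γ) with hU
  have hgenU : gen p M U = J := le_antisymm (a := gen p M U)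
    (sSup_le fun A hA => by_contra fun hn =>
      hc A ⟨hA.1, hA.2.trans inf_le_right, hA.2.trans (inf_le_left.trans h.sylLe), hn⟩ (hA.2.trans inf_le_left))
    (hJ.gen_eq.symm.le.trans (gen_mono (le_inf hJ.le Subgroup.le_normalizer)))
  have hUT : U = (T : Subgroup Γ) := by
    by_contra hne
    haveI : Group.IsNilpotent ↥(T : Subgroup Γ) := T.2.isNilpotent
    have hlt : U.subgroupOf (T : Subgroup Γ) < ⊤ := lt_top_iff_ne_top.2 fun e => hne
      (le_antisymm inf_le_left (Subgroup.subgroupOf_eq_top.1 e))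
    obtain ⟨g, hg, hgU⟩ := SetLike.exists_of_lt (normalizerCondition_of_isNilpotent (G := ↥(T : Subgroup Γ)) _ hlt)
    refine hgU ⟨g.2, hgenU ▸ normalizer_le_normalizer_gen U (CfsgLib.Fusion.mem_normalizer_of_forall fun u hu => ?_)⟩
    exact (Subgroup.mem_normalizer_iff.1 hg ⟨u, hu.1⟩).1 hu
  rw [hUT] at hgenU
  obtain ⟨A, hA⟩ := hex
  obtain ⟨P, hP⟩ := hA.pA.exists_le_sylow
  obtain ⟨g, hg⟩ := MulAction.exists_smul_eq Γ P T
  have h1 : conjSub g A ≤ gen p M (T : Subgroup Γ) := le_gen (hA.conj g) (by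
    rw [← hg, Sylow.coe_subgroup_smul]; exact conjSub_mono g hP)
  refine hJ.notLe (h.normalizer_le ?_ (fun e => ?_) (T.2.to_le hJ.le))
  · exact hUT ▸ inf_le_right
  · rw [hgenU, e, le_bot_iff] at h1
    exact (hA.conj g).ne h1

variable {A : Subgroup Γ} (hA : Top p Mx M J A)
include hA

/-- A `p`-subgroup of `N(J)` over such an offender lies in `Mx`. -/
theorem Top.pgroup_le {S : Subgroup Γ} (hS : IsPGroup p ↥S) (hSN : S ≤ Subgroup.normalizer (J : Set Γ))
    (hAS : A ≤ S) : S ≤ Mx := by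
  set S' := S ⊔ J
  have hS' : IsPGroup p ↥S' := hS.to_sup_of_normal_right' (T.2.to_le hJ.le) hSN
  refine le_trans (le_sup_left : S ≤ S') ?_
  by_contra hout
  haveI : Group.IsNilpotent ↥S' := hS'.isNilpotent
  set R := S' ⊓ Mx with hR
  have hlt : R.subgroupOf S' < ⊤ := lt_top_iff_ne_top.2 fun e => hout
    ((Subgroup.subgroupOf_eq_top.1 e).trans inf_le_right)
  obtain ⟨g, hg, hgR⟩ := SetLike.exists_of_lt (normalizerCondition_of_isNilpotent (G := ↥S') _ hlt)
  have hJR : J ≤ gen p M R := hJ.gen_eq.symm.le.trans (gen_mono (le_inf le_sup_right (hJ.leMx h)))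
  have hAR : A ≤ gen p M R := le_gen hA.member (le_inf (hAS.trans le_sup_left) hA.leMx)
  have hcard : Nat.card ↥J < Nat.card ↥(gen p M R) := by
    by_contra hle
    exact hA.notLe (Subgroup.eq_of_le_of_card_ge hJR (not_lt.1 hle) ▸ hAR)
  refine hgR ⟨g.2, hJ.max R (hS'.to_le inf_le_left) inf_le_right hcard
    (normalizer_le_normalizer_gen R (CfsgLib.Fusion.mem_normalizer_of_forall fun u hu => ?_))⟩
  exact (Subgroup.mem_normalizer_iff.1 hg ⟨u, hu.1⟩).1 hu

/-- An element of `N(J)` carrying such an offender into `Mx` lies in `Mx`. -/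
theorem Top.control {g : Γ} (hg : g ∈ Subgroup.normalizer (J : Set Γ)) (hle : conjSub g A ≤ Mx) : g ∈ Mx := by
  set N := Subgroup.normalizer (J : Set Γ) with hN
  obtain ⟨S, hS⟩ := exists_sylow_over hA.member.pA hA.le_norm
  set S₁ := (S : Subgroup ↥N).map N.subtype with hS₁
  have hS₁N : S₁ ≤ N := Subgroup.map_subtype_le _
  have hS₁p : IsPGroup p ↥S₁ := S.2.map _
  have hS₁M : S₁ ≤ Mx := Top.pgroup_le h hJ hA hS₁p hS₁N hS
  have hgJ : conjSub g J = J := conjSub_eq_iff_mem_normalizer.2 hg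
  have hAg : Top p Mx M J (conjSub g A) := by
    refine ⟨hA.member.conj g, ?_, hle, fun h' => hA.notLe ?_⟩
    · rintro _ ⟨a, ha, rfl⟩
      exact N.mul_mem (N.mul_mem hg (hA.le_norm ha)) (N.inv_mem hg)
    · rw [← hgJ] at h'
      have := conjSub_mono g⁻¹ h'
      rwa [conjSub_conjSub, conjSub_conjSub, inv_mul_cancel, conjSub_one, conjSub_one] at this
  have hgS : conjSub g S₁ ≤ Mx := by
    refine Top.pgroup_le h hJ hAg (hS₁p.map _) ?_ (conjSub_mono g hS)
    rintro _ ⟨a, ha, rfl⟩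
    exact N.mul_mem (N.mul_mem hg (hS₁N ha)) (N.inv_mem hg)
  set H := Mx.subgroupOf N
  have hSH : (S : Subgroup ↥N) ≤ H := fun x hx => hS₁M ⟨x, hx, rfl⟩
  have hgSH : ((⟨g, hg⟩ : ↥N) • S : Sylow p ↥N) ≤ H := by
    rw [Sylow.coe_subgroup_smul]
    rintro _ ⟨x, hx, rfl⟩
    exact hgS (conj_mem_conjSub (g := g) (⟨x, hx, rfl⟩ : (x : Γ) ∈ S₁))
  obtain ⟨m, hm⟩ := MulAction.exists_smul_eq (↥H) (S.subtype hSH) (((⟨g, hg⟩ : ↥N) • S : Sylow p ↥N).subtype hgSH)
  have hfix : (((m : ↥N))⁻¹ * ⟨g, hg⟩ : ↥N) • S = S := by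
    rw [mul_smul, inv_smul_eq_iff]
    refine (Sylow.subtype_injective (N := H) (hP := hgSH) (hQ := Sylow.smul_le hSH m) ?_)
    rw [← hm, Sylow.smul_subtype]
    rfl
  rw [Sylow.smul_eq_iff_mem_normalizer] at hfix
  set d := (((m : ↥N))⁻¹ * ⟨g, hg⟩ : ↥N)
  have hdS : (d : Γ) ∈ Subgroup.normalizer (S₁ : Set Γ) := by
    refine CfsgLib.Fusion.mem_normalizer_of_forall ?_
    rintro _ ⟨x, hx, rfl⟩
    exact ⟨d * x * d⁻¹, (Subgroup.mem_normalizer_iff.1 hfix x).1 hx, rfl⟩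
  have hJS : J ≤ S₁ := by
    have hJp : IsPGroup p ↥(J.subgroupOf N) :=
      (T.2.to_le hJ.le).of_equiv (Subgroup.subgroupOfEquivOfLe Subgroup.le_normalizer).symm
    haveI : (J.subgroupOf N).Normal := Subgroup.normal_in_normalizer
    exact fun x hx => ⟨⟨x, Subgroup.le_normalizer hx⟩, hJp.le_sylow_of_normal S hx, rfl⟩
  have hcard : Nat.card ↥J < Nat.card ↥(gen p M S₁) := by
    by_contra hle'
    exact hA.notLe (Subgroup.eq_of_le_of_card_ge (hJ.gen_eq.symm.le.trans (gen_mono hJS)) (not_lt.1 hle') ▸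
      le_gen hA.member hS)
  have hd := hJ.max S₁ hS₁p hS₁M hcard (normalizer_le_normalizer_gen S₁ hdS)
  have := Mx.mul_mem m.2 hd
  simpa [d] using this

/-- Outside `Mx` the conjugate of such an offender generates a subgroup outside `Mx`. -/
theorem Top.not_le {x : Γ} (hx : x ∈ Subgroup.normalizer (J : Set Γ)) (hxM : x ∉ Mx) :
    ¬ A ⊔ conjSub x A ≤ Mx := fun hle => hxM (Top.control h hJ hA hx (le_sup_right.trans hle))

end CfsgLib.LocalEven.PMinFF
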