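import Cfsg.Agent.Lib.LocalEven.PMinFF.Pair

/-!
The module of a minimal overgroup, and commutators of a `p`-group on a module of exponent `p`.
-/

set_option autoImplicit false
set_option linter.unusedSectionVars false

namespace CfsgLib.LocalEven.PMinFF

open CfsgLib.Fusion (conjSub mem_conjSub conj_mem_conjSub conjSub_conjSub conjSub_one conjSub_mono card_conjSub conjSub_eq_iff_mem_normalizer)
open CfsgLib.LocalEven.MinOffender (fx fx_anti mem_fx_conj smul_mem_fx_conj card_fx_conj)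
open CfsgLib.LocalEven.StrongFF (IsMin fx_subgroupOf fx_top_subgroup conjSub_subgroupOf cm mem_cm smul_mem_cm card_cm_conj)

variable {Γ : Type*} [Group Γ] [Finite Γ] {M : Type*} [AddCommGroup M] [DistribMulAction Γ M] [Finite M]

/-- The module commutators with `L`. -/
def mv (M : Type*) [AddCommGroup M] [DistribMulAction Γ M] (L : Subgroup Γ) : AddSubgroup M :=
  AddSubgroup.closure {v | ∃ g ∈ L, ∃ m : M, g • m - m = v}

theorem sub_mem_mv {L : Subgroup Γ} {g : Γ} (hg : g ∈ L) (m : M) : g • m - m ∈ mv M L :=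
  AddSubgroup.subset_closure ⟨g, hg, m, rfl⟩

theorem mv_le {L : Subgroup Γ} {U : AddSubgroup M} (hU : ∀ g ∈ L, ∀ m : M, g • m - m ∈ U) : mv M L ≤ U :=
  (AddSubgroup.closure_le U).2 fun _ ⟨g, hg, m, e⟩ => e ▸ hU g hg m

theorem cm_le_mv {L : Subgroup Γ} {g : Γ} (hg : g ∈ L) : cm M g ≤ mv M L := by
  rintro _ ⟨m, rfl⟩
  exact sub_mem_mv hg m

theorem smul_mem_mv {L : Subgroup Γ} {n : Γ} (hn : n ∈ Subgroup.normalizer (L : Set Γ)) {v : M} (hv : v ∈ mv M L) :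
    n • v ∈ mv M L := by
  refine AddSubgroup.closure_induction (p := fun v _ => n • v ∈ mv M L) ?_ (by rw [smul_zero]; exact zero_mem _)
    (fun a b _ _ ha hb => by rw [smul_add]; exact add_mem ha hb)
    (fun a _ ha => by rw [smul_neg]; exact neg_mem ha) hv
  rintro _ ⟨g, hg, m, rfl⟩
  have h1 := sub_mem_mv (M := M) ((Subgroup.mem_normalizer_iff.1 hn g).1 hg) (n • m)
  rwa [mul_smul, mul_smul, inv_smul_smul, ← smul_sub] at h1

theorem smul_mem_fx {L : Subgroup Γ} {n : Γ} (hn : n ∈ Subgroup.normalizer (L : Set Γ)) {v : M} (hv : v ∈ fx M L) :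
    n • v ∈ fx M L := by
  rw [← conjSub_eq_iff_mem_normalizer.2 hn]; exact smul_mem_fx_conj hv

theorem fx_mv {H : Subgroup Γ} {U : AddSubgroup M} (hsup : U ⊔ fx M H = ⊤) {g : Γ} (hg : g ∈ H)
    (hfix : ∀ u ∈ U, g • u = u) : ∀ m : M, g • m = m := fun m => by
  obtain ⟨u, hu, d, hd, rfl⟩ := AddSubgroup.mem_sup.1 (hsup ▸ AddSubgroup.mem_top m)
  rw [smul_add, hfix u hu, hd g hg]

variable {p : ℕ} [Fact p.Prime]

/-- A `p`-group does not move the whole of a nonzero module of exponent `p`. -/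
theorem not_le_comm {S : Subgroup Γ} (hS : IsPGroup p ↥S) {Y : AddSubgroup M} (hY : Y ≠ ⊥)
    (hexp : ∀ m : M, p • m = 0) (hinv : ∀ t ∈ S, ∀ y ∈ Y, t • y ∈ Y) :
    ∃ H : AddSubgroup M, H < Y ∧ ∀ t ∈ S, ∀ y ∈ Y, t • y - y ∈ H := by
  obtain ⟨H, ⟨hlt, hHinv⟩, hmax⟩ := Set.Finite.exists_maximal
    (s := {H : AddSubgroup M | H < Y ∧ ∀ t ∈ S, ∀ y ∈ H, t • y ∈ H}) (Set.toFinite _)
    ⟨⊥, bot_lt_iff_ne_bot.2 hY, fun t _ y hy => by rw [AddSubgroup.mem_bot.1 hy, smul_zero]; exact zero_mem _⟩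
  set K : AddSubgroup M :=
    { carrier := {y | y ∈ Y ∧ ∀ t ∈ S, t • y - y ∈ H}
      zero_mem' := ⟨zero_mem _, fun t _ => by rw [smul_zero, sub_zero]; exact zero_mem _⟩
      add_mem' := fun {a b} ha hb => ⟨add_mem ha.1 hb.1, fun t ht => by
        rw [show t • (a + b) - (a + b) = (t • a - a) + (t • b - b) by rw [smul_add]; abel]
        exact add_mem (ha.2 t ht) (hb.2 t ht)⟩
      neg_mem' := fun {a} ha => ⟨neg_mem ha.1, fun t ht => by
        rw [show t • (-a) - -a = -(t • a - a) by rw [smul_neg]; abel]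
        exact neg_mem (ha.2 t ht)⟩ } with hK
  refine ⟨H, hlt, fun t ht y hy => ?_⟩
  suffices hYK : Y ≤ K from (hYK hy).2 t ht
  have hHK : H ≤ K := fun y hy => ⟨hlt.le hy, fun t ht => sub_mem (hHinv t ht y hy) hy⟩
  have hKY : K ≤ Y := fun y hy => hy.1
  by_contra hne
  have hKlt : K < Y := lt_of_le_of_ne hKY fun e => hne e.ge
  have hKH : K ≤ H := hmax (show K ∈ {H : AddSubgroup M | H < Y ∧ ∀ t ∈ S, ∀ y ∈ H, t • y ∈ H} from
    ⟨hKlt, fun t ht y hy => by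
      rw [show t • y = (t • y - y) + y by abel]; exact add_mem (hHK (hy.2 t ht)) hy⟩) hHK
  -- a fixed point on the quotient
  set N := H.addSubgroupOf Y
  let f : ↥S → ↥Y →+ ↥Y := fun t =>
    ((DistribSMul.toAddMonoidHom M (t : Γ)).comp Y.subtype).codRestrict Y fun y => hinv t t.2 y y.2
  letI : MulAction ↥S (↥Y ⧸ N) :=
    { smul := fun t => QuotientAddGroup.map N N (f t) fun y hy => hHinv t t.2 y hy
      one_smul := fun z => QuotientAddGroup.induction_on z fun y =>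
        congrArg QuotientAddGroup.mk (Subtype.ext (one_smul Γ (y : M)))
      mul_smul := fun a b z => QuotientAddGroup.induction_on z fun y =>
        congrArg QuotientAddGroup.mk (Subtype.ext (mul_smul (a : Γ) (b : Γ) (y : M))) }
  have hsm : ∀ (t : ↥S) (y : ↥Y), t • (QuotientAddGroup.mk y : ↥Y ⧸ N) = QuotientAddGroup.mk (f t y) :=
    fun _ _ => rfl
  obtain ⟨y₀, hy₀Y, hy₀H⟩ := SetLike.exists_of_lt hlt
  have hdvd : p ∣ Nat.card (↥Y ⧸ N) := by
    have h0 : (QuotientAddGroup.mk ⟨y₀, hy₀Y⟩ : ↥Y ⧸ N) ≠ 0 := fun e => hy₀H (AddSubgroup.mem_addSubgroupOf.1 ((QuotientAddGroup.eq_zero_iff (⟨y₀, hy₀Y⟩ : ↥Y)).1 e))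
    have h1 : addOrderOf (QuotientAddGroup.mk ⟨y₀, hy₀Y⟩ : ↥Y ⧸ N) = p := by
      refine addOrderOf_eq_prime ?_ h0
      rw [← QuotientAddGroup.mk_nsmul, show p • (⟨y₀, hy₀Y⟩ : ↥Y) = 0 from Subtype.ext (hexp y₀)]
      rfl
    exact h1 ▸ addOrderOf_dvd_natCard _
  obtain ⟨z, hz, hz0⟩ := hS.exists_fixed_point_of_prime_dvd_card_of_fixed_point (↥Y ⧸ N) hdvd (a := 0)
    fun t => by
      rw [show (0 : ↥Y ⧸ N) = QuotientAddGroup.mk 0 from rfl, hsm, map_zero]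
  induction z using QuotientAddGroup.induction_on with
  | H y =>
    refine hz0.symm ((QuotientAddGroup.eq_zero_iff _).2 (hKH ⟨y.2, fun t ht => ?_⟩))
    have h1 := QuotientAddGroup.eq.1 ((hsm ⟨t, ht⟩ y).symm.trans (hz ⟨t, ht⟩))
    rw [AddSubgroup.mem_addSubgroupOf] at h1
    have h2 : -(t • (y : M)) + y ∈ H := h1
    have h3 := neg_mem h2
    rw [neg_add, neg_neg, ← sub_eq_add_neg] at h3
    exact h3

variable {T : Sylow p Γ} {Mx : Subgroup Γ}
variable (h : Setting p T Mx M) {J : Subgroup Γ} (hJ : Piece p T Mx M J) {A : Subgroup Γ} (hA : Top p Mx M J A)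
include h hJ hA

omit h hJ in
theorem Top.cm_le (hexp : ∀ m : M, p • m = 0) {a : Γ} (ha : a ∈ A) : cm M a ≤ fx M A := by
  rintro _ ⟨m, rfl⟩ b hb
  exact hA.member.quad hexp hb ha m

theorem Top.exists_out {L : Subgroup Γ} (hL : IsMin Mx A L) (hLN : L ≤ Subgroup.normalizer (J : Set Γ)) :
    ∃ x ∈ L, x ∉ Mx ∧ A ⊔ conjSub x A = L := by
  obtain ⟨x, hxL, hx⟩ := SetLike.not_le_iff_exists.1 hL.notLe
  exact ⟨x, hxL, hx, Top.gen_eq h hJ hA hL hLN hxL hx⟩

theorem Top.card_mod : Nat.card M = Nat.card ↥A * Nat.card ↥(fx M A) := by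
  obtain ⟨L, -, hLN, hL⟩ := Top.exists_min h hJ hA hA.le_norm (hJ.notLe) le_rfl
  obtain ⟨TL, hyp⟩ := Top.hyp h hJ hA hL hLN
  have h1 := hyp.core.card_mod
  rwa [fx_subgroupOf hL.aLe, Nat.card_congr (Subgroup.subgroupOfEquivOfLe hL.aLe).toEquiv] at h1

theorem Top.card_cm {a : Γ} (ha : a ∈ A) (ha1 : a ≠ 1) : Nat.card ↥(cm M a) = Nat.card ↥A := by
  set d := DistribSMul.toAddMonoidHom M a - AddMonoidHom.id M
  have hk : d.ker = fx M A := by
    ext m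
    rw [AddMonoidHom.mem_ker]
    exact ⟨fun e => Top.fix_of h hJ hA ha ha1 (sub_eq_zero.1 e), fun hm => sub_eq_zero.2 (hm a ha)⟩
  have h1 := AddSubgroup.card_eq_card_quotient_mul_card_addSubgroup d.ker
  rw [Nat.card_congr (QuotientAddGroup.quotientKerEquivRange d).toEquiv, hk, Top.card_mod h hJ hA] at h1
  exact (Nat.eq_of_mul_eq_mul_right Nat.card_pos h1).symm

variable {L : Subgroup Γ} (hL : IsMin Mx A L) (hLN : L ≤ Subgroup.normalizer (J : Set Γ))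
include hL hLN

theorem Top.card_fix : Nat.card ↥(fx M A) = Nat.card ↥A * Nat.card ↥(fx M L) := by
  obtain ⟨TL, hyp⟩ := Top.hyp h hJ hA hL hLN
  have h1 := hyp.core.card_fix
  rwa [fx_top_subgroup, fx_subgroupOf hL.aLe, Nat.card_congr (Subgroup.subgroupOfEquivOfLe hL.aLe).toEquiv] at h1

/-- The commutators of the offender avoid the fixed points of the overgroup. -/
theorem Top.cm_disj {a : Γ} (ha : a ∈ A) {v : M} (hv : v ∈ cm M a) (hvD : v ∈ fx M L) : v = 0 := by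
  by_cases ha1 : a = 1
  · obtain ⟨m, rfl⟩ := hv
    subst ha1
    show (1 : Γ) • m - m = 0
    rw [one_smul, sub_self]
  obtain ⟨TL, hyp⟩ := Top.hyp h hJ hA hL hLN
  obtain ⟨x, hxL, hx⟩ := SetLike.not_le_iff_exists.1 hL.notLe
  obtain ⟨m, rfl⟩ := hv
  obtain ⟨u, hu, w, hw, rfl⟩ := hyp.core.exists_add (x := ⟨x, hxL⟩) hx m
  have hu' : a • u = u := hu (⟨a, hL.aLe ha⟩ : ↥L) ha
  have e : a • (u + w) - (u + w) = a • w - w := by rw [smul_add, hu']; abel
  show a • (u + w) - (u + w) = 0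
  change a • (u + w) - (u + w) ∈ fx M L at hvD
  rw [e] at hvD ⊢
  have h1 := hyp.core.semireg (x := ⟨x, hxL⟩) hx (a := ⟨a, hL.aLe ha⟩) ha
    (fun e => ha1 (congrArg Subtype.val e)) hw (by rw [fx_top_subgroup]; exact hvD)
  rw [fx_top_subgroup] at h1
  rw [h1 a (hL.aLe ha), sub_self]

theorem Top.cm_sup {a : Γ} (ha : a ∈ A) (ha1 : a ≠ 1) : cm M a ⊔ fx M L = fx M A := by
  refine AddSubgroup.eq_of_le_of_card_ge (sup_le (hA.cm_le h.exp ha) (fx_anti hL.aLe)) ?_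
  rw [Top.card_fix h hJ hA hL hLN, ← Top.card_cm h hJ hA ha ha1]
  exact le_of_eq (StrongFF.card_sup_of_disjoint fun v h1 h2 => Top.cm_disj h hJ hA hL hLN ha h1 h2).symm

/-- An invariant subgroup leaving the fixed points spans the module with them. -/
theorem Top.invariant_top {U : AddSubgroup M} (hU : ∀ g ∈ L, ∀ u ∈ U, g • u ∈ U) {u : M} (hu : u ∈ U)
    (hud : u ∉ fx M L) : U ⊔ fx M L = ⊤ ∧ mv M L ≤ U := by
  obtain ⟨x, hxL, hx, hgen⟩ := Top.exists_out h hJ hA hL hLN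
  have hcore : ∃ u₁ ∈ U, u₁ ∈ fx M A ∧ u₁ ∉ fx M L := by
    have key : ∀ u' ∈ U, u' ∉ fx M A → ∃ u₁ ∈ U, u₁ ∈ fx M A ∧ u₁ ∉ fx M L := by
      intro u' hu' hn
      obtain ⟨a, ha, hau⟩ : ∃ a ∈ A, a • u' ≠ u' := by
        by_contra hc; push Not at hc; exact hn hc
      exact ⟨a • u' - u', sub_mem (hU a (hL.aLe ha) u' hu') hu', hA.cm_le h.exp ha (mem_cm.2 ⟨u', rfl⟩),
        fun hd => sub_ne_zero.2 hau (Top.cm_disj h hJ hA hL hLN ha (mem_cm.2 ⟨u', rfl⟩) hd)⟩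
    by_cases h1 : u ∈ fx M A
    · exact ⟨u, hu, h1, hud⟩
    · exact key u hu h1
  obtain ⟨u₁, hu₁, hu₁A, hu₁D⟩ := hcore
  obtain ⟨TL, hyp⟩ := Top.hyp h hJ hA hL hLN
  have hfxA : fx M (A.subgroupOf L) = fx M A := fx_subgroupOf hL.aLe
  set x' : ↥L := ⟨x, hxL⟩
  obtain ⟨-, -, hfix⟩ := hyp.core.counts (x := x') hx (w := x' • u₁) (smul_mem_fx_conj (by rwa [hfxA]))
    (by
      rw [fx_top_subgroup]
      intro hd
      have h1 := smul_mem_fx (n := x⁻¹) (Subgroup.le_normalizer (inv_mem hxL)) hd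
      rw [show x' • u₁ = x • u₁ from rfl, inv_smul_smul] at h1
      exact hu₁D h1)
  have hXU : fx M A ≤ U ⊔ fx M L := fun v hv => by
    obtain ⟨a, -, z, hz, rfl⟩ := hfix v (by rwa [hfxA])
    refine add_mem (AddSubgroup.mem_sup_left (sub_mem (hU _ a.2 _ (hU x hxL _ hu₁)) (hU x hxL _ hu₁))) ?_
    rw [fx_top_subgroup] at hz
    exact AddSubgroup.mem_sup_right hz
  have htop : U ⊔ fx M L = ⊤ := by
    rw [eq_top_iff]
    intro m _
    obtain ⟨v, hv, w, hw, rfl⟩ := hyp.core.exists_add (x := x') hx m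
    refine add_mem (hXU (hfxA ▸ hv)) ?_
    have h1 : x'⁻¹ • w ∈ fx M A := hfxA ▸ mem_fx_conj.1 hw
    obtain ⟨s, hs, d, hd, e⟩ := AddSubgroup.mem_sup.1 (hXU h1)
    rw [← smul_inv_smul x' w, ← e, smul_add]
    exact add_mem (AddSubgroup.mem_sup_left (hU x hxL s hs))
      (AddSubgroup.mem_sup_right (smul_mem_fx (Subgroup.le_normalizer hxL) hd))
  refine ⟨htop, mv_le fun g hg m => ?_⟩
  obtain ⟨s, hs, d, hd, rfl⟩ := AddSubgroup.mem_sup.1 (htop ▸ AddSubgroup.mem_top m)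
  rw [smul_add, hd g hg, add_sub_add_right_eq_sub]
  exact sub_mem (hU g hg s hs) hs

theorem Top.mv_sup : mv M L ⊔ fx M L = ⊤ := by
  obtain ⟨a, ha, ha1⟩ : ∃ a ∈ A, a ≠ 1 := by
    by_contra hc; push Not at hc; exact hA.member.ne ((Subgroup.eq_bot_iff_forall A).2 hc)
  obtain ⟨m, hm⟩ : ∃ m : M, a • m ≠ m := by
    by_contra hc; push Not at hc; exact ha1 (h.faithful a hc)
  refine (Top.invariant_top h hJ hA hL hLN (U := mv M L) (fun g hg u hu => smul_mem_mv (Subgroup.le_normalizer hg) hu)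
    (sub_mem_mv (hL.aLe ha) m) fun hd => ?_).1
  exact sub_ne_zero.2 hm (Top.cm_disj h hJ hA hL hLN ha (mem_cm.2 ⟨m, rfl⟩) hd)

end CfsgLib.LocalEven.PMinFF
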