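import Cfsg.Agent.Lib.LocalEven.PMinFF.Unique

/-!
The minimal offenders of the Sylow subgroup form one orbit, each with its own minimal overgroup centralising the others.
-/

set_option autoImplicit false
set_option linter.unusedSectionVars false

namespace CfsgLib.LocalEven.PMinFF

open CfsgLib.Fusion (conjSub mem_conjSub conj_mem_conjSub conjSub_conjSub conjSub_one conjSub_mono card_conjSub conjSub_eq_iff_mem_normalizer)
open CfsgLib.LocalEven.MinOffender (fx fx_anti mem_fx_conj smul_mem_fx_conj card_fx_conj)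
open CfsgLib.LocalEven.StrongFF (IsMin fx_subgroupOf fx_top_subgroup conjSub_subgroupOf cm mem_cm smul_mem_cm card_cm_conj card_sup_mul_card_inf)

variable {Γ : Type*} [Group Γ] [Finite Γ] {M : Type*} [AddCommGroup M] [DistribMulAction Γ M] [Finite M]

theorem conjSub_le_of_le_normalizer {g : Γ} {H : Subgroup Γ} {K : Subgroup Γ}
    (hg : g ∈ Subgroup.normalizer (H : Set Γ)) (hK : K ≤ H) : conjSub g K ≤ H :=
  (conjSub_mono g hK).trans (conjSub_eq_iff_mem_normalizer.2 hg).le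

theorem conjSub_inj {g : Γ} {H K : Subgroup Γ} (e : conjSub g H = conjSub g K) : H = K :=
  Subgroup.map_injective (MulAut.conj g).injective e

theorem conjSub_inv_cancel (g : Γ) (H : Subgroup Γ) : conjSub g (conjSub g⁻¹ H) = H := by
  rw [conjSub_conjSub, mul_inv_cancel, conjSub_one]

theorem conjSub_sup (g : Γ) (H K : Subgroup Γ) : conjSub g (H ⊔ K) = conjSub g H ⊔ conjSub g K :=
  Subgroup.map_sup H K _

theorem le_two_pow_pred {r : ℕ} (hr : 1 ≤ r) : r ≤ 2 ^ (r - 1) := by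
  obtain ⟨k, rfl⟩ := Nat.exists_eq_add_of_le hr
  rw [Nat.add_sub_cancel_left, add_comm]
  exact Nat.lt_two_pow_self

variable {p : ℕ} [Fact p.Prime]

/-- A `p`-group fixes a nonzero element of a nonzero invariant subgroup. -/
theorem exists_fixed_mem {S : Subgroup Γ} (hS : IsPGroup p ↥S) (hexp : ∀ m : M, p • m = 0) {Y : AddSubgroup M}
    (hY : Y ≠ ⊥) (hinv : ∀ t ∈ S, ∀ y ∈ Y, t • y ∈ Y) : ∃ y ∈ Y, y ≠ 0 ∧ y ∈ fx M S := by
  letI : MulAction ↥S ↥Y :=
    { smul := fun t y => ⟨(t : Γ) • (y : M), hinv t t.2 y y.2⟩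
      one_smul := fun y => Subtype.ext (one_smul Γ (y : M))
      mul_smul := fun a b y => Subtype.ext (mul_smul (a : Γ) (b : Γ) (y : M)) }
  obtain ⟨y₀, hy₀, hy₀0⟩ := (AddSubgroup.bot_or_exists_ne_zero Y).resolve_left hY
  have hdvd : p ∣ Nat.card ↥Y := by
    have h1 : addOrderOf (⟨y₀, hy₀⟩ : ↥Y) = p :=
      addOrderOf_eq_prime (Subtype.ext (hexp y₀)) fun e => hy₀0 (congrArg Subtype.val e)
    exact h1 ▸ addOrderOf_dvd_natCard _
  obtain ⟨y, hy, hy0⟩ := hS.exists_fixed_point_of_prime_dvd_card_of_fixed_point ↥Y hdvd (a := 0)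
    fun t => Subtype.ext (smul_zero (t : Γ))
  exact ⟨y, y.2, fun e => hy0.symm (Subtype.ext e), fun t ht => congrArg Subtype.val (hy ⟨t, ht⟩)⟩

/-- A `p`-group normalising a nontrivial `p`-subgroup centralises a nontrivial element of it. -/
theorem exists_central_mem {S A : Subgroup Γ} (hS : IsPGroup p ↥S) (hA : IsPGroup p ↥A) (hne : A ≠ ⊥)
    (hnorm : S ≤ Subgroup.normalizer (A : Set Γ)) : ∃ a ∈ A, a ≠ 1 ∧ ∀ s ∈ S, s * a = a * s := by
  letI : MulAction ↥S ↥A :=
    { smul := fun t y => ⟨(t : Γ) * y * (t : Γ)⁻¹, (Subgroup.mem_normalizer_iff.1 (hnorm t.2) y).1 y.2⟩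
      one_smul := fun y => Subtype.ext (by show ((1 : ↥S) : Γ) * y * ((1 : ↥S) : Γ)⁻¹ = y; simp)
      mul_smul := fun a b y => Subtype.ext (by
        show ((a * b : ↥S) : Γ) * y * ((a * b : ↥S) : Γ)⁻¹ = (a : Γ) * ((b : Γ) * y * (b : Γ)⁻¹) * (a : Γ)⁻¹
        simp [mul_assoc]) }
  haveI : Nontrivial ↥A := (Subgroup.nontrivial_iff_ne_bot A).2 hne
  obtain ⟨n, hn0, hn⟩ := hA.nontrivial_iff_card.1 inferInstance
  obtain ⟨y, hy, hy1⟩ := hS.exists_fixed_point_of_prime_dvd_card_of_fixed_point ↥A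
    (hn ▸ dvd_pow_self p (by omega)) (a := 1)
    fun t => Subtype.ext (by show (t : Γ) * ((1 : ↥A) : Γ) * (t : Γ)⁻¹ = ((1 : ↥A) : Γ); simp)
  exact ⟨y, y.2, fun e => hy1.symm (Subtype.ext e), fun s hs =>
    mul_inv_eq_iff_eq_mul.1 (congrArg Subtype.val (hy ⟨s, hs⟩))⟩

variable {T : Sylow p Γ} {Mx : Subgroup Γ} (h : Setting p T Mx M)
include h

/-- A conjugate of a piece under the Sylow subgroup. -/
theorem Piece.conj {J : Subgroup Γ} (hJ : Piece p T Mx M J) {t : Γ} (ht : t ∈ (T : Subgroup Γ)) :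
    Piece p T Mx M (conjSub t J) := by
  refine ⟨conjSub_le_of_le_normalizer (Subgroup.le_normalizer ht) hJ.le, by rw [gen_conj, hJ.gen_eq], fun hle => ?_,
    fun S hS hSM hlt => hJ.max S hS hSM (by rwa [card_conjSub] at hlt)⟩
  refine hJ.notLe fun g hg => ?_
  have h1 : t * g * t⁻¹ ∈ Subgroup.normalizer (conjSub t J : Set Γ) := by
    rw [← conjSub_eq_iff_mem_normalizer, conjSub_conjSub, inv_mul_cancel_right, ← conjSub_conjSub,
      conjSub_eq_iff_mem_normalizer.2 hg]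
  have h2 := Mx.mul_mem (Mx.mul_mem (Mx.inv_mem (h.sylLe ht)) (hle h1)) (h.sylLe ht)
  simpa [mul_assoc] using h2

variable {J : Subgroup Γ} (hJ : Piece p T Mx M J) {A : Subgroup Γ} (hA : Top p Mx M J A)
include hJ hA

theorem Top.conj_piece {t : Γ} (ht : t ∈ (T : Subgroup Γ)) : Top p Mx M (conjSub t J) (conjSub t A) := by
  refine ⟨hA.member.conj t, ?_, ?_, fun hle => hA.notLe ?_⟩
  · intro x hx
    obtain ⟨a, ha, rfl⟩ := hx
    show t * a * t⁻¹ ∈ _
    rw [← conjSub_eq_iff_mem_normalizer, conjSub_conjSub, inv_mul_cancel_right, ← conjSub_conjSub,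
      conjSub_eq_iff_mem_normalizer.2 (hA.le_norm ha)]
  · rintro _ ⟨a, ha, rfl⟩
    exact Mx.mul_mem (Mx.mul_mem (h.sylLe ht) (hA.leMx ha)) (Mx.inv_mem (h.sylLe ht))
  · have h1 := conjSub_mono t⁻¹ hle
    rwa [conjSub_conjSub, conjSub_conjSub, inv_mul_cancel, conjSub_one, conjSub_one] at h1

/-- The members of `T ∩ N(J)` are those of `J` and the offender. -/
theorem Top.mem_small {B : Subgroup Γ} (hB : Member p M B) (hBT : B ≤ (T : Subgroup Γ))
    (hBN : B ≤ Subgroup.normalizer (J : Set Γ)) : B ≤ J ∨ B = A :=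
  or_iff_not_imp_left.2 fun hn => Top.unique h hJ hA ⟨hB, hBN, hBT.trans h.sylLe, hn⟩

/-- A commuting element has its commutators among the fixed points. -/
theorem Top.cm_le_fix {L : Subgroup Γ} (hL : IsMin Mx A L) (hLN : L ≤ Subgroup.normalizer (J : Set Γ)) {c : Γ}
    (hc : ∀ l ∈ L, c * l = l * c) (hcard : Nat.card ↥(cm M c) ≤ Nat.card ↥A) : cm M c ≤ fx M L := by
  intro v hv
  by_contra hn
  obtain ⟨htop, -⟩ := Top.invariant_top h hJ hA hL hLN (U := cm M c) (fun g hg u hu => by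
    have h1 := smul_mem_cm (g := g).2 hu
    rwa [← hc g hg, mul_inv_cancel_right] at h1) hv hn
  have e := card_sup_mul_card_inf (cm M c) (fx M L)
  rw [htop, AddSubgroup.card_top, Top.card_mod h hJ hA, Top.card_fix h hJ hA hL hLN] at e
  have h1 : 1 < Nat.card ↥A := (Subgroup.one_lt_card_iff_ne_bot A).2 hA.member.ne
  have h2 : 0 < Nat.card ↥(cm M c ⊓ fx M L : AddSubgroup M) := Nat.card_pos
  have h3 : 0 < Nat.card ↥(fx M L) := Nat.card_pos
  have h4 : Nat.card ↥A * (Nat.card ↥A * Nat.card ↥(fx M L)) ≤ Nat.card ↥A * Nat.card ↥(fx M L) :=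
    calc _ ≤ Nat.card ↥A * (Nat.card ↥A * Nat.card ↥(fx M L)) * Nat.card ↥(cm M c ⊓ fx M L : AddSubgroup M) :=
          Nat.le_mul_of_pos_right _ h2
      _ = Nat.card ↥(cm M c) * Nat.card ↥(fx M L) := e
      _ ≤ _ := Nat.mul_le_mul_right _ hcard
  exact absurd h4 (_root_.not_le.2 (lt_mul_of_one_lt_left (Nat.mul_pos (Nat.zero_lt_of_lt h1) h3) h1))

/-- A centralised subgroup of `T` fixes the module commutators. -/
theorem Top.mv_le_fix {L : Subgroup Γ} (hL : IsMin Mx A L) (hLN : L ≤ Subgroup.normalizer (J : Set Γ))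
    {C : Subgroup Γ} (hC : C ≤ (T : Subgroup Γ)) (hc : ∀ c ∈ C, ∀ l ∈ L, c * l = l * c) : mv M L ≤ fx M C := by
  obtain ⟨z, hz, hzL⟩ := h.exists_moved T.2 h.sylLe hL.notLe
  exact (Top.invariant_top h hJ hA hL hLN (U := fx M C)
    (fun g hg u hu c hc' => by rw [← mul_smul, hc c hc' g hg, mul_smul, hu c hc']) (fx_anti hC hz) hzL).2

/-- An offender normalising `J ⊔ A` normalises `J`. -/
theorem Top.no_move (hAT : A ≤ (T : Subgroup Γ)) {B : Subgroup Γ} (hB : Member p M B)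
    (hBT : B ≤ (T : Subgroup Γ)) (hBK : B ≤ Subgroup.normalizer ((J ⊔ A : Subgroup Γ) : Set Γ)) :
    B ≤ Subgroup.normalizer (J : Set Γ) := by
  classical
  have hmem : ∀ {C : Subgroup Γ}, Member p M C → C ≤ J ⊔ A → C ≤ J ∨ C = A := fun hC hCle =>
    Top.mem_small h hJ hA hC (hCle.trans (sup_le hJ.le hAT)) (hCle.trans (sup_le Subgroup.le_normalizer hA.le_norm))
  by_cases hfix : B ≤ Subgroup.normalizer (A : Set Γ)
  · have key : ∀ g : Γ, g ∈ B → conjSub g J ≤ J := fun g hg => by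
      rw [← hJ.gen_eq, ← gen_conj]
      refine sSup_le fun C hC => le_gen hC.1 ?_
      rcases hmem hC.1 (hC.2.trans (conjSub_le_of_le_normalizer (hBK hg) le_sup_left)) with hCJ | rfl
      · exact hCJ
      · refine absurd ?_ hA.notLe
        have h1 := conjSub_mono g⁻¹ hC.2
        rw [conjSub_conjSub g⁻¹ g, inv_mul_cancel, conjSub_one,
          conjSub_eq_iff_mem_normalizer.2 (hfix (B.inv_mem hg))] at h1
        exact h1
    intro g hg
    refine conjSub_eq_iff_mem_normalizer.1 (le_antisymm (key g hg) ?_)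
    have h1 := conjSub_mono g (key g⁻¹ (B.inv_mem hg))
    rwa [conjSub_inv_cancel] at h1
  exfalso
  set B₀ := B ⊓ Subgroup.normalizer (A : Set Γ) with hB₀
  have hcom : ∀ b ∈ B, ∀ c ∈ B, b * c = c * b := hB.comm
  obtain ⟨a, ha, ha1, hac⟩ := exists_central_mem (hB.pA.to_le inf_le_left) hA.member.pA hA.member.ne
    (inf_le_right : B₀ ≤ Subgroup.normalizer (A : Set Γ))
  set ι := ↥B ⧸ B₀.subgroupOf B
  haveI : Fintype ι := Fintype.ofFinite ι
  let β : ι → Γ := fun o => ((Quotient.out o : ↥B) : Γ)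
  have hβB : ∀ o, β o ∈ B := fun o => (Quotient.out o : ↥B).2
  have hβT : ∀ o, β o ∈ (T : Subgroup Γ) := fun o => hBT (hβB o)
  have hβinj : ∀ o o', conjSub (β o) A = conjSub (β o') A → o = o' := fun o o' e => by
    rw [← QuotientGroup.out_eq' o, ← QuotientGroup.out_eq' o']
    refine QuotientGroup.eq.2 ⟨(((Quotient.out o : ↥B))⁻¹ * Quotient.out o').2, conjSub_eq_iff_mem_normalizer.1 ?_⟩
    show conjSub ((β o)⁻¹ * β o') A = A
    rw [← conjSub_conjSub, ← e, conjSub_conjSub, inv_mul_cancel, conjSub_one]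
  obtain ⟨hLmin, hLN⟩ := Top.comp_min h hJ hA
  -- the conjugate settings
  have hJo : ∀ o, Piece p T Mx M (conjSub (β o) J) := fun o => Piece.conj h hJ (hβT o)
  have hAo : ∀ o, Top p Mx M (conjSub (β o) J) (conjSub (β o) A) := fun o => Top.conj_piece h hJ hA (hβT o)
  let Lo : ι → Subgroup Γ := fun o => comp (conjSub (β o) J) (conjSub (β o) A)
  have hLo : ∀ o, IsMin Mx (conjSub (β o) A) (Lo o) ∧ Lo o ≤ Subgroup.normalizer (conjSub (β o) J : Set Γ) :=
    fun o => Top.comp_min h (hJo o) (hAo o)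
  have hAle : ∀ o, conjSub (β o) A ≤ J ⊔ A := fun o => conjSub_le_of_le_normalizer (hBK (hβB o)) le_sup_right
  have hcent : ∀ o o', o ≠ o' → ∀ c ∈ conjSub (β o') A, ∀ l ∈ Lo o, c * l = l * c := by
    intro o o' hne c hc
    refine Top.commute_J h (hJo o) (hAo o) (hLo o).1 (hLo o).2 c ?_
    rcases hmem (hA.member.conj ((β o)⁻¹ * β o'))
      (conjSub_le_of_le_normalizer (hBK (B.mul_mem (B.inv_mem (hβB o)) (hβB o'))) le_sup_right) with hle | he
    · have h1 := conjSub_mono (β o) hle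
      rw [conjSub_conjSub, mul_inv_cancel_left] at h1
      exact h1 hc
    · refine absurd (hβinj o o' ?_) hne
      conv_lhs => rw [← he, conjSub_conjSub, mul_inv_cancel_left]
  let ao : ι → Γ := fun o => β o * a * (β o)⁻¹
  have hao : ∀ o, ao o ∈ conjSub (β o) A := fun o => conj_mem_conjSub ha
  have hcardA : ∀ o, Nat.card ↥(conjSub (β o) A) = Nat.card ↥A := fun o => card_conjSub (β o) A
  have hcmD : ∀ o o', o ≠ o' → cm M (ao o') ≤ fx M (Lo o) := fun o o' hne =>
    Top.cm_le_fix h (hJo o) (hAo o) (hLo o).1 (hLo o).2 (hcent o o' hne _ (hao o'))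
      (by rw [card_cm_conj, Top.card_cm h hJ hA ha ha1, hcardA])
  have hWX : ∀ o o', o ≠ o' → mv M (Lo o) ≤ fx M (conjSub (β o') A) := fun o o' hne =>
    Top.mv_le_fix h (hJo o) (hAo o) (hLo o).1 (hLo o).2 ((hAle o').trans (sup_le hJ.le hAT)) (hcent o o' hne)
  -- the fixed commutators of `B₀`
  set l₀ := cm M a ⊓ fx M B₀ with hl₀
  obtain ⟨y, hyc, hy0, hyf⟩ := exists_fixed_mem (hB.pA.to_le inf_le_left : IsPGroup p ↥B₀) h.exp (Y := cm M a)
    (fun e => ha1 (h.faithful a fun m => sub_eq_zero.1 (by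
      have h1 : a • m - m ∈ cm M a := mem_cm.2 ⟨m, rfl⟩
      rwa [e, AddSubgroup.mem_bot] at h1)))
    fun t ht v hv => by
      have h1 := smul_mem_cm (g := t).2 hv
      rwa [hac t ht, mul_inv_cancel_right] at h1
  have hs : 2 ≤ Nat.card ↥l₀ := by
    haveI : Nontrivial ↥l₀ := ⟨⟨⟨y, hyc, hyf⟩, 0, fun e => hy0 (congrArg Subtype.val e)⟩⟩
    exact Finite.one_lt_card
  let Φ : (ι → ↥l₀) →+ M :=
    { toFun := fun f => ∑ o, β o • ((f o : ↥l₀) : M)
      map_zero' := by simp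
      map_add' := fun f g => by simp [Finset.sum_add_distrib, smul_add] }
  have hterm : ∀ (f : ι → ↥l₀) o, β o • ((f o : ↥l₀) : M) ∈ cm M (ao o) := fun f o => smul_mem_cm.2 (f o).2.1
  have hΦinj : Function.Injective Φ := by
    refine (injective_iff_map_eq_zero Φ).2 fun f hf => funext fun o => ?_
    have hz : β o • ((f o : ↥l₀) : M) = 0 := by
      refine Top.cm_disj h (hJo o) (hAo o) (hLo o).1 (hLo o).2 (hao o) (hterm f o) ?_
      have e : β o • ((f o : ↥l₀) : M) + ∑ o' ∈ Finset.univ.erase o, β o' • ((f o' : ↥l₀) : M) = 0 := by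
        rw [Finset.add_sum_erase _ (fun o' => β o' • ((f o' : ↥l₀) : M)) (Finset.mem_univ o)]
        exact hf
      rw [eq_neg_of_add_eq_zero_left e]
      exact neg_mem (sum_mem fun o' ho' => hcmD o o' (Finset.ne_of_mem_erase ho').symm (hterm f o'))
    exact Subtype.ext ((smul_eq_zero_iff_eq (β o)).1 hz)
  set F := Φ.range
  have hFX : ∀ o, F ≤ fx M (conjSub (β o) A) := by
    rintro o _ ⟨f, rfl⟩
    refine sum_mem fun o' _ => ?_
    by_cases hne : o' = o
    · subst hne; exact (hAo o').cm_le h.exp (hao o') (hterm f o')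
    · exact hWX o' o hne (cm_le_mv ((hLo o').1.aLe (hao o')) (hterm f o'))
  have hFB₀ : F ≤ fx M B₀ := by
    rintro _ ⟨f, rfl⟩
    refine sum_mem fun o _ => fun b hb => ?_
    rw [← mul_smul, hcom b hb.1 _ (hβB o), mul_smul, (f o).2.2 b hb]
  have hconst : ∀ f : ι → ↥l₀, Φ f ∈ fx M B → ∀ o o', f o = f o' := by
    intro f hf o₁ o₂
    have hb : ∀ (b : ↥B) (o : ι), f (b⁻¹ • o) = f o := by
      intro b o
      refine congrFun (hΦinj (a₁ := fun o => f (b⁻¹ • o)) (a₂ := f) ?_) o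
      refine Eq.trans ?_ (hf b b.2)
      show ∑ o, β o • ((f (b⁻¹ • o) : ↥l₀) : M) = (b : Γ) • ∑ o, β o • ((f o : ↥l₀) : M)
      rw [Finset.smul_sum]
      refine (Fintype.sum_equiv (MulAction.toPerm b) _ _ fun o => ?_).symm
      show (b : Γ) • β o • ((f o : ↥l₀) : M) = β (b • o) • ((f (b⁻¹ • b • o) : ↥l₀) : M)
      rw [inv_smul_smul, ← mul_smul]
      have hc : ((b * Quotient.out o : ↥B))⁻¹ * Quotient.out (b • o) ∈ B₀.subgroupOf B := by
        refine QuotientGroup.eq.1 ?_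
        rw [QuotientGroup.out_eq', ← smul_eq_mul, ← MulAction.Quotient.smul_mk]
        exact congrArg (b • ·) (QuotientGroup.out_eq' o)
      have h1 : (((b : Γ) * β o)⁻¹ * β (b • o)) • ((f o : ↥l₀) : M) = ((f o : ↥l₀) : M) := (f o).2.2 _ hc
      conv_lhs => rw [← h1, ← mul_smul, mul_inv_cancel_left]
    set x : ↥B := Quotient.out o₁ * (Quotient.out o₂)⁻¹ with hx
    have hsm : x • (QuotientGroup.mk (Quotient.out o₂) : ι) = QuotientGroup.mk (Quotient.out o₁) := by
      rw [MulAction.Quotient.smul_mk, smul_eq_mul, hx, inv_mul_cancel_right]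
    rw [QuotientGroup.out_eq', QuotientGroup.out_eq'] at hsm
    have h1 := hb x⁻¹ o₂
    rwa [inv_inv, hsm] at h1
  set s := Nat.card ↥l₀
  set r := Nat.card ι with hr
  have hr2 : 2 ≤ r := by
    by_contra hlt
    refine hfix fun b hb => ?_
    haveI : Subsingleton ι := Finite.card_le_one_iff_subsingleton.1 (by omega)
    have h1 := QuotientGroup.eq.1 (Subsingleton.elim (QuotientGroup.mk (1 : ↥B) : ι) (QuotientGroup.mk ⟨b, hb⟩))
    simp only [inv_one, one_mul] at h1
    exact (show b ∈ B₀ from h1).2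
  have hFcard : Nat.card ↥F = s ^ r :=
    (Nat.card_congr (AddMonoidHom.ofInjective hΦinj).toEquiv).symm.trans (Nat.card_fun)
  have hinf : Nat.card ↥(F ⊓ fx M B : AddSubgroup M) ≤ s := by
    obtain ⟨o₀⟩ : Nonempty ι := ⟨QuotientGroup.mk 1⟩
    refine Nat.card_le_card_of_injective
      (fun v : ↥(F ⊓ fx M B : AddSubgroup M) => Classical.choose v.2.1 o₀) fun v w e => Subtype.ext ?_
    have hv := Classical.choose_spec v.2.1
    have hw := Classical.choose_spec w.2.1
    rw [← hv, ← hw]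
    congr 1
    funext o
    rw [hconst (Classical.choose v.2.1) (by rw [hv]; exact v.2.2) o o₀,
      hconst (Classical.choose w.2.1) (by rw [hw]; exact w.2.2) o o₀]
    exact e
  have hsum : s ^ (r - 1) * Nat.card ↥(fx M B) ≤ Nat.card ↥(F ⊔ fx M B : AddSubgroup M) := by
    have e := card_sup_mul_card_inf F (fx M B)
    rw [hFcard, ← Nat.sub_add_cancel (show 1 ≤ r by omega), pow_succ] at e
    refine Nat.le_of_mul_le_mul_right (c := s) ?_ (by omega)
    calc s ^ (r - 1) * Nat.card ↥(fx M B) * s = s ^ (r - 1) * s * Nat.card ↥(fx M B) := by ring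
      _ = _ := e.symm
      _ ≤ _ := Nat.mul_le_mul_left _ hinf
  have hBcard : Nat.card ↥B = r * Nat.card ↥B₀ := by
    rw [Subgroup.card_eq_card_quotient_mul_card_subgroup (B₀.subgroupOf B),
      Nat.card_congr (Subgroup.subgroupOfEquivOfLe (inf_le_left : B₀ ≤ B)).toEquiv]
  have hlt : Nat.card ↥B₀ * Nat.card ↥(F ⊔ fx M B : AddSubgroup M) < Nat.card M := by
    by_cases hB0 : B₀ = ⊥
    · rw [hB0, Subgroup.card_bot, one_mul]
      refine lt_of_le_of_ne (AddSubgroup.card_le_card_addGroup _) fun e => ?_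
      have htop : F ⊔ fx M B = ⊤ := AddSubgroup.eq_top_of_le_card _ e.ge
      obtain ⟨o₀⟩ : Nonempty ι := ⟨QuotientGroup.mk 1⟩
      obtain ⟨o₁, ho₁⟩ : ∃ o₁, o₁ ≠ o₀ := by
        haveI : Nontrivial ι := Finite.one_lt_card_iff_nontrivial.1 (by omega)
        exact exists_ne o₀
      set b := β o₀ * (β o₁)⁻¹ with hb
      have hbB : b ∈ B := B.mul_mem (hβB o₀) (B.inv_mem (hβB o₁))
      refine absurd (Top.mv_sup h (hJo o₀) (hAo o₀) (hLo o₀).1 (hLo o₀).2) fun htop' => ?_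
      have hle : mv M (Lo o₀) ≤ fx M (conjSub (β o₀) A) := by
        intro v hv
        obtain ⟨l, hl, u, hu, e⟩ := AddSubgroup.mem_sup.1 (htop ▸ AddSubgroup.mem_top v : v ∈ F ⊔ fx M B)
        have hu1 : u ∈ fx M (conjSub (β o₁) A) := by
          rw [show u = v - l by rw [← e]; abel]
          exact sub_mem (hWX o₀ o₁ ho₁.symm hv) (hFX o₁ hl)
        have hu0 : u ∈ fx M (conjSub (β o₀) A) := by
          have h1 := smul_mem_fx_conj (g := b) hu1
          rwa [conjSub_conjSub, hb, inv_mul_cancel_right, ← hb, hu b hbB] at h1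
        rw [← e]
        exact add_mem (hFX o₀ hl) hu0
      have hfull : fx M (conjSub (β o₀) A) = ⊤ :=
        top_le_iff.1 (htop'.ge.trans (sup_le hle (fx_anti (hLo o₀).1.aLe)))
      refine (hA.member.conj (β o₀)).ne ((Subgroup.eq_bot_iff_forall _).2 fun c hc => h.faithful c fun m => ?_)
      exact (hfull ▸ AddSubgroup.mem_top m : m ∈ fx M (conjSub (β o₀) A)) c hc
    · refine lt_of_le_of_lt (Nat.mul_le_mul_left _ (AddSubgroup.card_le_of_le (sup_le hFB₀ (fx_anti inf_le_left))))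
        (hB.strict B₀ inf_le_left hB0 fun e => hfix (e ▸ inf_le_right))
  have hfinal : s ^ (r - 1) < r := by
    have h1 := hB.off
    rw [hBcard] at h1
    have h2 : Nat.card ↥B₀ * (s ^ (r - 1) * Nat.card ↥(fx M B)) < r * Nat.card ↥B₀ * Nat.card ↥(fx M B) :=
      ((Nat.mul_le_mul_left _ hsum).trans_lt hlt).trans_le h1
    rw [show r * Nat.card ↥B₀ * Nat.card ↥(fx M B) = Nat.card ↥B₀ * (r * Nat.card ↥(fx M B)) by ring] at h2
    exact Nat.lt_of_mul_lt_mul_right (Nat.lt_of_mul_lt_mul_left h2)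
  exact absurd ((le_two_pow_pred (by omega)).trans (Nat.pow_le_pow_left hs _)) (_root_.not_le.2 hfinal)

/-- Every member of `T` lies in `J` or is the offender. -/
theorem Top.members (hAT : A ≤ (T : Subgroup Γ)) {B : Subgroup Γ} (hB : Member p M B) (hBT : B ≤ (T : Subgroup Γ)) :
    B ≤ J ∨ B = A := by
  set K := (T : Subgroup Γ) ⊓ Subgroup.normalizer ((J ⊔ A : Subgroup Γ) : Set Γ) with hK
  have hsmall : ∀ {C : Subgroup Γ}, Member p M C → C ≤ K → C ≤ J ∨ C = A := fun hC hCK =>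
    Top.mem_small h hJ hA hC (hCK.trans inf_le_left)
      (Top.no_move h hJ hA hAT hC (hCK.trans inf_le_left) (hCK.trans inf_le_right))
  have hgen : gen p M K = J ⊔ A := by
    refine le_antisymm (sSup_le fun C hC => (hsmall hC.1 hC.2).elim (fun e => e.trans le_sup_left)
      fun e => e ▸ le_sup_right) (sup_le ?_ ?_)
    · exact hJ.gen_eq.symm.le.trans (gen_mono (le_inf hJ.le (le_sup_left.trans Subgroup.le_normalizer)))
    · exact le_gen hA.member (le_inf hAT (le_sup_right.trans Subgroup.le_normalizer))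
  have hKT : K = (T : Subgroup Γ) := by
    by_contra hne
    haveI : Group.IsNilpotent ↥(T : Subgroup Γ) := T.2.isNilpotent
    have hlt : K.subgroupOf (T : Subgroup Γ) < ⊤ := lt_top_iff_ne_top.2 fun e => hne
      (le_antisymm inf_le_left (Subgroup.subgroupOf_eq_top.1 e))
    obtain ⟨g, hg, hgK⟩ := SetLike.exists_of_lt (normalizerCondition_of_isNilpotent (G := ↥(T : Subgroup Γ)) _ hlt)
    refine hgK ⟨g.2, hgen ▸ normalizer_le_normalizer_gen K (CfsgLib.Fusion.mem_normalizer_of_forall fun u hu => ?_)⟩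
    exact (Subgroup.mem_normalizer_iff.1 hg ⟨u, hu.1⟩).1 hu
  exact hsmall hB (hKT.symm ▸ hBT)

/-- Every member of `T` is conjugate to the offender under `T`. -/
theorem Top.orbit (hAT : A ≤ (T : Subgroup Γ)) {B : Subgroup Γ} (hB : Member p M B) (hBT : B ≤ (T : Subgroup Γ)) :
    ∃ t ∈ (T : Subgroup Γ), B = conjSub t A := by
  by_contra hc
  obtain ⟨hLmin, hLN⟩ := Top.comp_min h hJ hA
  set R : Subgroup Γ :=
    sSup {C | Member p M C ∧ C ≤ (T : Subgroup Γ) ∧ ∀ t ∈ (T : Subgroup Γ), C ≠ conjSub t A} with hR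
  have hRT : R ≤ (T : Subgroup Γ) := sSup_le fun C hC => hC.2.1
  have hRL : ∀ r ∈ R, ∀ l ∈ comp J A, r * l = l * r := by
    have hle : R ≤ Subgroup.centralizer (comp J A : Set Γ) := sSup_le fun C hC c hc' => by
      rcases Top.members h hJ hA hAT hC.1 hC.2.1 with hle | rfl
      · exact Subgroup.mem_centralizer_iff.2 fun l hl => (Top.commute_J h hJ hA hLmin hLN c (hle hc') l hl).symm
      · exact absurd (conjSub_one C).symm (hC.2.2 1 (one_mem _))
    exact fun r hr l hl => (Subgroup.mem_centralizer_iff.1 (hle hr) l hl).symm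
  have hTR : (T : Subgroup Γ) ≤ Subgroup.normalizer (R : Set Γ) := by
    have key : ∀ t ∈ (T : Subgroup Γ), conjSub t R ≤ R := fun t ht => by
      rw [conjSub, Subgroup.map_le_iff_le_comap]
      refine sSup_le fun C hC => Subgroup.map_le_iff_le_comap.1 (le_sSup ⟨hC.1.conj t,
        conjSub_le_of_le_normalizer (Subgroup.le_normalizer ht) hC.2.1, fun t' ht' e => hC.2.2 (t⁻¹ * t')
          (mul_mem (inv_mem ht) ht') ?_⟩)
      have e' : conjSub t C = conjSub t' A := e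
      rw [← conjSub_conjSub, ← e', conjSub_conjSub, inv_mul_cancel, conjSub_one]
    intro t ht
    refine conjSub_eq_iff_mem_normalizer.1 (le_antisymm (key t ht) ?_)
    have h1 := conjSub_mono t (key t⁻¹ (inv_mem ht))
    rwa [conjSub_inv_cancel] at h1
  have hLR : comp J A ≤ Subgroup.normalizer (R : Set Γ) := fun l hl =>
    CfsgLib.Fusion.mem_normalizer_of_forall fun r hr => by rwa [← hRL r hr l hl, mul_inv_cancel_right]
  have hBR : B ≤ R := le_sSup ⟨hB, hBT, fun t ht e => hc ⟨t, ht, e⟩⟩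
  exact hLmin.notLe (hLR.trans (h.normalizer_le hTR
    (fun e => hB.ne (le_bot_iff.1 (e ▸ hBR))) (T.2.to_le hRT)))

omit hJ hA in
/-- The other members of `T`. -/
theorem Setting.frame {C : Subgroup Γ} (hC : Member p M C) (hCT : C ≤ (T : Subgroup Γ)) :
    Piece p T Mx M (sSup {B | Member p M B ∧ B ≤ (T : Subgroup Γ) ∧ B ≠ C}) ∧
      Top p Mx M (sSup {B | Member p M B ∧ B ≤ (T : Subgroup Γ) ∧ B ≠ C}) C := by
  obtain ⟨J, hJ⟩ := h.exists_piece
  obtain ⟨A, hA, hAT⟩ := Piece.exists_top h hJ ⟨C, hC⟩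
  have hJA : J = sSup {B | Member p M B ∧ B ≤ (T : Subgroup Γ) ∧ B ≠ A} := by
    refine le_antisymm ?_ (sSup_le fun B hB => (Top.members h hJ hA hAT hB.1 hB.2.1).resolve_right hB.2.2)
    refine hJ.gen_eq.symm.le.trans (sSup_le fun B hB => le_sSup ⟨hB.1, hB.2.trans hJ.le, ?_⟩)
    rintro rfl
    exact hA.notLe hB.2
  obtain ⟨t, ht, rfl⟩ := Top.orbit h hJ hA hAT hC hCT
  have e : conjSub t J = sSup {B | Member p M B ∧ B ≤ (T : Subgroup Γ) ∧ B ≠ conjSub t A} := by
    refine le_antisymm ?_ (sSup_le fun B hB => ?_)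
    · rw [hJA, conjSub, Subgroup.map_le_iff_le_comap]
      exact sSup_le fun B hB => Subgroup.map_le_iff_le_comap.1 (le_sSup ⟨hB.1.conj t,
        conjSub_le_of_le_normalizer (Subgroup.le_normalizer ht) hB.2.1, fun e => hB.2.2 (conjSub_inj e)⟩)
    · have h1 : conjSub t⁻¹ B ≤ J := hJA ▸ le_sSup ⟨hB.1.conj t⁻¹,
        conjSub_le_of_le_normalizer (Subgroup.le_normalizer (inv_mem ht)) hB.2.1, fun e => hB.2.2 (by
          rw [← e, conjSub_inv_cancel])⟩
      have h2 := conjSub_mono t h1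
      rwa [conjSub_inv_cancel] at h2
  rw [← e]
  exact ⟨Piece.conj h hJ ht, Top.conj_piece h hJ hA ht⟩

end CfsgLib.LocalEven.PMinFF
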