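import Cfsg.Agent.Lib.LocalEven.PMinFF.Local
import Cfsg.Agent.Lib.LocalEven.MinOffender.Main

/-!
A minimal overgroup outside `Mx` of an offender beside `J` is `SL₂` on its natural module; the offender meets no outside
conjugate of `Mx`, so `N(J)` carries the strongly closed setting.
-/

set_option autoImplicit false
set_option linter.unusedSectionVars false

namespace CfsgLib.LocalEven.PMinFF

open CfsgLib.Fusion (conjSub mem_conjSub conj_mem_conjSub conjSub_conjSub conjSub_one conjSub_mono card_conjSub conjSub_eq_iff_mem_normalizer)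
open CfsgLib.LocalEven.MinOffender (fx fx_anti mem_fx_conj smul_mem_fx_conj card_fx_conj)
open CfsgLib.LocalEven.StrongFF (IsMin fx_subgroupOf fx_top_subgroup conjSub_subgroupOf)

variable {Γ : Type*} [Group Γ] [Finite Γ] {M : Type*} [AddCommGroup M] [DistribMulAction Γ M] [Finite M]

theorem fx_map_subtype {L : Subgroup Γ} (K : Subgroup ↥L) : fx M (K.map L.subtype) = fx M K := by
  rw [← fx_subgroupOf (Subgroup.map_subtype_le K), Subgroup.subgroupOf,
    Subgroup.comap_map_eq_self_of_injective L.subtype_injective]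

variable {p : ℕ} [Fact p.Prime] {T : Sylow p Γ} {Mx : Subgroup Γ}
variable (h : Setting p T Mx M) {J : Subgroup Γ} (hJ : Piece p T Mx M J) {A : Subgroup Γ} (hA : Top p Mx M J A)
include h hJ hA

theorem Top.gen_eq {L : Subgroup Γ} (hL : IsMin Mx A L) (hLN : L ≤ Subgroup.normalizer (J : Set Γ)) {x : Γ}
    (hxL : x ∈ L) (hx : x ∉ Mx) : A ⊔ conjSub x A = L := by
  have hle : A ⊔ conjSub x A ≤ L := sup_le hL.aLe fun y hy => by
    obtain ⟨a, ha, rfl⟩ := hy
    exact mul_mem (mul_mem hxL (hL.aLe ha)) (inv_mem hxL)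
  exact le_antisymm hle (hL.least _ le_sup_left hle (Top.not_le h hJ hA (hLN hxL) hx))

/-- The hypotheses of the minimal offender theorem hold in a minimal overgroup. -/
theorem Top.hyp {L : Subgroup Γ} (hL : IsMin Mx A L) (hLN : L ≤ Subgroup.normalizer (J : Set Γ)) :
    ∃ TL : Sylow p ↥L, MinOffender.Hyp p (A.subgroupOf L) TL (Mx.subgroupOf L) M := by
  obtain ⟨TL, hTL⟩ := exists_sylow_over hA.member.pA hL.aLe
  have hTM : (TL : Subgroup ↥L).map L.subtype ≤ Mx :=
    Top.pgroup_le h hJ hA (TL.2.map _) ((Subgroup.map_subtype_le _).trans hLN) hTL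
  refine ⟨TL,
    { prime := Fact.out, exp := h.exp, faithful := fun g hg => Subtype.ext (h.faithful g fun m => hg m)
      sylLe := fun x hx => hTM ⟨x, hx, rfl⟩
      proper := fun e => hL.notLe fun x hx => Subgroup.mem_subgroupOf.1 (e.symm ▸ Subgroup.mem_top (⟨x, hx⟩ : ↥L))
      uniq := fun H hH hne => ?_, aLe := ?_
      aComm := fun a ha b hb => Subtype.ext (hA.member.comm _ ha _ hb)
      off := ?_, strict := ?_, moved := ?_, gen := ?_ }⟩
  · by_contra hout
    refine hne (Subgroup.map_injective L.subtype_injective ?_)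
    rw [← MonoidHom.range_eq_map, Subgroup.range_subtype]
    refine le_antisymm (Subgroup.map_subtype_le _) (hL.least _ ?_ (Subgroup.map_subtype_le _) ?_)
    · exact hTL.trans (Subgroup.map_mono hH)
    · exact fun hle => hout fun x hx => hle ⟨x, hx, rfl⟩
  · intro x hx
    obtain ⟨y, hy, e⟩ := hTL (show (x : Γ) ∈ A from hx)
    rwa [Subtype.ext e] at hy
  · rw [Nat.card_congr (Subgroup.subgroupOfEquivOfLe hL.aLe).toEquiv, fx_subgroupOf hL.aLe]
    exact hA.member.off
  · intro A₀ h0 hne hne'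
    have h1 := hA.member.lt (A₀.map L.subtype)
      (fun x hx => by obtain ⟨y, hy, rfl⟩ := hx; exact h0 hy)
      (fun e => hne ((Subgroup.map_eq_bot_iff_of_injective _ L.subtype_injective).1 e))
      (fun e => hne' (Subgroup.map_injective L.subtype_injective
        (e.trans (Subgroup.map_subgroupOf_eq_of_le hL.aLe).symm)))
    rw [Subgroup.card_map_of_injective L.subtype_injective, fx_map_subtype] at h1
    rwa [Nat.card_congr (Subgroup.subgroupOfEquivOfLe hL.aLe).toEquiv, fx_subgroupOf hL.aLe]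
  · obtain ⟨v, hv, hvL⟩ := h.exists_moved (TL.2.map _) hTM hL.notLe
    exact ⟨v, by rwa [← fx_map_subtype], by rwa [fx_top_subgroup]⟩
  · intro x hx
    rw [conjSub_subgroupOf, ← Subgroup.subgroupOf_sup hL.aLe
      (le_trans le_sup_right (Top.gen_eq h hJ hA hL hLN x.2 hx).le), Top.gen_eq h hJ hA hL hLN x.2 hx,
      Subgroup.subgroupOf_self]

theorem Top.exists_min {K : Subgroup Γ} (hAK : A ≤ K) (hK : ¬ K ≤ Mx)
    (hKN : K ≤ Subgroup.normalizer (J : Set Γ)) :
    ∃ L, L ≤ K ∧ L ≤ Subgroup.normalizer (J : Set Γ) ∧ IsMin Mx A L := by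
  obtain ⟨L, hLK, hL⟩ := StrongFF.exists_min hAK hK
  exact ⟨L, hLK, hLK.trans hKN, hL⟩

/-- A nontrivial element of the offender fixes only what the offender fixes. -/
theorem Top.fix_of {a : Γ} (ha : a ∈ A) (ha1 : a ≠ 1) {v : M} (hv : a • v = v) : v ∈ fx M A := by
  obtain ⟨L, -, hLN, hL⟩ := Top.exists_min h hJ hA hA.le_norm (hJ.notLe) le_rfl
  obtain ⟨TL, hyp⟩ := Top.hyp h hJ hA hL hLN
  obtain ⟨x, hxL, hx⟩ := SetLike.not_le_iff_exists.1 hL.notLe
  obtain ⟨u, hu, w, hw, rfl⟩ := hyp.core.exists_add (x := ⟨x, hxL⟩) hx v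
  have hu' : ∀ c ∈ A, c • u = u := fun c hc => hu (⟨c, hL.aLe hc⟩ : ↥L) hc
  rw [smul_add, hu' a ha] at hv
  have hw' := hyp.core.semireg (x := ⟨x, hxL⟩) hx (a := ⟨a, hL.aLe ha⟩) ha
    (fun e => ha1 (congrArg Subtype.val e)) hw (by
      show a • w - w ∈ _
      rw [add_left_cancel hv, sub_self]; exact zero_mem _)
  exact add_mem hu' fun c hc => hw' (⟨c, hL.aLe hc⟩ : ↥L) (Subgroup.mem_top _)

/-- The offender meets `Mx` trivially outside. -/
theorem Top.outside {x a : Γ} (hx : x ∈ Subgroup.normalizer (J : Set Γ)) (hxM : x ∉ Mx) (ha : a ∈ A)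
    (hle : x * a * x⁻¹ ∈ Mx) : a = 1 := by
  set N := Subgroup.normalizer (J : Set Γ) with hN
  by_contra ha1
  obtain ⟨S, hS⟩ := exists_sylow_over hA.member.pA hA.le_norm
  set S₁ := (S : Subgroup ↥N).map N.subtype with hS₁
  have hS₁N : S₁ ≤ N := Subgroup.map_subtype_le _
  have hS₁M : S₁ ≤ Mx := Top.pgroup_le h hJ hA (S.2.map _) hS₁N hS
  set H := Mx.subgroupOf N
  have hSH : (S : Subgroup ↥N) ≤ H := fun y hy => hS₁M ⟨y, hy, rfl⟩
  have haN : x * a * x⁻¹ ∈ N := N.mul_mem (N.mul_mem hx (hA.le_norm ha)) (N.inv_mem hx)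
  set b : ↥H := ⟨⟨x * a * x⁻¹, haN⟩, hle⟩
  have hbp : IsPGroup p ↥(Subgroup.zpowers b) := by
    obtain ⟨k, hk⟩ := IsPGroup.iff_orderOf.1 hA.member.pA ⟨a, ha⟩
    refine CfsgLib.LocalEven.isPGroup_zpowers_of_orderOf (k := k) ?_
    rw [← orderOf_injective _ H.subtype_injective, ← orderOf_injective _ N.subtype_injective]
    show orderOf (x * a * x⁻¹) = _
    rw [show x * a * x⁻¹ = MulAut.conj x a from rfl, MulEquiv.orderOf_eq, ← hk, Subgroup.orderOf_mk]
  obtain ⟨P, hP⟩ := hbp.exists_le_sylow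
  obtain ⟨m, hm⟩ := MulAction.exists_smul_eq (↥H) P (S.subtype hSH)
  have hbS : ((m * b * m⁻¹ : ↥H) : ↥N) ∈ (S : Subgroup ↥N) := by
    have h1 : m * b * m⁻¹ ∈ ((m • P : Sylow p ↥H) : Subgroup ↥H) := by
      rw [Sylow.coe_subgroup_smul]
      exact ⟨b, hP (Subgroup.mem_zpowers b), rfl⟩
    rw [hm] at h1
    exact h1
  set y : Γ := ((m : ↥N) : Γ) * x with hy
  have hyN : y ∈ N := N.mul_mem (m : ↥N).2 hx
  have hyM : y ∉ Mx := fun e => hxM (by
    have := Mx.mul_mem (Mx.inv_mem m.2) e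
    simpa [y] using this)
  have hay : y * a * y⁻¹ ∈ S₁ := ⟨_, hbS, by simp [y, b, mul_assoc]⟩
  obtain ⟨z, hz, hzK⟩ := h.exists_moved (S.2.map _) hS₁M (Top.not_le h hJ hA hyN hyM)
  refine hzK ?_
  have h1 : a • y⁻¹ • z = y⁻¹ • z := by
    have h2 := hz _ hay
    rw [mul_smul, mul_smul] at h2
    exact eq_inv_smul_iff.2 h2
  have hle' : A ⊔ conjSub y A ≤ MulAction.stabilizer Γ z :=
    sup_le (fun c hc => hz c (hS hc)) fun c hc => mem_fx_conj.2 (Top.fix_of h hJ hA ha ha1 h1) c hc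
  exact fun g hg => hle' hg

/-- A minimal overgroup has no nontrivial normal `p`-subgroup. -/
theorem Top.no_pgroup {L : Subgroup Γ} (hL : IsMin Mx A L) (hLN : L ≤ Subgroup.normalizer (J : Set Γ))
    (E : Subgroup ↥L) (hE : E.Normal) (hp : IsPGroup p ↥E) : E = ⊥ := by
  obtain ⟨TL, hyp⟩ := Top.hyp h hJ hA hL hLN
  obtain ⟨v, hv, hvZ, hvE⟩ := hyp.core.moved
  obtain ⟨x, hxL, hx⟩ := SetLike.not_le_iff_exists.1 hL.notLe
  set x' : ↥L := ⟨x, hxL⟩
  have hinv : ∀ g : ↥L, ∀ u ∈ fx M E, g • u ∈ fx M E := fun g u hu e he => by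
    have h1 := hu _ (hE.conj_mem e he g⁻¹)
    rw [mul_smul, mul_smul, inv_inv, inv_smul_eq_iff] at h1
    exact h1
  have hw : x' • v ∈ fx M E := hinv _ _ (hvE E hE hp)
  obtain ⟨-, -, hfix⟩ := hyp.core.counts (x := x') hx (smul_mem_fx_conj (g := x') hv) fun hz => hvZ (by
    have := hz x'⁻¹ (Subgroup.mem_top _); rw [inv_smul_smul] at this; exact this ▸ hz)
  have hX : ∀ u ∈ fx M (A.subgroupOf L), u ∈ fx M E := fun u hu => by
    obtain ⟨c, -, z, hz, rfl⟩ := hfix u hu
    exact add_mem (sub_mem (hinv c _ hw) hw) (fx_anti le_top hz)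
  rw [Subgroup.eq_bot_iff_forall]
  refine fun e he => Subtype.ext (h.faithful _ fun m => ?_)
  obtain ⟨u, hu, w, hw', rfl⟩ := hyp.core.exists_add (x := x') hx m
  have hwE : w ∈ fx M E := by
    have h1 := hinv x' _ (hX _ (mem_fx_conj.1 hw'))
    rwa [smul_inv_smul] at h1
  exact (add_mem (hX u hu) hwE) e he

/-- The strongly closed setting inside `N(J)`. -/
theorem Top.setup : StrongFF.Setup p (Mx.subgroupOf (Subgroup.normalizer (J : Set Γ)))
    (A.subgroupOf (Subgroup.normalizer (J : Set Γ))) M := by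
  set N := Subgroup.normalizer (J : Set Γ) with hN
  refine
    { exp := h.exp, faithful := fun g hg => Subtype.ext (h.faithful g fun m => hg m)
      proper := fun e => hJ.notLe fun x hx => Subgroup.mem_subgroupOf.1 (e.symm ▸ Subgroup.mem_top (⟨x, hx⟩ : ↥N))
      outside := fun {x a} hx ha hle => Subtype.ext (Top.outside h hJ hA x.2 hx ha hle)
      noPGroup := ?_, aLe := fun a ha => hA.leMx ha
      ne := fun e => hA.member.ne ?_
      pA := hA.member.pA.of_equiv (Subgroup.subgroupOfEquivOfLe hA.le_norm).symm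
      aComm := fun a ha b hb => Subtype.ext (hA.member.comm _ ha _ hb)
      off := ?_
      quad := fun {a b} ha hb v => hA.member.quad h.exp ha hb v }
  · intro L hL E hE hp
    have hL' : IsMin Mx A (L.map N.subtype) := by
      refine ⟨fun a ha => ⟨⟨a, hA.le_norm ha⟩, hL.aLe ha, rfl⟩, fun hle => hL.notLe fun y hy => hle ⟨y, hy, rfl⟩,
        fun K hAK hKL hK y hy => ?_⟩
      obtain ⟨y, hy, rfl⟩ := hy
      refine (hL.least (K.subgroupOf N) (fun a ha => hAK ha) (fun k hk => ?_) fun hle => hK fun k hk => ?_) hy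
      · obtain ⟨k', hk', e⟩ := hKL hk
        rwa [← Subtype.ext e]
      · obtain ⟨k', hk', rfl⟩ := hKL hk
        exact hle (show k' ∈ K.subgroupOf N from hk)
    set e := L.equivMapOfInjective N.subtype N.subtype_injective
    have h1 := Top.no_pgroup h hJ hA hL' (Subgroup.map_subtype_le _) (E.map e.toMonoidHom)
      (hE.map _ e.surjective) (hp.map _)
    exact (Subgroup.map_eq_bot_iff_of_injective _ e.injective).1 h1
  · have h1 := congrArg (Subgroup.map N.subtype) e
    rwa [Subgroup.map_bot, Subgroup.map_subgroupOf_eq_of_le hA.le_norm] at h1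
  · rw [Nat.card_congr (Subgroup.subgroupOfEquivOfLe hA.le_norm).toEquiv, fx_subgroupOf hA.le_norm]
    exact hA.member.off

end CfsgLib.LocalEven.PMinFF
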