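import Cfsg.Agent.Lib.LocalEven.StrongFF.Main
import Cfsg.Agent.Lib.LocalEven.MinimalOver

/-!
Minimal offenders in a group whose Sylow subgroup lies in a unique maximal subgroup.
-/

set_option autoImplicit false
set_option linter.unusedSectionVars false

namespace CfsgLib.LocalEven.PMinFF

open CfsgLib.Fusion (conjSub mem_conjSub conj_mem_conjSub conjSub_conjSub conjSub_one conjSub_mono card_conjSub conjSub_eq_iff_mem_normalizer)
open CfsgLib.LocalEven.MinOffender (fx fx_anti mem_fx_conj smul_mem_fx_conj card_fx_conj)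

variable {Γ : Type*} [Group Γ] [Finite Γ] {M : Type*} [AddCommGroup M] [DistribMulAction Γ M] [Finite M]
variable {p : ℕ}

/-- A minimal offender. -/
structure Member (p : ℕ) (M : Type*) [AddCommGroup M] [DistribMulAction Γ M] (A : Subgroup Γ) : Prop where
  ne : A ≠ ⊥
  pA : IsPGroup p ↥A
  comm : ∀ a ∈ A, ∀ b ∈ A, a * b = b * a
  off : Nat.card M ≤ Nat.card ↥A * Nat.card ↥(fx M A)
  strict : ∀ B : Subgroup Γ, B ≤ A → B ≠ ⊥ → B ≠ A → Nat.card ↥B * Nat.card ↥(fx M B) < Nat.card M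

/-- Every offender contains a minimal one. -/
theorem exists_member {A : Subgroup Γ} (hne : A ≠ ⊥) (hpA : IsPGroup p ↥A)
    (hc : ∀ a ∈ A, ∀ b ∈ A, a * b = b * a) (hoff : Nat.card M ≤ Nat.card ↥A * Nat.card ↥(fx M A)) :
    ∃ B ≤ A, Member p M B := by
  obtain ⟨B, ⟨hBA, hB, hBoff⟩, hmin⟩ := Set.Finite.exists_minimal
    (s := {B : Subgroup Γ | B ≤ A ∧ B ≠ ⊥ ∧ Nat.card M ≤ Nat.card ↥B * Nat.card ↥(fx M B)})
    (Set.toFinite _) ⟨A, le_rfl, hne, hoff⟩
  refine ⟨B, hBA, hB, hpA.to_le hBA, fun a ha b hb => hc a (hBA ha) b (hBA hb), hBoff, fun C hC hC1 hCB => ?_⟩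
  by_contra hle
  push Not at hle
  exact hCB (le_antisymm hC (hmin ⟨hC.trans hBA, hC1, hle⟩ hC))

theorem Member.conj {A : Subgroup Γ} (h : Member p M A) (g : Γ) : Member p M (conjSub g A) := by
  refine ⟨fun e => h.ne ((Subgroup.map_eq_bot_iff_of_injective _ (MulAut.conj g).injective).1 e), h.pA.map _,
    ?_, ?_, fun B hB hB1 hBA => ?_⟩
  · rintro _ ⟨a, ha, rfl⟩ _ ⟨b, hb, rfl⟩
    rw [← map_mul, ← map_mul, h.comm a ha b hb]
  · rw [card_conjSub, card_fx_conj]; exact h.off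
  · have hB' : conjSub g⁻¹ B ≤ A := by
      have := conjSub_mono g⁻¹ hB
      rwa [conjSub_conjSub, inv_mul_cancel, conjSub_one] at this
    have h1 := h.strict _ hB'
      (fun e => hB1 ((Subgroup.map_eq_bot_iff_of_injective _ (MulAut.conj g⁻¹).injective).1 e))
      (fun e => hBA (by rw [← e, conjSub_conjSub, mul_inv_cancel, conjSub_one]))
    rwa [card_conjSub, card_fx_conj] at h1

theorem Member.lt {A : Subgroup Γ} (h : Member p M A) : ∀ B : Subgroup Γ, B ≤ A → B ≠ ⊥ → B ≠ A →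
    Nat.card ↥B * Nat.card ↥(fx M B) < Nat.card ↥A * Nat.card ↥(fx M A) :=
  fun B h1 h2 h3 => (h.strict B h1 h2 h3).trans_le h.off

theorem Member.quad [Fact p.Prime] {A : Subgroup Γ} (h : Member p M A) (hexp : ∀ m : M, p • m = 0) {a b : Γ} (ha : a ∈ A)
    (hb : b ∈ A) (v : M) : a • (b • v - v) = b • v - v :=
  MinOffender.quad_of_strict hexp h.pA h.comm h.off h.lt ha hb v

/-- The subgroup generated by the minimal offenders inside `R`. -/
def gen (p : ℕ) (M : Type*) [AddCommGroup M] [DistribMulAction Γ M] (R : Subgroup Γ) : Subgroup Γ :=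
  sSup {A | Member p M A ∧ A ≤ R}

theorem gen_le (R : Subgroup Γ) : gen p M R ≤ R := sSup_le fun _ h => h.2

theorem le_gen {A R : Subgroup Γ} (h : Member p M A) (hA : A ≤ R) : A ≤ gen p M R := le_sSup ⟨h, hA⟩

theorem gen_mono {R S : Subgroup Γ} (h : R ≤ S) : gen p M R ≤ gen p M S :=
  sSup_le_sSup fun _ hA => ⟨hA.1, hA.2.trans h⟩

theorem gen_gen (R : Subgroup Γ) : gen p M (gen p M R) = gen p M R :=
  le_antisymm (gen_le _) (sSup_le_sSup fun _ hA => ⟨hA.1, le_gen hA.1 hA.2⟩)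

theorem gen_conj (g : Γ) (R : Subgroup Γ) : gen p M (conjSub g R) = conjSub g (gen p M R) := by
  have key : ∀ (g : Γ) (R : Subgroup Γ), conjSub g (gen p M R) ≤ gen p M (conjSub g R) := fun g R => by
    rw [conjSub, Subgroup.map_le_iff_le_comap]
    exact sSup_le fun A hA => Subgroup.map_le_iff_le_comap.1 (le_gen (hA.1.conj g) (conjSub_mono g hA.2))
  refine le_antisymm ?_ (key g R)
  have h1 := conjSub_mono g (key g⁻¹ (conjSub g R))
  rwa [conjSub_conjSub, mul_inv_cancel, conjSub_one, conjSub_conjSub, inv_mul_cancel, conjSub_one] at h1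

theorem normalizer_le_normalizer_gen (R : Subgroup Γ) :
    Subgroup.normalizer (R : Set Γ) ≤ Subgroup.normalizer (gen p M R : Set Γ) := fun g hg =>
  conjSub_eq_iff_mem_normalizer.1 (by rw [← gen_conj, conjSub_eq_iff_mem_normalizer.2 hg])

/-- The setting. -/
structure Setting (p : ℕ) (T : Sylow p Γ) (Mx : Subgroup Γ) (M : Type*) [AddCommGroup M] [DistribMulAction Γ M] :
    Prop where
  exp : ∀ m : M, p • m = 0
  faithful : ∀ g : Γ, (∀ m : M, g • m = m) → g = 1
  sylLe : (T : Subgroup Γ) ≤ Mx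
  proper : Mx ≠ ⊤
  uniq : ∀ H : Subgroup Γ, (T : Subgroup Γ) ≤ H → H ≠ ⊤ → H ≤ Mx
  coreFree : ∀ E : Subgroup Γ, E.Normal → IsPGroup p ↥E → E = ⊥
  moved : ∀ g : Γ, (∀ v ∈ fx M (T : Subgroup Γ), g • v = v) → g ∈ Mx

namespace Setting

variable [Fact p.Prime] {T : Sylow p Γ} {Mx : Subgroup Γ} (h : Setting p T Mx M)
include h

theorem coatom : IsCoatom Mx :=
  ⟨h.proper, fun _ hlt => by_contra fun hne => hlt.not_ge (h.uniq _ (h.sylLe.trans hlt.le) hne)⟩

theorem exists_conj_of_le {H : Subgroup Γ} (hH : IsPGroup p ↥H) (hle : H ≤ Mx) :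
    ∃ m ∈ Mx, H ≤ conjSub m (T : Subgroup Γ) := by
  obtain ⟨P, hP⟩ := (hH.of_equiv (Subgroup.subgroupOfEquivOfLe hle).symm).exists_le_sylow
  obtain ⟨m, hm⟩ := MulAction.exists_smul_eq (↥Mx) (T.subtype h.sylLe) P
  refine ⟨(m : Γ), m.2, fun x hx => ?_⟩
  have h1 : (⟨x, hle hx⟩ : ↥Mx) ∈ (P : Subgroup ↥Mx) := hP (show (⟨x, hle hx⟩ : ↥Mx) ∈ H.subgroupOf _ from hx)
  rw [← hm, Sylow.coe_subgroup_smul] at h1
  obtain ⟨y, hy, e⟩ := h1
  exact ⟨(y : Γ), hy, congrArg Subtype.val e⟩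

omit [Fact p.Prime] in
/-- The setting for a conjugate Sylow subgroup inside `Mx`. -/
theorem conjSylow {m : Γ} (hm : m ∈ Mx) : Setting p (m • T) Mx M := by
  have hT : ((m • T : Sylow p Γ) : Subgroup Γ) = conjSub m T := Sylow.coe_subgroup_smul
  refine ⟨h.exp, h.faithful, ?_, h.proper, fun H hH hne => ?_, h.coreFree, fun g hg => ?_⟩
  · rw [hT]
    rintro _ ⟨t, ht, rfl⟩
    exact mul_mem (mul_mem hm (h.sylLe ht)) (inv_mem hm)
  · have h1 : (T : Subgroup Γ) ≤ conjSub m⁻¹ H := by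
      have := conjSub_mono m⁻¹ (hT ▸ hH)
      rwa [conjSub_conjSub, inv_mul_cancel, conjSub_one] at this
    have h2 := h.uniq _ h1 fun e => hne (by
      rw [← conjSub_one H, ← mul_inv_cancel m, ← conjSub_conjSub, e]
      exact Subgroup.map_top_of_surjective _ (MulAut.conj m).surjective)
    intro x hx
    have h3 := h2 (conj_mem_conjSub (g := m⁻¹) hx)
    simpa [mul_assoc] using mul_mem (mul_mem hm h3) (inv_mem hm)
  · have h1 : m⁻¹ * g * m ∈ Mx := h.moved _ fun v hv => by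
      rw [mul_smul, mul_smul, hg _ (by rw [hT]; exact smul_mem_fx_conj hv), inv_smul_smul]
    simpa [mul_assoc] using mul_mem (mul_mem hm h1) (inv_mem hm)

/-- A `p`-subgroup of `Mx` fixes a point moved by any subgroup outside `Mx`. -/
theorem exists_moved {S K : Subgroup Γ} (hS : IsPGroup p ↥S) (hSM : S ≤ Mx) (hK : ¬ K ≤ Mx) :
    ∃ v ∈ fx M S, v ∉ fx M K := by
  obtain ⟨m, hm, hle⟩ := h.exists_conj_of_le hS hSM
  by_contra hc
  push Not at hc
  refine hK fun k hk => (h.conjSylow hm).moved k fun v hv => ?_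
  rw [Sylow.coe_subgroup_smul] at hv
  exact hc v (fx_anti hle hv) k hk

omit [Fact p.Prime] in
/-- A proper subgroup normalised by the Sylow subgroup has its normaliser in `Mx` unless it is normal. -/
theorem normalizer_le {H : Subgroup Γ} (hH : (T : Subgroup Γ) ≤ Subgroup.normalizer (H : Set Γ)) (hne : H ≠ ⊥)
    (hp : IsPGroup p ↥H) : Subgroup.normalizer (H : Set Γ) ≤ Mx :=
  h.uniq _ hH fun e => hne (h.coreFree _ (Subgroup.normalizer_eq_top_iff.1 e) hp)

/-- A normal subgroup inside `Mx` meets the Sylow subgroup trivially. -/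
theorem inf_eq_bot {N : Subgroup Γ} (hN : N.Normal) (hle : N ≤ Mx) : (T : Subgroup Γ) ⊓ N = ⊥ := by
  haveI := hN
  haveI := CfsgLib.Cores.pCore_characteristic (G := Γ) p
  have h1 := MinOver.inf_le_pCore T h.coatom
    (fun M' hM' => ((hM'.1.le_iff_eq h.proper).1 (h.uniq M' hM'.2 hM'.1.1)).symm) N hle
  rw [h.coreFree _ inferInstance (CfsgLib.Cores.isPGroup_pCore p)] at h1
  exact le_bot_iff.1 h1

end Setting

end CfsgLib.LocalEven.PMinFF
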