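import Cfsg.Agent.Lib.LocalEven.PMinFF.Natural

/-!
Transvections over two elements, and the group generated by a complete family of them on the even permutation module.
-/

set_option autoImplicit false
set_option linter.unusedSectionVars false

namespace CfsgLib.LocalEven.PMinFF

open CfsgLib.LocalEven.MinOffender (fx fx_anti)
open CfsgLib.LocalEven.StrongFF (cm mem_cm)

variable {Γ : Type*} [Group Γ] [Finite Γ] {M : Type*} [AddCommGroup M] [DistribMulAction Γ M] [Finite M]

theorem mv_le_of_gen {S : Set Γ} {L : Subgroup Γ} (hL : L ≤ Subgroup.closure S) {U : AddSubgroup M}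
    (hS : ∀ g ∈ S, ∀ m : M, g • m - m ∈ U) : mv M L ≤ U := by
  let K : Subgroup Γ :=
    { carrier := {g | ∀ m : M, g • m - m ∈ U}
      one_mem' := fun m => by simp [zero_mem]
      mul_mem' := fun {a b} ha hb m => by
        rw [show (a * b) • m - m = (a • b • m - b • m) + (b • m - m) by rw [mul_smul]; abel]
        exact add_mem (ha _) (hb m)
      inv_mem' := fun {a} ha m => by
        rw [show a⁻¹ • m - m = -(a • (a⁻¹ • m) - a⁻¹ • m) by rw [smul_inv_smul]; abel]
        exact neg_mem (ha _) }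
  exact mv_le fun g hg => (hL.trans ((Subgroup.closure_le K).2 hS)) hg

variable [Module (ZMod 2) M]

theorem zmod_two_ne {c : ZMod 2} (h : c ≠ 0) : c = 1 := by
  fin_cases c
  · exact absurd rfl h
  · rfl

omit [Finite M] in
theorem add_self_zero (v : M) : v + v = 0 := by
  rw [← two_smul (ZMod 2) v, show (2 : ZMod 2) = 0 from rfl, zero_smul]

/-- `g` is the transvection with centre `u` and functional `φ`. -/
def IsTv (g : Γ) (u : M) (φ : M →ₗ[ZMod 2] ZMod 2) : Prop := ∀ v : M, g • v = v + φ v • u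

namespace IsTv

variable {g s : Γ} {u x : M} {φ χ : M →ₗ[ZMod 2] ZMod 2}

theorem smul_smul' (g : Γ) (c : ZMod 2) (v : M) : g • (c • v) = c • g • v :=
  ZMod.map_smul (DistribSMul.toAddMonoidHom M g) c v

theorem invol (hs : IsTv s x χ) (hx : χ x = 0) (v : M) : s • s • v = v := by
  rw [hs (s • v), hs v, map_add, map_smul, hx, smul_zero, add_zero, add_assoc, add_self_zero, add_zero]

theorem inv_eq (hfaith : ∀ g : Γ, (∀ m : M, g • m = m) → g = 1) (hs : IsTv s x χ) (hx : χ x = 0) : s⁻¹ = s :=
  inv_eq_of_mul_eq_one_right (hfaith _ fun m => by rw [mul_smul, hs.invol hx])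

theorem conj (hg : IsTv g u φ) (hs : IsTv s x χ) (hx : χ x = 0) :
    IsTv (s * g * s) (u + χ u • x) (φ + φ x • χ) := by
  intro v
  rw [mul_smul, mul_smul, hg (s • v), smul_add, hs.invol hx, smul_smul' s, hs u, hs v, map_add, map_smul,
    LinearMap.add_apply, LinearMap.smul_apply, smul_eq_mul, smul_eq_mul, mul_comm (χ v) (φ x)]

theorem comm (hfaith : ∀ g : Γ, (∀ m : M, g • m = m) → g = 1) (hg : IsTv g u φ) (hs : IsTv s x χ) (h1 : φ x = 0)
    (h2 : χ u = 0) : g * s = s * g := by
  rw [← inv_mul_eq_one]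
  refine hfaith _ fun v => ?_
  rw [mul_smul, inv_smul_eq_iff, mul_smul, mul_smul, hg (s • v), hs v, hs (g • v), hg v, map_add, map_add, map_smul,
    map_smul, h1, h2, smul_zero, smul_zero, add_zero, add_zero]
  abel

theorem eq_of (hfaith : ∀ g : Γ, (∀ m : M, g • m = m) → g = 1) (hg : IsTv g u φ) (hs : IsTv s u φ) : g = s :=
  inv_mul_eq_one.1 (hfaith _ fun v => by rw [mul_smul, inv_smul_eq_iff, hg v, hs v])

theorem unique (hg : IsTv g u φ) (hg' : IsTv g x χ) (hu : u ≠ 0) (hφ : φ ≠ 0) : u = x ∧ φ = χ := by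
  obtain ⟨v, hv⟩ : ∃ v, φ v ≠ 0 := by
    by_contra hc; push Not at hc; exact hφ (LinearMap.ext hc)
  have h1 : φ v • u = χ v • x := add_left_cancel ((hg v).symm.trans (hg' v))
  rw [zmod_two_ne hv, one_smul] at h1
  have hχ : χ v = 1 := zmod_two_ne fun e => hu (by rw [h1, e, zero_smul])
  rw [hχ, one_smul] at h1
  refine ⟨h1, LinearMap.ext fun w => ?_⟩
  have h2 : φ w • u = χ w • u := by
    conv_rhs => rw [h1]
    exact add_left_cancel ((hg w).symm.trans (hg' w))
  by_contra hne
  have h3 : (φ w - χ w) • u = 0 := by rw [sub_smul, h2, sub_self]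
  rw [zmod_two_ne (sub_ne_zero.2 hne), one_smul] at h3
  exact hu h3

theorem fix_iff (hg : IsTv g u φ) (hu : u ≠ 0) (v : M) : g • v = v ↔ φ v = 0 := by
  rw [hg v, add_eq_left]
  refine ⟨fun e => by_contra fun hne => hu (by rwa [zmod_two_ne hne, one_smul] at e), fun e => by rw [e, zero_smul]⟩

theorem mem_cm_self (hg : IsTv g u φ) (hφ : φ ≠ 0) : u ∈ cm M g := by
  obtain ⟨v, hv⟩ : ∃ v, φ v ≠ 0 := by
    by_contra hc; push Not at hc; exact hφ (LinearMap.ext hc)
  exact mem_cm.2 ⟨v, by rw [hg v, zmod_two_ne hv, one_smul, add_sub_cancel_left]⟩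

end IsTv

/-- An element with two commutators is a transvection. -/
theorem exists_tv {g : Γ} (hc : Nat.card ↥(cm M g) = 2) :
    ∃ (u : M) (φ : M →ₗ[ZMod 2] ZMod 2), u ≠ 0 ∧ φ ≠ 0 ∧ IsTv g u φ := by
  classical
  haveI : Nontrivial ↥(cm M g) := Finite.one_lt_card_iff_nontrivial.1 (by omega)
  obtain ⟨⟨u, hu⟩, hu0⟩ := exists_ne (0 : ↥(cm M g))
  have hu0' : u ≠ 0 := fun e => hu0 (Subtype.ext e)
  have hor : ∀ v : M, g • v - v = 0 ∨ g • v - v = u := by
    intro v
    by_contra hcon
    push Not at hcon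
    let a : ↥(cm M g) := ⟨g • v - v, mem_cm.2 ⟨v, rfl⟩⟩
    haveI := Fintype.ofFinite ↥(cm M g)
    have h3 : ({0, ⟨u, hu⟩, a} : Finset ↥(cm M g)).card = 3 := by
      refine Finset.card_eq_three.2 ⟨0, ⟨u, hu⟩, a, hu0.symm, fun e => hcon.1 ?_, fun e => hcon.2 ?_, rfl⟩
      · exact (congrArg Subtype.val e).symm
      · exact (congrArg Subtype.val e).symm
    have h4 := Finset.card_le_univ ({0, ⟨u, hu⟩, a} : Finset ↥(cm M g))
    rw [h3, ← Nat.card_eq_fintype_card, hc] at h4
    omega
  let φ₀ : M →+ ZMod 2 :=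
    { toFun := fun v => if g • v - v = 0 then 0 else 1
      map_zero' := by simp
      map_add' := fun v w => by
        have e : g • (v + w) - (v + w) = (g • v - v) + (g • w - w) := by rw [smul_add]; abel
        simp only [e]
        rcases hor v with h1 | h1 <;> rcases hor w with h2 | h2
        · simp [h1, h2]
        · simp [h1, h2, hu0']
        · simp [h1, h2, hu0']
        · rw [h1, h2, add_self_zero, if_pos rfl, if_neg hu0']
          rfl }
  refine ⟨u, φ₀.toZModLinearMap 2, hu0', fun e => ?_, fun v => ?_⟩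
  · obtain ⟨m, hm⟩ := mem_cm.1 hu
    have h1 : φ₀ m = 0 := LinearMap.congr_fun e m
    simp [φ₀, hm, hu0'] at h1
  · show g • v = v + (if g • v - v = 0 then (0 : ZMod 2) else 1) • u
    rcases hor v with h1 | h1
    · rw [if_pos h1, zero_smul, add_zero, ← sub_eq_zero]; exact h1
    · rw [if_neg (h1 ▸ hu0'), one_smul, ← sub_eq_iff_eq_add']; exact h1

/-- Transvections whose centres and functionals meet off the diagonal. -/
theorem perm_block {S : Type*} [Fintype S] [DecidableEq S] [Nonempty S] (hev : Even (Fintype.card S))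
    (hfaith : ∀ g : Γ, (∀ m : M, g • m = m) → g = 1) (t : S → Γ) (u : S → M) (φ : S → M →ₗ[ZMod 2] ZMod 2)
    (htv : ∀ s, IsTv (t s) (u s) (φ s)) (hgram : ∀ s s', φ s (u s') = if s = s' then 0 else 1)
    {E : Subgroup Γ} (hE : E = Subgroup.closure (Set.range t)) :
    mv M E ⊔ fx M E = ⊤ ∧ ∃ (ρ : ↥E →* Equiv.Perm (Option S)) (ψ : M →+ (Option S → ZMod 2)),
      Function.Bijective ρ ∧ (∀ m, ∑ i, ψ m i = 0) ∧ (∀ w : Option S → ZMod 2, ∑ i, w i = 0 → ∃ m, ψ m = w) ∧
      (∀ m, ψ m = 0 ↔ m ∈ fx M E) ∧ ∀ (g : ↥E) (m : M) (i : Option S), ψ ((g : Γ) • m) i = ψ m ((ρ g)⁻¹ i) := by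
  classical
  have hn : (Fintype.card S : ZMod 2) = 0 := hev.natCast_zmod_two
  let ψ : M →+ (Option S → ZMod 2) :=
    { toFun := fun m i => i.elim (∑ s, φ s m) fun s => φ s m + ∑ s', φ s' m
      map_zero' := by funext i; cases i <;> simp
      map_add' := fun a b => by
        funext i
        cases i <;> simp [Finset.sum_add_distrib] <;> abel }
  have hψn : ∀ m, ψ m none = ∑ s, φ s m := fun m => rfl
  have hψs : ∀ m s, ψ m (some s) = φ s m + ∑ s', φ s' m := fun m s => rfl
  have hsum : ∀ m, ∑ i, ψ m i = 0 := fun m => by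
    rw [Fintype.sum_option, hψn]
    simp only [hψs]
    rw [Finset.sum_add_distrib, Finset.sum_const, Finset.card_univ, nsmul_eq_mul, hn, zero_mul, add_zero,
      CharTwo.add_self_eq_zero]
  -- the images of the centres
  have hψu : ∀ s', ψ (u s') none = 1 ∧ ∀ s, ψ (u s') (some s) = if s = s' then 1 else 0 := by
    intro s'
    have h0 : ∑ s, φ s (u s') = (1 : ZMod 2) := by
      simp only [hgram]
      rw [← Finset.sum_erase_add _ _ (Finset.mem_univ s'), if_pos rfl, add_zero,
        Finset.sum_congr rfl (fun s hs => if_neg (Finset.ne_of_mem_erase hs)), Finset.sum_const,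
        Finset.card_erase_of_mem (Finset.mem_univ s'), Finset.card_univ, nsmul_eq_mul, mul_one,
        Nat.cast_sub Fintype.card_pos, hn]
      decide
    refine ⟨by rw [hψn, h0], fun s => ?_⟩
    rw [hψs, h0, hgram]
    split_ifs <;> decide
  -- the span of the centres
  let comb : (S → ZMod 2) → M := fun w => ∑ s, w s • u s
  have hcomb : ∀ w : S → ZMod 2, ψ (comb w) none = ∑ s, w s ∧ ∀ s, ψ (comb w) (some s) = w s := by
    intro w
    have hlin : ∀ i, ψ (comb w) i = ∑ s, w s * ψ (u s) i := by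
      intro i
      simp only [comb, map_sum, Finset.sum_apply]
      refine Finset.sum_congr rfl fun s _ => ?_
      rw [ZMod.map_smul ψ, Pi.smul_apply, smul_eq_mul]
    refine ⟨?_, fun s => ?_⟩
    · rw [hlin]
      simp [(hψu _).1]
    · rw [hlin]
      simp [(hψu _).2]
  have hsurj : ∀ w : Option S → ZMod 2, ∑ i, w i = 0 → ∃ m, ψ m = w := by
    intro w hw
    refine ⟨comb fun s => w (some s), funext fun i => ?_⟩
    cases i with
    | none =>
      rw [(hcomb _).1]
      rw [Fintype.sum_option] at hw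
      exact (CharTwo.add_eq_zero.1 hw).symm
    | some s => exact (hcomb _).2 s
  have hu0 : ∀ s, u s ≠ 0 := fun s e => by
    have := (hψu s).1
    rw [e, map_zero] at this
    exact zero_ne_one this
  have hker : ∀ m, ψ m = 0 ↔ m ∈ fx M E := by
    intro m
    constructor
    · intro e
      have hφ : ∀ s, φ s m = 0 := fun s => by
        have h1 := congrFun e (some s)
        have h2 := congrFun e none
        rw [hψs] at h1
        rw [hψn] at h2
        rwa [h2, Pi.zero_apply, add_zero] at h1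
      have hle : E ≤ MulAction.stabilizer Γ m := by
        rw [hE, Subgroup.closure_le]
        rintro _ ⟨s, rfl⟩
        exact ((htv s).fix_iff (hu0 s) m).2 (hφ s)
      exact fun g hg => hle hg
    · intro hm
      have hφ : ∀ s, φ s m = 0 := fun s =>
        ((htv s).fix_iff (hu0 s) m).1 (hm _ (hE ▸ Subgroup.subset_closure ⟨s, rfl⟩))
      funext i
      cases i <;> simp [hψn, hψs, hφ]
  -- permutations
  have hswap : ∀ (s : S) (m : M) (i : Option S), ψ (t s • m) i = ψ m (Equiv.swap none (some s) i) := by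
    intro s m i
    rw [htv s m, map_add, ZMod.map_smul ψ, Pi.add_apply, Pi.smul_apply, smul_eq_mul]
    cases i with
    | none =>
      rw [Equiv.swap_apply_left, (hψu s).1, mul_one, hψn, hψs, add_comm]
    | some s' =>
      rw [(hψu s).2]
      by_cases hss : s' = s
      · subst hss
        rw [if_pos rfl, mul_one, Equiv.swap_apply_right, hψs, hψn, add_assoc, add_comm (∑ _, _) _, ← add_assoc,
          CharTwo.add_self_eq_zero, zero_add]
      · rw [if_neg hss, mul_zero, add_zero,
          Equiv.swap_apply_of_ne_of_ne (by simp) (by simpa using hss)]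
  let P : Subgroup Γ :=
    { carrier := {g | ∃ σ : Equiv.Perm (Option S), ∀ (m : M) i, ψ (g • m) i = ψ m (σ⁻¹ i)}
      one_mem' := ⟨1, fun m i => by simp⟩
      mul_mem' := by
        rintro a b ⟨σ, hσ⟩ ⟨τ, hτ⟩
        exact ⟨σ * τ, fun m i => by rw [mul_smul, hσ, hτ, mul_inv_rev, Equiv.Perm.mul_apply]⟩
      inv_mem' := by
        rintro a ⟨σ, hσ⟩
        refine ⟨σ⁻¹, fun m i => ?_⟩
        have h1 := hσ (a⁻¹ • m) (σ i)
        rw [smul_inv_smul, Equiv.Perm.inv_def, Equiv.symm_apply_apply] at h1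
        rw [inv_inv]
        exact h1.symm }
  have hEP : E ≤ P := by
    rw [hE, Subgroup.closure_le]
    rintro _ ⟨s, rfl⟩
    exact ⟨Equiv.swap none (some s), fun m i => by rw [hswap, Equiv.swap_inv]⟩
  choose σ hσ using fun g : ↥E => hEP g.2
  -- even vectors separate the points
  have hsep : ∀ τ τ' : Equiv.Perm (Option S), (∀ (m : M) i, ψ m (τ i) = ψ m (τ' i)) → τ = τ' := by
    intro τ τ' hττ
    refine Equiv.ext fun i => ?_
    by_contra hne
    obtain ⟨k, hk1, hk2⟩ : ∃ k, k ≠ τ i ∧ k ≠ τ' i := by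
      by_contra hc
      push Not at hc
      have hsub : (Finset.univ : Finset (Option S)) ⊆ {τ i, τ' i} := fun k _ => by
        by_cases hk : k = τ i
        · simp [hk]
        · simp [hc k hk]
      have h1 := (Finset.card_le_card hsub).trans Finset.card_le_two
      rw [Finset.card_univ, Fintype.card_option] at h1
      obtain ⟨c, hc'⟩ := hev
      have : 0 < Fintype.card S := Fintype.card_pos
      omega
    obtain ⟨m, hm⟩ := hsurj (Pi.single (τ i) 1 + Pi.single k 1) (by
      simp [Finset.sum_add_distrib, Finset.sum_pi_single', CharTwo.add_self_eq_zero])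
    have := hττ m i
    rw [hm] at this
    simp [hk1.symm, Ne.symm hne, hk2.symm] at this
  have hρmul : ∀ a b, σ (a * b) = σ a * σ b := fun a b => inv_injective (hsep _ _ fun m i => by
    rw [← hσ, mul_inv_rev, Equiv.Perm.mul_apply, ← hσ, ← hσ, Subgroup.coe_mul, mul_smul])
  let ρ : ↥E →* Equiv.Perm (Option S) := MonoidHom.mk' σ hρmul
  have hmv : mv M E ⊔ fx M E = ⊤ := by
    rw [AddSubgroup.eq_top_iff']
    intro m
    have hu : ∀ s, u s ∈ mv M E := fun s => cm_le_mv (hE ▸ Subgroup.subset_closure ⟨s, rfl⟩)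
      ((htv s).mem_cm_self fun e => by
        obtain ⟨s', hs'⟩ : ∃ s', s' ≠ s := by
          haveI : Nontrivial S := Fintype.one_lt_card_iff_nontrivial.1 (by
            obtain ⟨c, hc⟩ := hev
            have : 0 < Fintype.card S := Fintype.card_pos
            omega)
          exact exists_ne s
        have h1 := hgram s s'
        rw [e, LinearMap.zero_apply, if_neg hs'.symm] at h1
        exact zero_ne_one h1)
    refine AddSubgroup.mem_sup.2 ⟨comb fun s => ψ m (some s), sum_mem fun s _ => ?_, _, ?_, add_sub_cancel _ m⟩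
    · show ψ m (some s) • u s ∈ mv M E
      rcases eq_or_ne (ψ m (some s)) 0 with h0 | h0
      · rw [h0, zero_smul]; exact zero_mem _
      · rw [zmod_two_ne h0, one_smul]; exact hu s
    · rw [← hker, map_sub, sub_eq_zero]
      funext i
      cases i with
      | none =>
        have h1 := hsum m
        rw [Fintype.sum_option] at h1
        rw [(hcomb _).1, CharTwo.add_eq_zero.1 h1]
      | some s => rw [(hcomb _).2]
  refine ⟨hmv, ρ, ψ, ⟨?_, ?_⟩, hsum, hsurj, hker, fun g m i => hσ g m i⟩
  · refine (injective_iff_map_eq_one ρ).2 fun g hg => Subtype.ext (hfaith _ fun m => ?_)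
    have hg' : σ g = 1 := hg
    have hfix : (g : Γ) • m - m ∈ fx M E := by
      rw [← hker, map_sub, sub_eq_zero]
      funext i
      rw [hσ g m i, hg', inv_one, Equiv.Perm.one_apply]
    let R : AddSubgroup M :=
      { carrier := {v | ∃ w : S → ZMod 2, comb w = v}
        zero_mem' := ⟨0, by simp [comb]⟩
        add_mem' := by
          rintro _ _ ⟨a, rfl⟩ ⟨b, rfl⟩
          exact ⟨a + b, by simp [comb, add_smul, Finset.sum_add_distrib]⟩
        neg_mem' := by
          rintro _ ⟨a, rfl⟩
          exact ⟨a, (neg_eq_of_add_eq_zero_left (add_self_zero _)).symm⟩ }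
    have hR : mv M E ≤ R := mv_le_of_gen hE.le (by
      rintro _ ⟨s, rfl⟩ v
      refine ⟨Pi.single s (φ s v), ?_⟩
      rw [htv s v, add_sub_cancel_left]
      simp [comb, Pi.single_apply])
    obtain ⟨w, hw⟩ := hR (sub_mem_mv g.2 m)
    have hw0 : w = 0 := funext fun s => by
      rw [← (hcomb w).2 s, hw, (hker _).2 hfix]; rfl
    rw [hw0] at hw
    simp [comb] at hw
    exact sub_eq_zero.1 hw.symm
  · rw [← MonoidHom.range_eq_top, eq_top_iff, ← Equiv.Perm.closure_isSwap, Subgroup.closure_le]
    rintro _ ⟨x, y, hxy, rfl⟩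
    have hstar : ∀ s : S, Equiv.swap none (some s) ∈ ρ.range := fun s => by
      refine ⟨⟨t s, hE ▸ Subgroup.subset_closure ⟨s, rfl⟩⟩, inv_injective (hsep _ _ fun m i => ?_)⟩
      show ψ m ((σ _)⁻¹ i) = _
      rw [← hσ, hswap, Equiv.swap_inv]
    cases x with
    | none => cases y with
      | none => exact absurd rfl hxy
      | some s => exact hstar s
    | some s => cases y with
      | none => rw [Equiv.swap_comm]; exact hstar s
      | some s' =>
        by_cases hss : s = s'
        · exact absurd (congrArg some hss) hxy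
        have e := Equiv.swap_apply_apply (Equiv.swap none (some s)) (none : Option S) (some s')
        rw [Equiv.swap_apply_left, Equiv.swap_apply_of_ne_of_ne (by simp) (by simpa using Ne.symm hss)] at e
        rw [e]
        exact ρ.range.mul_mem (ρ.range.mul_mem (hstar s) (hstar s')) (ρ.range.inv_mem (hstar s))

end CfsgLib.LocalEven.PMinFF
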