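import Cfsg.Agent.Lib.LocalEven.PMinFF.Links
import Cfsg.Agent.Lib.LocalEven.PMinFF.Tv

/-!
Over two elements the links between the minimal overgroups form an equivalence.
-/

set_option autoImplicit false
set_option linter.unusedSectionVars false

namespace CfsgLib.LocalEven.PMinFF

open CfsgLib.Fusion (conjSub mem_conjSub conj_mem_conjSub conjSub_conjSub conjSub_one conjSub_mono card_conjSub conjSub_eq_iff_mem_normalizer)
open CfsgLib.LocalEven.MinOffender (fx fx_anti mem_fx_conj smul_mem_fx_conj card_fx_conj)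
open CfsgLib.LocalEven.StrongFF (IsMin cm mem_cm smul_mem_cm)

variable {Γ : Type*} [Group Γ] [Finite Γ] {M : Type*} [AddCommGroup M] [DistribMulAction Γ M] [Finite M]

/-- Two members are linked when the first moves the module commutators of the second. -/
def Link (p : ℕ) (T : Sylow p Γ) (M : Type*) [AddCommGroup M] [DistribMulAction Γ M] (B C : Subgroup Γ) : Prop :=
  B = C ∨ ¬ mv M (blk p T M C) ≤ fx M (blk p T M B)

variable [Module (ZMod 2) M]

/-- The two transvections generating the overgroup of a member of order two. -/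
structure Pair (L C : Subgroup Γ) (a b : Γ) (e f : M) (α β : M →ₗ[ZMod 2] ZMod 2) : Prop where
  mem_a : a ∈ C
  eq_a : ∀ c ∈ C, c = 1 ∨ c = a
  tva : IsTv a e α
  tvb : IsTv b f β
  mem_b : b ∈ L
  le : L ≤ Subgroup.closure {a, b}
  e0 : e ≠ 0
  f0 : f ≠ 0
  ae : α e = 0
  af : α f = 1
  be : β e = 1
  bf : β f = 0

variable {p : ℕ} [Fact p.Prime] {T : Sylow p Γ} {Mx : Subgroup Γ} (h : Setting p T Mx M)
include h

/-- The pair of a member of order two. -/
theorem InT.exists_pair {C : Subgroup Γ} (hC : InT p T M C) (h2 : Nat.card ↥C = 2) :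
    ∃ a b e f α β, Pair (M := M) (blk p T M C) C a b e f α β := by
  obtain ⟨a, ha, ha1⟩ : ∃ a ∈ C, a ≠ 1 := by
    by_contra hc; push Not at hc; exact hC.1.ne ((Subgroup.eq_bot_iff_forall C).2 hc)
  have heq : ∀ c ∈ C, c = 1 ∨ c = a := by
    intro c hc
    by_contra hcon
    push Not at hcon
    classical
    haveI := Fintype.ofFinite ↥C
    have h3 : ({1, ⟨a, ha⟩, ⟨c, hc⟩} : Finset ↥C).card = 3 :=
      Finset.card_eq_three.2 ⟨1, ⟨a, ha⟩, ⟨c, hc⟩, fun e => ha1 (congrArg Subtype.val e).symm,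
        fun e => hcon.1 (congrArg Subtype.val e).symm, fun e => hcon.2 (congrArg Subtype.val e).symm, rfl⟩
    have h4 := Finset.card_le_univ ({1, ⟨a, ha⟩, ⟨c, hc⟩} : Finset ↥C)
    rw [h3, ← Nat.card_eq_fintype_card, h2] at h4
    omega
  obtain ⟨e, α, he, hα, htva⟩ := exists_tv ((InT.card_cm h hC ha ha1).trans h2)
  obtain ⟨x, hxL, hx, hgen⟩ := Top.exists_out h (InT.piece h hC) (InT.top h hC) (InT.blk_min h hC) (InT.blk_le h hC)
  set L := blk p T M C with hL
  set b := x * a * x⁻¹ with hb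
  let xl : M →ₗ[ZMod 2] M := (DistribSMul.toAddMonoidHom M x⁻¹).toZModLinearMap 2
  have hxl : ∀ v, xl v = x⁻¹ • v := fun v => rfl
  have htvb : IsTv b (x • e) (α.comp xl) := fun v => by
    show b • v = v + α (x⁻¹ • v) • x • e
    rw [hb, mul_smul, mul_smul, htva (x⁻¹ • v), smul_add, IsTv.smul_smul', smul_inv_smul]
  have hgen' : L ≤ Subgroup.closure {a, b} := by
    refine hgen.ge.trans (sup_le (fun c hc => ?_) ?_)
    · rcases heq c hc with rfl | rfl
      · exact one_mem _
      · exact Subgroup.subset_closure (Or.inl rfl)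
    · rintro _ ⟨c, hc, rfl⟩
      rcases heq c hc with rfl | rfl
      · simp
      · exact Subgroup.subset_closure (Or.inr rfl)
  have hecm : e ∈ cm M a := htva.mem_cm_self hα
  have hae : α e = 0 := (htva.fix_iff he e).1 (InT.cm_le h hC ha hecm a ha)
  have heD : e ∉ fx M L := fun hd => he (InT.cm_disj h hC ha hecm hd)
  have hf0 : x • e ≠ 0 := fun e0 => he ((smul_eq_zero_iff_eq x).1 e0)
  have hbf : (α.comp xl) (x • e) = 0 := by
    show α (x⁻¹ • x • e) = 0
    rw [inv_smul_smul, hae]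
  have hmoves : ∀ v : M, a • v = v → b • v = v → v ∈ fx M L := fun v h1 h2 g hg => by
    have hle : L ≤ MulAction.stabilizer Γ v := hgen'.trans ((Subgroup.closure_le _).2 (by
      rintro _ (rfl | rfl)
      · exact h1
      · exact h2))
    exact hle hg
  have hbe : (α.comp xl) e = 1 := zmod_two_ne fun e0 =>
    heD (hmoves e ((htva.fix_iff he e).2 hae) ((htvb.fix_iff hf0 e).2 e0))
  have haf : α (x • e) = 1 := zmod_two_ne fun e0 => by
    have h1 : x • e ∈ fx M L := hmoves _ ((htva.fix_iff he _).2 e0) ((htvb.fix_iff hf0 _).2 hbf)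
    have h2 := smul_mem_fx (n := x⁻¹) (Subgroup.le_normalizer (inv_mem hxL)) h1
    rw [inv_smul_smul] at h2
    exact heD h2
  exact ⟨a, b, e, x • e, α, α.comp xl,
    { mem_a := ha, eq_a := heq, tva := htva, tvb := htvb,
      mem_b := mul_mem (mul_mem hxL ((InT.blk_min h hC).aLe ha)) (inv_mem hxL)
      le := hgen', e0 := he, f0 := hf0, ae := hae, af := haf, be := hbe, bf := hbf }⟩

variable {B C : Subgroup Γ} (hB : InT p T M B) (hC : InT p T M C) (hne : B ≠ C)
variable {a b : Γ} {e f : M} {α β : M →ₗ[ZMod 2] ZMod 2} (P : Pair (blk p T M B) B a b e f α β)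
variable {a' b' : Γ} {e' f' : M} {α' β' : M →ₗ[ZMod 2] ZMod 2} (Q : Pair (blk p T M C) C a' b' e' f' α' β')
include hB hC hne P Q

/-- The values between two members. -/
theorem Pair.table : α e' = 0 ∧ α f' = 0 ∧ β e' = 0 := by
  have hfA : ∀ v, v ∈ mv M (blk p T M C) → α v = 0 := fun v hv =>
    (P.tva.fix_iff P.e0 v).1 (InT.mv_le_fix h hC hB hne hv a P.mem_a)
  have hmva : ∀ {g : Γ} {u : M} {φ : M →ₗ[ZMod 2] ZMod 2}, IsTv g u φ → φ ≠ 0 → g ∈ blk p T M C → u ∈ mv M (blk p T M C) :=
    fun htv hφ hg => cm_le_mv hg (htv.mem_cm_self hφ)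
  have hα' : α' ≠ 0 := fun e0 => by have := Q.af; rw [e0, LinearMap.zero_apply] at this; exact zero_ne_one this
  have hβ' : β' ≠ 0 := fun e0 => by have := Q.be; rw [e0, LinearMap.zero_apply] at this; exact zero_ne_one this
  refine ⟨hfA _ (hmva Q.tva hα' ((InT.blk_min h hC).aLe Q.mem_a)), hfA _ (hmva Q.tvb hβ' Q.mem_b),
    (P.tvb.fix_iff P.f0 e').1 ?_⟩
  exact InT.cm_le_fix h hB hC hne.symm Q.mem_a (Q.tva.mem_cm_self hα') b P.mem_b

/-- The link is read off one value. -/
theorem Pair.link_iff : Link p T M B C ↔ β f' = 1 := by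
  obtain ⟨h1, h2, h3⟩ := Pair.table h hB hC hne P Q
  constructor
  · rintro (rfl | hl)
    · exact absurd rfl hne
    refine zmod_two_ne fun e0 => hl ?_
    have hfix : ∀ v, α v = 0 → β v = 0 → v ∈ fx M (blk p T M B) := fun v ha hb g hg => by
      have hle : blk p T M B ≤ MulAction.stabilizer Γ v := P.le.trans ((Subgroup.closure_le _).2 (by
        rintro _ (rfl | rfl)
        · exact (P.tva.fix_iff P.e0 v).2 ha
        · exact (P.tvb.fix_iff P.f0 v).2 hb))
      exact hle hg
    refine mv_le_of_gen Q.le ?_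
    rintro _ (rfl | rfl) m
    · rw [Q.tva m, add_sub_cancel_left]
      exact hfix _ (by rw [map_smul, h1, smul_zero]) (by rw [map_smul, h3, smul_zero])
    · rw [Q.tvb m, add_sub_cancel_left]
      exact hfix _ (by rw [map_smul, h2, smul_zero]) (by rw [map_smul, e0, smul_zero])
  · intro hl
    refine Or.inr fun hle => ?_
    have hf : f' ∈ mv M (blk p T M C) := cm_le_mv Q.mem_b (Q.tvb.mem_cm_self fun e0 => by
      have := Q.be; rw [e0, LinearMap.zero_apply] at this; exact zero_ne_one this)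
    have h4 := (P.tvb.fix_iff P.f0 f').1 (hle hf b P.mem_b)
    rw [hl] at h4
    exact one_ne_zero h4

omit B C a b e f α β a' b' e' f' α' β' hB hC hne P Q in
/-- A transvection commuting with every member is one of them. -/
theorem member_tv (h2 : ∀ {D : Subgroup Γ}, InT p T M D → Nat.card ↥D = 2) {D₀ : Subgroup Γ} (hD₀ : InT p T M D₀)
    {g : Γ} {u : M} {φ : M →ₗ[ZMod 2] ZMod 2} (hg : IsTv g u φ) (hu : u ≠ 0) (hφ : φ ≠ 0) (hφu : φ u = 0)
    (hcomm : ∀ D : Subgroup Γ, InT p T M D → ∀ d ∈ D, g * d = d * g) : ∃ D, InT p T M D ∧ g ∈ D := by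
  classical
  have hg2 : g ^ 2 = 1 := h.faithful _ fun m => by rw [pow_two, mul_smul, hg.invol hφu]
  obtain ⟨v₁, hv₁⟩ : ∃ v, φ v ≠ 0 := by
    by_contra hc; push Not at hc; exact hφ (LinearMap.ext hc)
  have hg1 : g ≠ 1 := fun e1 => hu (by
    have := hg v₁
    rwa [e1, one_smul, zmod_two_ne hv₁, one_smul, left_eq_add] at this)
  have hp2 : p = 2 := by
    haveI : Nontrivial ↥D₀ := (Subgroup.nontrivial_iff_ne_bot D₀).2 hD₀.1.ne
    obtain ⟨n, hn0, hn⟩ := hD₀.1.pA.nontrivial_iff_card.1 inferInstance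
    rw [h2 hD₀] at hn
    exact (Nat.prime_dvd_prime_iff_eq Fact.out Nat.prime_two).1 (hn ▸ dvd_pow_self p (by omega))
  set Z := Subgroup.zpowers g with hZ
  have hcard : Nat.card ↥Z = 2 := by rw [Nat.card_zpowers, orderOf_eq_prime hg2 hg1]
  have hfx : Nat.card M ≤ 2 * Nat.card ↥(fx M Z) := by
    have hker : fx M Z = φ.toAddMonoidHom.ker := by
      ext v
      rw [AddMonoidHom.mem_ker, LinearMap.toAddMonoidHom_coe]
      refine ⟨fun hv => (hg.fix_iff hu v).1 (hv g (Subgroup.mem_zpowers g)), fun hv k hk => ?_⟩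
      have hle : Z ≤ MulAction.stabilizer Γ v := (Subgroup.zpowers_le).2 ((hg.fix_iff hu v).2 hv)
      exact hle hk
    rw [AddSubgroup.card_eq_card_quotient_mul_card_addSubgroup φ.toAddMonoidHom.ker, hker]
    refine Nat.mul_le_mul_right _ ?_
    rw [Nat.card_congr (QuotientAddGroup.quotientKerEquivRange φ.toAddMonoidHom).toEquiv]
    exact (Nat.card_le_card_of_injective Subtype.val Subtype.val_injective).trans_eq (Nat.card_zmod 2)
  have hmem : Member p M Z := by
    refine ⟨fun e => ?_, ?_, fun x hx y hy => ?_, by rw [hcard]; exact hfx, fun B' hle hne' hne'' => ?_⟩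
    · rw [e, Subgroup.card_bot] at hcard; omega
    · exact IsPGroup.of_card (n := 1) (by rw [hcard, pow_one, hp2])
    · obtain ⟨i, rfl⟩ := Subgroup.mem_zpowers_iff.1 hx
      obtain ⟨j, rfl⟩ := Subgroup.mem_zpowers_iff.1 hy
      exact (zpow_mul_comm g i j)
    · have h3 := Subgroup.card_dvd_of_le hle
      rw [hcard, Nat.dvd_prime Nat.prime_two] at h3
      rcases h3 with h3 | h3
      · exact absurd (Subgroup.card_eq_one.1 h3) hne'
      · exact absurd (Subgroup.eq_of_le_of_card_ge hle (by rw [hcard, h3])) hne''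
  set R := gen p M (T : Subgroup Γ) with hR
  have hTR : (T : Subgroup Γ) ≤ Subgroup.normalizer (R : Set Γ) :=
    Subgroup.le_normalizer.trans (normalizer_le_normalizer_gen (T : Subgroup Γ))
  have hgR : g ∈ Subgroup.normalizer (R : Set Γ) := by
    have hle : R ≤ Subgroup.centralizer {g} := sSup_le fun D hD d hd =>
      Subgroup.mem_centralizer_singleton_iff.2 (hcomm D hD d hd).symm
    refine CfsgLib.Fusion.mem_normalizer_of_forall fun r hr => ?_
    rwa [← Subgroup.mem_centralizer_singleton_iff.1 (hle hr), mul_inv_cancel_right]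
  have hgM : g ∈ Mx := h.normalizer_le hTR
    (fun e0 => hD₀.1.ne (le_bot_iff.1 ((le_gen hD₀.1 hD₀.2).trans e0.le))) (T.2.to_le (gen_le _)) hgR
  have hgN : g ∈ Subgroup.normalizer (others p T M D₀ : Set Γ) := by
    have hle : others p T M D₀ ≤ Subgroup.centralizer {g} := sSup_le fun D hD d hd =>
      Subgroup.mem_centralizer_singleton_iff.2 (hcomm D ⟨hD.1, hD.2.1⟩ d hd).symm
    refine CfsgLib.Fusion.mem_normalizer_of_forall fun r hr => ?_
    rwa [← Subgroup.mem_centralizer_singleton_iff.1 (hle hr), mul_inv_cancel_right]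
  by_cases hin : Z ≤ others p T M D₀
  · exact ⟨Z, ⟨hmem, hin.trans (sSup_le fun D hD => hD.2.1)⟩, Subgroup.mem_zpowers g⟩
  · have htop : Top p Mx M (others p T M D₀) Z :=
      ⟨hmem, Subgroup.zpowers_le.2 hgN, Subgroup.zpowers_le.2 hgM, hin⟩
    exact ⟨D₀, hD₀, Top.unique h (InT.piece h hD₀) (InT.top h hD₀) htop ▸ Subgroup.mem_zpowers g⟩

omit B C a b e f α β a' b' e' f' α' β' hB hC hne P Q in
/-- Centres and functionals of members commute with a transvection of vanishing values. -/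
theorem member_tv_pair (h2 : ∀ {D : Subgroup Γ}, InT p T M D → Nat.card ↥D = 2) {D₀ : Subgroup Γ} (hD₀ : InT p T M D₀)
    {g : Γ} {u : M} {φ : M →ₗ[ZMod 2] ZMod 2} (hg : IsTv g u φ) (hu : u ≠ 0) (hφ : φ ≠ 0) (hφu : φ u = 0)
    (hval : ∀ {D : Subgroup Γ}, InT p T M D → ∀ {a b e f α β}, Pair (M := M) (blk p T M D) D a b e f α β →
      φ e = 0 ∧ α u = 0) :
    ∃ D, InT p T M D ∧ ∀ {a b e f α β}, Pair (M := M) (blk p T M D) D a b e f α β → u = e ∧ φ = α := by
  obtain ⟨D, hD, hgD⟩ := member_tv h h2 hD₀ hg hu hφ hφu fun D hD d hd => by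
    obtain ⟨a, b, e, f, α, β, R⟩ := InT.exists_pair h hD (h2 hD)
    rcases R.eq_a d hd with rfl | rfl
    · rw [mul_one, one_mul]
    · exact hg.comm h.faithful R.tva (hval hD R).1 (hval hD R).2
  refine ⟨D, hD, fun {a b e f α β} R => ?_⟩
  have hga : g = a := (R.eq_a g hgD).resolve_left fun e1 => by
    obtain ⟨v, hv⟩ : ∃ v, φ v ≠ 0 := by
      by_contra hc; push Not at hc; exact hφ (LinearMap.ext hc)
    have := hg v
    rw [e1, one_smul, zmod_two_ne hv, one_smul, left_eq_add] at this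
    exact hu this
  exact hg.unique (hga ▸ R.tva) hu hφ

omit B C a b e f α β a' b' e' f' α' β' hB hC hne P Q in
/-- The link is symmetric. -/
theorem Link.symm (h2 : ∀ {D : Subgroup Γ}, InT p T M D → Nat.card ↥D = 2) {B C : Subgroup Γ} (hB : InT p T M B)
    (hC : InT p T M C) (hl : Link p T M B C) : Link p T M C B := by
  by_cases hne : B = C
  · exact Or.inl hne.symm
  obtain ⟨ai, bi, ei, fi, αi, βi, I⟩ := InT.exists_pair h hB (h2 hB)
  obtain ⟨aj, bj, ej, fj, αj, βj, K⟩ := InT.exists_pair h hC (h2 hC)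
  have hε := (Pair.link_iff h hB hC hne I K).1 hl
  rw [Pair.link_iff h hC hB (Ne.symm hne) K I]
  refine zmod_two_ne fun hε' => ?_
  obtain ⟨t1, t2, t3⟩ := Pair.table h hB hC hne I K
  obtain ⟨u1, u2, u3⟩ := Pair.table h hC hB (Ne.symm hne) K I
  -- the product of two transvections with one functional
  have h1 : IsTv (bi * bj * bi) (fj + fi) βj := by
    have := K.tvb.conj I.tvb I.bf
    rwa [hε, one_smul, hε', zero_smul, add_zero] at this
  have hc : IsTv (bi * bj * bi * bj) fi βj := fun v => by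
    rw [mul_smul, h1 (bj • v), K.tvb v, map_add, map_smul, K.bf, smul_zero, add_zero, smul_add, add_assoc,
      ← add_assoc (βj v • fj), add_self_zero, zero_add]
  have hc1 := hc.conj I.tva I.ae
  rw [I.af, one_smul, u3, zero_smul, add_zero] at hc1
  have hc2 := hc1.conj I.tvb I.bf
  rw [map_add, I.bf, I.be, zero_add, one_smul, hε', zero_smul, add_zero, add_right_comm, add_self_zero, zero_add] at hc2
  have hc3 := hc2.conj K.tva K.ae
  rw [u1, zero_smul, add_zero, K.be, one_smul] at hc3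
  have hc4 := hc3.conj K.tvb K.bf
  rw [u3, zero_smul, add_zero, LinearMap.add_apply, K.bf, K.af, zero_add, one_smul, add_comm βj αj, add_assoc,
    add_self_zero, add_zero] at hc4
  obtain ⟨D, hD, hDD⟩ := member_tv_pair h h2 hB hc4 I.e0 (fun e0 => by
    have := K.af; rw [e0, LinearMap.zero_apply] at this; exact zero_ne_one this) u1 (fun {D} hD {a b e f α β} R => by
    constructor
    · by_cases hDC : C = D
      · subst hDC
        rcases R.eq_a aj K.mem_a with e1 | e1
        · exfalso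
          have h3 := K.tva fj
          rw [e1, one_smul, K.af, one_smul, left_eq_add] at h3
          exact K.e0 h3
        · obtain ⟨e2, e3⟩ := (e1 ▸ R.tva : IsTv aj e α).unique K.tva R.e0 (fun e0 => by
            have := R.af; rw [e0, LinearMap.zero_apply] at this; exact zero_ne_one this)
          rw [e2, K.ae]
      · exact (Pair.table h hC hD hDC K R).1
    · by_cases hDB : D = B
      · subst hDB
        rcases R.eq_a ai I.mem_a with e1 | e1
        · exfalso
          have h3 := I.tva fi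
          rw [e1, one_smul, I.af, one_smul, left_eq_add] at h3
          exact I.e0 h3
        · obtain ⟨e2, e3⟩ := (e1 ▸ R.tva : IsTv ai e α).unique I.tva R.e0 (fun e0 => by
            have := R.af; rw [e0, LinearMap.zero_apply] at this; exact zero_ne_one this)
          rw [e3, I.ae]
      · exact (Pair.table h hD hB hDB R I).1)
  obtain ⟨a, b, e, f, α, β, R⟩ := InT.exists_pair h hD (h2 hD)
  obtain ⟨he, hα⟩ := hDD R
  by_cases hDB : D = B
  · subst hDB
    have h4 := R.be
    rw [← he] at h4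
    obtain ⟨he', hα'⟩ := hDD I
    have h5 := I.af
    rw [← hα', u2] at h5
    exact zero_ne_one h5
  · have h5 := (Pair.table h hB hD (Ne.symm hDB) I R).2.2
    rw [← he, I.be] at h5
    exact one_ne_zero h5

omit B C a b e f α β a' b' e' f' α' β' hB hC hne P Q in
/-- The link is transitive. -/
theorem Link.trans (h2 : ∀ {D : Subgroup Γ}, InT p T M D → Nat.card ↥D = 2) {B C E : Subgroup Γ} (hB : InT p T M B)
    (hC : InT p T M C) (hE : InT p T M E) (hl : Link p T M B C) (hl' : Link p T M C E) : Link p T M B E := by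
  by_cases hBC : B = C
  · exact hBC ▸ hl'
  by_cases hCE : C = E
  · exact hCE ▸ hl
  by_cases hBE : B = E
  · exact Or.inl hBE
  by_contra hn
  obtain ⟨ai, bi, ei, fi, αi, βi, I⟩ := InT.exists_pair h hB (h2 hB)
  obtain ⟨aj, bj, ej, fj, αj, βj, J⟩ := InT.exists_pair h hC (h2 hC)
  obtain ⟨ak, bk, ek, fk, αk, βk, K⟩ := InT.exists_pair h hE (h2 hE)
  have eij : βi fj = 1 := (Pair.link_iff h hB hC hBC I J).1 hl
  have eji : βj fi = 1 := (Pair.link_iff h hC hB (Ne.symm hBC) J I).1 (Link.symm h h2 hB hC hl)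
  have ejk : βj fk = 1 := (Pair.link_iff h hC hE hCE J K).1 hl'
  have ekj : βk fj = 1 := (Pair.link_iff h hE hC (Ne.symm hCE) K J).1 (Link.symm h h2 hC hE hl')
  have eik : βi fk = 0 := by
    by_contra e0
    exact hn ((Pair.link_iff h hB hE hBE I K).2 (zmod_two_ne e0))
  have eki : βk fi = 0 := by
    by_contra e0
    exact hn (Link.symm h h2 hE hB ((Pair.link_iff h hE hB (Ne.symm hBE) K I).2 (zmod_two_ne e0)))
  obtain ⟨ij1, ij2, ij3⟩ := Pair.table h hB hC hBC I J
  obtain ⟨ji1, ji2, ji3⟩ := Pair.table h hC hB (Ne.symm hBC) J I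
  obtain ⟨ik1, ik2, ik3⟩ := Pair.table h hB hE hBE I K
  obtain ⟨ki1, ki2, ki3⟩ := Pair.table h hE hB (Ne.symm hBE) K I
  obtain ⟨jk1, jk2, jk3⟩ := Pair.table h hC hE hCE J K
  obtain ⟨kj1, kj2, kj3⟩ := Pair.table h hE hC (Ne.symm hCE) K J
  have step : ∀ {g s : Γ} {u x u' : M} {φ χ φ' : M →ₗ[ZMod 2] ZMod 2}, IsTv g u φ → IsTv s x χ → χ x = 0 →
      χ u = 1 → φ x = 1 → u' = u + x → φ' = φ + χ → IsTv (s * g * s) u' φ' := by
    intro g s u x u' φ χ φ' hg hs hx h1 h3 e1 e3
    have := hg.conj hs hx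
    rwa [h1, h3, one_smul, one_smul, ← e1, ← e3] at this
  have c1 := step I.tvb J.tvb J.bf eji eij (u' := fi + fj) rfl (φ' := βi + βj) rfl
  have c2 := step c1 K.tvb K.bf (by simp [eki, ekj]) (by simp [eik, ejk]) (u' := fi + fj + fk) rfl
    (φ' := βi + βj + βk) rfl
  have c3 := step c2 J.tva J.ae (by simp [ji2, J.af, jk2]) (by simp [ij3, J.be, kj3]) (u' := fi + fj + fk + ej) rfl
    (φ' := βi + βj + βk + αj) rfl
  have c4 := step c3 J.tvb J.bf (by simp [eji, J.bf, ejk, J.be]; decide) (by simp [eij, J.bf, ekj, J.af]; decide)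
    (u' := fi + fk + ej) (by rw [show fi + fj + fk + ej + fj = fi + fk + ej + (fj + fj) by abel, add_self_zero, add_zero])
    (φ' := βi + βk + αj) (by rw [show βi + βj + βk + αj + βj = βi + βk + αj + (βj + βj) by abel, add_self_zero, add_zero])
  have c5 := step c4 I.tva I.ae (by simp [I.af, ik2, ij1]) (by simp [I.be, ki3, ji1]) (u' := fi + fk + ej + ei) rfl
    (φ' := βi + βk + αj + αi) rfl
  have c6 := step c5 I.tvb I.bf (by simp [I.bf, eik, ij3, I.be]) (by simp [I.bf, eki, ji2, I.af])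
    (u' := fk + ej + ei) (by rw [show fi + fk + ej + ei + fi = fk + ej + ei + (fi + fi) by abel, add_self_zero, add_zero])
    (φ' := βk + αj + αi) (by rw [show βi + βk + αj + αi + βi = βk + αj + αi + (βi + βi) by abel, add_self_zero, add_zero])
  have c7 := step c6 K.tva K.ae (by simp [K.af, kj1, ki1]) (by simp [K.be, jk1, ik1]) (u' := fk + ej + ei + ek) rfl
    (φ' := βk + αj + αi + αk) rfl
  have c8 := step c7 K.tvb K.bf (by simp [K.bf, kj3, ki3, K.be]) (by simp [K.bf, jk2, ik2, K.af])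
    (u' := ej + ei + ek) (by rw [show fk + ej + ei + ek + fk = ej + ei + ek + (fk + fk) by abel, add_self_zero, add_zero])
    (φ' := αj + αi + αk) (by rw [show βk + αj + αi + αk + βk = αj + αi + αk + (βk + βk) by abel, add_self_zero, add_zero])
  have hval : ∀ {D : Subgroup Γ}, InT p T M D → ∀ {a b e f α β}, Pair (M := M) (blk p T M D) D a b e f α β →
      ∀ {X : Subgroup Γ}, InT p T M X → ∀ {a' b' e' f' α' β'}, Pair (M := M) (blk p T M X) X a' b' e' f' α' β' →
      α e' = 0 := by
    intro D hD a b e f α β R X hX a' b' e' f' α' β' S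
    by_cases hDX : D = X
    · subst hDX
      rcases R.eq_a a' S.mem_a with e1 | e1
      · exfalso
        have h3 := S.tva f'
        rw [e1, one_smul, S.af, one_smul, left_eq_add] at h3
        exact S.e0 h3
      · obtain ⟨e2, e3⟩ := (e1 ▸ R.tva : IsTv a' e α).unique S.tva R.e0 (fun e0 => by
          have := R.af; rw [e0, LinearMap.zero_apply] at this; exact zero_ne_one this)
        rw [e3, S.ae]
    · exact (Pair.table h hD hX hDX R S).1
  obtain ⟨D, hD, hDD⟩ := member_tv_pair h h2 hB c8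
    (fun e0 => by
      have := congrArg βi e0
      simp [I.be, ij3, ik3] at this)
    (fun e0 => by
      have := LinearMap.congr_fun e0 fi
      simp [I.af, ji2, ki2] at this)
    (by simp [I.ae, J.ae, K.ae, ij1, ik1, ji1, jk1, ki1, kj1])
    (fun {D} hD {a b e f α β} R => ⟨by simp [hval hB I hD R, hval hC J hD R, hval hE K hD R],
      by simp [hval hD R hB I, hval hD R hC J, hval hD R hE K]⟩)
  obtain ⟨a, b, e, f, α, β, R⟩ := InT.exists_pair h hD (h2 hD)
  obtain ⟨-, hα⟩ := hDD R
  have v1 : α fi = 1 := by rw [← hα]; simp [I.af, ji2, ki2]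
  have v2 : α fj = 1 := by rw [← hα]; simp [J.af, ij2, kj2]
  by_cases hDB : D = B
  · subst hDB
    obtain ⟨-, hα'⟩ := hDD I
    have h3 : αi fj = 1 := by rw [← hα']; simp [J.af, ij2, kj2]
    rw [ij2] at h3
    exact zero_ne_one h3
  · rw [(Pair.table h hD hB hDB R I).2.1] at v1
    exact zero_ne_one v1

end CfsgLib.LocalEven.PMinFF
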