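import Cfsg.Agent.Lib.LocalEven.PMinFF.Centralize
import Cfsg.Agent.Lib.LocalEven.StrongFF.Main
import Cfsg.Agent.Lib.LocalEven.SubnormalSylow

/-!
`N(J)` has only one offender beside `J` in `Mx`, and the minimal overgroup of that offender is normal in `N(J)`.
-/

set_option autoImplicit false
set_option linter.unusedSectionVars false

namespace CfsgLib.LocalEven.PMinFF

open CfsgLib.Fusion (conjSub mem_conjSub conj_mem_conjSub conjSub_conjSub conjSub_one conjSub_mono card_conjSub conjSub_eq_iff_mem_normalizer)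
open CfsgLib.LocalEven.MinOffender (fx fx_anti mem_fx_conj smul_mem_fx_conj card_fx_conj pair_le)
open CfsgLib.LocalEven.StrongFF (IsMin fx_subgroupOf fx_top_subgroup conjSub_subgroupOf cm mem_cm smul_mem_cm card_cm_conj)

variable {Γ : Type*} [Group Γ] [Finite Γ] {M : Type*} [AddCommGroup M] [DistribMulAction Γ M] [Finite M]
variable {p : ℕ} [Fact p.Prime] {T : Sylow p Γ} {Mx : Subgroup Γ}
variable (h : Setting p T Mx M) {J : Subgroup Γ} (hJ : Piece p T Mx M J) {A : Subgroup Γ} (hA : Top p Mx M J A)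
include h hJ hA

/-- Every element of `N(J)` outside `Mx` is `a * x * m`. -/
theorem Top.exists_rep {L : Subgroup Γ} (hL : IsMin Mx A L) (hLN : L ≤ Subgroup.normalizer (J : Set Γ)) {x : Γ}
    (hxL : x ∈ L) (hx : x ∉ Mx) {g : Γ} (hg : g ∈ Subgroup.normalizer (J : Set Γ)) (hgM : g ∉ Mx) :
    ∃ a ∈ A, (a * x)⁻¹ * g ∈ Mx := by
  set N := Subgroup.normalizer (J : Set Γ) with hN
  have s := Top.setup h hJ hA
  have hL' : IsMin (Mx.subgroupOf N) (A.subgroupOf N) (L.subgroupOf N) := by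
    refine ⟨fun a ha => hL.aLe ha, fun hle => hL.notLe fun y hy => hle (show (⟨y, hLN hy⟩ : ↥N) ∈ _ from hy),
      fun K hAK hKL hK y hy => ?_⟩
    obtain ⟨z, hz, e⟩ := hL.least (K.map N.subtype) (fun a ha => ⟨⟨a, hA.le_norm ha⟩, hAK ha, rfl⟩)
      (fun _ ⟨z, hz, e⟩ => e ▸ hKL hz) (fun hle => hK fun z hz => hle ⟨z, hz, rfl⟩) hy
    rwa [← Subtype.ext e]
  obtain ⟨a, ha, ha'⟩ := s.exists_rep hL' (x := ⟨x, hLN hxL⟩) hxL hx (g := ⟨g, hg⟩) hgM
  exact ⟨a, ha, ha'⟩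

/-- Conjugates under `N(J) ∩ Mx` commute with the offender. -/
theorem Top.conj_comm {g : Γ} (hg : g ∈ Subgroup.normalizer (J : Set Γ)) (hgM : g ∈ Mx) :
    ∀ a ∈ A, ∀ b ∈ conjSub g A, a * b = b * a := by
  set N := Subgroup.normalizer (J : Set Γ) with hN
  have s := Top.setup h hJ hA
  obtain ⟨L, hL⟩ := s.exists_min_top
  obtain ⟨x, hxL, hx⟩ := s.exists_out hL
  intro a ha b hb
  have hbN : b ∈ N := by
    obtain ⟨c, hc, rfl⟩ := hb
    exact N.mul_mem (N.mul_mem hg (hA.le_norm hc)) (N.inv_mem hg)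
  exact congrArg Subtype.val (s.conj_comm hL hxL hx (h := ⟨g, hg⟩) hgM ⟨a, hA.le_norm ha⟩ ha ⟨b, hbN⟩
    (by rw [conjSub_subgroupOf]; exact hb))

theorem Top.conj {g : Γ} (hg : g ∈ Subgroup.normalizer (J : Set Γ)) (hgM : g ∈ Mx) :
    Top p Mx M J (conjSub g A) := by
  refine ⟨hA.member.conj g, ?_, ?_, fun hle => hA.notLe ?_⟩
  · rintro _ ⟨a, ha, rfl⟩
    exact (Subgroup.normalizer (J : Set Γ)).mul_mem
      ((Subgroup.normalizer (J : Set Γ)).mul_mem hg (hA.le_norm ha)) ((Subgroup.normalizer (J : Set Γ)).inv_mem hg)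
  · rintro _ ⟨a, ha, rfl⟩
    exact Mx.mul_mem (Mx.mul_mem hgM (hA.leMx ha)) (Mx.inv_mem hgM)
  · have h1 := conjSub_mono g⁻¹ hle
    rwa [conjSub_conjSub, inv_mul_cancel, conjSub_one,
      conjSub_eq_iff_mem_normalizer.2 ((Subgroup.normalizer (J : Set Γ)).inv_mem hg)] at h1

omit hA in
/-- Two commuting offenders beside `J` coincide. -/
theorem Top.eq_of_comm {A B : Subgroup Γ} (hA : Top p Mx M J A) (hB : Top p Mx M J B)
    (hcomm : ∀ a ∈ A, ∀ b ∈ B, a * b = b * a) : B = A := by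
  set N := Subgroup.normalizer (J : Set Γ) with hN
  have hp : IsPGroup p ↥(A ⊔ B : Subgroup Γ) := hA.member.pA.to_sup_of_normal_right' hB.member.pA
    fun a ha => CfsgLib.Fusion.mem_normalizer_of_forall fun b hb => by
      rwa [hcomm a ha b hb, mul_inv_cancel_right]
  obtain ⟨S₀, hS₀⟩ := exists_sylow_over hp (sup_le hA.le_norm hB.le_norm)
  set P := (S₀ : Subgroup ↥N).map N.subtype with hP
  have hPp : IsPGroup p ↥P := S₀.2.map _
  have hPN : P ≤ N := Subgroup.map_subtype_le _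
  have hAP : A ≤ P := le_sup_left.trans hS₀
  have hBP : B ≤ P := le_sup_right.trans hS₀
  have hPM : P ≤ Mx := Top.pgroup_le h hJ hA hPp hPN hAP
  -- the core of `Mx` in `N(J)`
  set K : Subgroup ↥N := (Mx.subgroupOf N).normalCore with hK
  haveI : K.Normal := Subgroup.normalCore_normal _
  obtain ⟨Q, hQ⟩ := exists_sylow_eq_inf_of_isSubnormal S₀ (K := K) (Subgroup.Normal.isSubnormal ‹_›)
  have hfr := Sylow.normalizer_sup_eq_top Q
  rw [hQ, Subgroup.subgroupOf_map_subtype] at hfr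
  set D := (S₀ : Subgroup ↥N) ⊓ K with hD
  have hout : ¬ Subgroup.normalizer (D : Set ↥N) ≤ Mx.subgroupOf N := fun hle => hJ.notLe fun g hg => by
    have h1 := sup_le hle (Subgroup.normalCore_le (Mx.subgroupOf N)) (hfr ▸ Subgroup.mem_top (⟨g, hg⟩ : ↥N))
    exact h1
  obtain ⟨⟨x₀, hx₀N⟩, hx₀, hx₀M⟩ := SetLike.not_le_iff_exists.1 hout
  set R := D.map N.subtype with hR
  have hRP : R ≤ P := Subgroup.map_mono inf_le_left
  have hAR : A ≤ Subgroup.normalizer (R : Set Γ) := fun a ha => by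
    refine CfsgLib.Fusion.mem_normalizer_of_forall ?_
    rintro _ ⟨d, hd, rfl⟩
    obtain ⟨a', ha', rfl⟩ := hAP ha
    exact ⟨a' * d * a'⁻¹, ⟨S₀.toSubgroup.mul_mem (S₀.toSubgroup.mul_mem ha' hd.1) (S₀.toSubgroup.inv_mem ha'),
      Subgroup.Normal.conj_mem ‹_› d hd.2 a'⟩, rfl⟩
  have hx₀R : x₀ ∈ Subgroup.normalizer (R : Set Γ) := by
    refine CfsgLib.Fusion.mem_normalizer_of_forall ?_
    rintro _ ⟨d, hd, rfl⟩
    exact ⟨_, (Subgroup.mem_normalizer_iff.1 hx₀ d).1 hd, rfl⟩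
  obtain ⟨L, hLK, hLN, hL⟩ := Top.exists_min h hJ hA (K := A ⊔ conjSub x₀ A) le_sup_left
    (Top.not_le h hJ hA hx₀N hx₀M) (sup_le hA.le_norm (by
      rintro _ ⟨a, ha, rfl⟩
      exact N.mul_mem (N.mul_mem hx₀N (hA.le_norm ha)) (N.inv_mem hx₀N)))
  have hLR : L ≤ Subgroup.normalizer (R : Set Γ) := hLK.trans (sup_le hAR (by
    rintro _ ⟨a, ha, rfl⟩
    exact mul_mem (mul_mem hx₀R (hAR ha)) (inv_mem hx₀R)))
  have hcent := Top.centralize h hJ hA hL hLN hPp hPM hRP hAP hLR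
  obtain ⟨x, hxL, hx, hgen⟩ := Top.exists_out h hJ hA hL hLN
  -- the part of `B` in the core is trivial
  have hBK : ∀ b (hb : b ∈ B), (⟨b, hB.le_norm hb⟩ : ↥N) ∈ K → b = 1 := fun b hb hbK =>
    Top.outside h hJ hB (x := x) (hLN hxL) hx hb (hbK ⟨x, hLN hxL⟩)
  -- the `A`-part of an element of `B`
  have hdec : ∀ b, ∀ hb : b ∈ B, ∃ a, ∃ ha : a ∈ A,
      (⟨a, hA.le_norm ha⟩⁻¹ * ⟨b, hB.le_norm hb⟩ : ↥N) ∈ K := by
    intro b hb
    obtain ⟨a, ha, ha'⟩ := Top.exists_rep h hJ hA hL hLN hxL hx (g := b * x)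
      (N.mul_mem (hB.le_norm hb) (hLN hxL)) fun e => hx (by
        have := Mx.mul_mem (Mx.inv_mem (hB.leMx hb)) e
        rwa [inv_mul_cancel_left] at this)
    refine ⟨a, ha, fun ⟨g, hg⟩ => ?_⟩
    show g * (a⁻¹ * b) * g⁻¹ ∈ Mx
    have hk : a⁻¹ * b ∈ Mx := Mx.mul_mem (Mx.inv_mem (hA.leMx ha)) (hB.leMx hb)
    have hk' : x⁻¹ * (a⁻¹ * b) * x ∈ Mx := by simpa [mul_assoc] using ha'
    by_cases hgM : g ∈ Mx
    · exact Mx.mul_mem (Mx.mul_mem hgM hk) (Mx.inv_mem hgM)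
    obtain ⟨c, hc, hc'⟩ := Top.exists_rep h hJ hA hL hLN hxL hx (N.inv_mem hg)
      (fun e => hgM (by simpa using Mx.inv_mem e))
    have hcomm' : c⁻¹ * (a⁻¹ * b) * c = a⁻¹ * b := by
      have h1 : c * a⁻¹ = a⁻¹ * c := hA.member.comm c hc _ (A.inv_mem ha)
      rw [mul_assoc, mul_assoc, ← hcomm c hc b hb, ← mul_assoc a⁻¹, ← h1, mul_assoc c, inv_mul_cancel_left]
    have h2 := Mx.mul_mem (Mx.mul_mem (Mx.inv_mem hc') hk') hc'
    generalize hm : (c * x)⁻¹ * g⁻¹ = m at h2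
    have hg' : g⁻¹ = c * x * m := by rw [← hm]; group
    have : g * (a⁻¹ * b) * g⁻¹ = m⁻¹ * (x⁻¹ * (c⁻¹ * (a⁻¹ * b) * c) * x) * m := by
      rw [show g = (c * x * m)⁻¹ by rw [← hg', inv_inv]]
      group
    rw [this, hcomm']
    exact h2
  choose f hf hfK using hdec
  -- its `K`-part commutes with the overgroup
  have hkx : ∀ b (hb : b ∈ B), ∀ l ∈ L, ((f b hb)⁻¹ * b) * l = l * ((f b hb)⁻¹ * b) := fun b hb => by
    refine hcent _ ⟨_, ⟨?_, hfK b hb⟩, rfl⟩
    obtain ⟨a', ha', e⟩ := hAP (hf b hb)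
    obtain ⟨b', hb', e'⟩ := hBP hb
    have e1 : (⟨f b hb, hA.le_norm (hf b hb)⟩⁻¹ * ⟨b, hB.le_norm hb⟩ : ↥N) = a'⁻¹ * b' := by
      apply Subtype.ext
      show (f b hb)⁻¹ * b = (a' : Γ)⁻¹ * b'
      rw [← e, ← e']
      rfl
    rw [e1]
    exact S₀.toSubgroup.mul_mem (S₀.toSubgroup.inv_mem ha') hb'
  -- common fixed points of `B` and its conjugate
  set D' := fx M B ⊓ fx M (conjSub x B) with hD'
  have hD'D : D' ≤ fx M L ∧ ∀ v ∈ D', ∀ b (hb : b ∈ B), ((f b hb)⁻¹ * b) • v = v := by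
    have key : ∀ v ∈ D', ∀ b (hb : b ∈ B), f b hb • v = v ∧ f b hb • x⁻¹ • v = x⁻¹ • v := by
      intro v hv b hb
      set a := f b hb
      set k := a⁻¹ * b with hk
      have h1 : k • v = a⁻¹ • v := by rw [hk, mul_smul, hv.1 b hb]
      have h2 : (x * a * x⁻¹) • k • v = v := by
        have e := hv.2 _ (conj_mem_conjSub (g := x) hb)
        rw [← mul_smul, mul_assoc (x * a), ← hkx b hb x⁻¹ (inv_mem hxL)]
        rwa [show x * a * (k * x⁻¹) = x * b * x⁻¹ by rw [hk]; group]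
      have h3 : a⁻¹ • v - v ∈ fx M L := by
        have hA' : a⁻¹ • v - v ∈ fx M A :=
          hA.cm_le h.exp (A.inv_mem (hf b hb)) (mem_cm.2 ⟨v, rfl⟩)
        have hA'' : a⁻¹ • v - v ∈ fx M (conjSub x A) := by
          rw [mem_fx_conj]
          have h4 : a⁻¹ • v = (x * a * x⁻¹)⁻¹ • v := by rw [← h1, eq_inv_smul_iff, h2]
          rw [h4, smul_sub, ← mul_smul, show x⁻¹ * (x * a * x⁻¹)⁻¹ = a⁻¹ * x⁻¹ by group, mul_smul]
          exact hA.cm_le h.exp (A.inv_mem (hf b hb)) (mem_cm.2 ⟨x⁻¹ • v, rfl⟩)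
        intro g hg
        exact (hgen.ge.trans (sup_le (fun c hc => MulAction.mem_stabilizer_iff.2 (hA' c hc))
          (fun c hc => MulAction.mem_stabilizer_iff.2 (hA'' c hc))) : L ≤ MulAction.stabilizer Γ (a⁻¹ • v - v)) hg
      have h5 : a⁻¹ • v = v := sub_eq_zero.1
        (Top.cm_disj h hJ hA hL hLN (A.inv_mem (hf b hb)) (mem_cm.2 ⟨v, rfl⟩) h3)
      refine ⟨(inv_smul_eq_iff.1 h5).symm, ?_⟩
      rw [h1, h5, mul_smul, mul_smul] at h2
      exact eq_inv_smul_iff.2 h2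
    refine ⟨fun v hv => ?_, fun v hv b hb => ?_⟩
    · obtain ⟨b, hb, hb1⟩ : ∃ b ∈ B, b ≠ 1 := by
        by_contra hc; push Not at hc; exact hB.member.ne ((Subgroup.eq_bot_iff_forall B).2 hc)
      have ha1 : f b hb ≠ 1 := fun e => hb1 (hBK b hb (by
        have := hfK b hb
        rwa [show (⟨f b hb, hA.le_norm (hf b hb)⟩ : ↥N) = 1 from Subtype.ext e, inv_one, one_mul] at this))
      have h1 : v ∈ fx M A := Top.fix_of h hJ hA (hf b hb) ha1 (key v hv b hb).1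
      have h2 : v ∈ fx M (conjSub x A) := mem_fx_conj.2 (Top.fix_of h hJ hA (hf b hb) ha1 (key v hv b hb).2)
      intro g hg
      exact (hgen.ge.trans (sup_le (fun c hc => MulAction.mem_stabilizer_iff.2 (h1 c hc))
        (fun c hc => MulAction.mem_stabilizer_iff.2 (h2 c hc))) : L ≤ MulAction.stabilizer Γ v) hg
    · rw [mul_smul, hv.1 b hb, inv_smul_eq_iff, (key v hv b hb).1]
  -- `B` injects into `A`
  have hinj : Nat.card ↥B ≤ Nat.card ↥A := by
    refine Nat.card_le_card_of_injective (fun b : ↥B => (⟨f b b.2, hf b b.2⟩ : ↥A)) fun b c e => ?_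
    have e' : f b b.2 = f c c.2 := congrArg Subtype.val e
    refine Subtype.ext (inv_mul_eq_one.1 (hBK _ (B.mul_mem (B.inv_mem b.2) c.2) ?_))
    have h1 := K.mul_mem (K.inv_mem (hfK b b.2)) (hfK c c.2)
    convert h1 using 1
    apply Subtype.ext
    show (b : Γ)⁻¹ * c = ((f b b.2)⁻¹ * b)⁻¹ * ((f c c.2)⁻¹ * c)
    rw [← e']
    group
  have hDD : D' = fx M L := by
    refine AddSubgroup.eq_of_le_of_card_ge hD'D.1 ?_
    have e1 := Top.card_mod h hJ hA
    have e2 := Top.card_mod h hJ hB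
    have e3 := Top.card_fix h hJ hA hL hLN
    have e4 : Nat.card ↥(fx M B) * Nat.card ↥(fx M B) ≤ Nat.card M * Nat.card ↥D' := by
      have := pair_le (X := fx M B) (Y := fx M (conjSub x B)) (Z := D') (fun m h1 h2 => ⟨h1, h2⟩)
        (W := ⊤) le_top le_top
      rwa [card_fx_conj, AddSubgroup.card_top] at this
    set qA := Nat.card ↥A
    set qB := Nat.card ↥B
    set XA := Nat.card ↥(fx M A)
    set XB := Nat.card ↥(fx M B)
    set DL := Nat.card ↥(fx M L)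
    set DD := Nat.card ↥D'
    have hqA : 0 < qA := Nat.card_pos
    suffices hmul : qA * qA * Nat.card M * DL ≤ qA * qA * Nat.card M * DD from
      Nat.le_of_mul_le_mul_left hmul (Nat.mul_pos (Nat.mul_pos hqA hqA) (Nat.card_pos (α := M)))
    calc qA * qA * Nat.card M * DL = Nat.card M * Nat.card M := by rw [e1, e3]; ring
      _ = qB * qB * (XB * XB) := by rw [e2]; ring
      _ ≤ qB * qB * (Nat.card M * DD) := Nat.mul_le_mul_left _ e4
      _ ≤ qA * qA * (Nat.card M * DD) := Nat.mul_le_mul_right _ (Nat.mul_le_mul hinj hinj)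
      _ = _ := by ring
  have hBA : B ≤ A := by
    intro b hb
    set k := (f b hb)⁻¹ * b with hk
    suffices hk1 : k = 1 by rw [← inv_mul_eq_one.1 hk1]; exact hf b hb
    obtain ⟨z, hz, hzL⟩ := h.exists_moved hPp hPM hL.notLe
    let U : AddSubgroup M :=
      { carrier := {v | k • v = v}
        zero_mem' := smul_zero k
        add_mem' := fun {u v} hu hv => by rw [Set.mem_setOf_eq] at *; rw [smul_add, hu, hv]
        neg_mem' := fun {u} hu => by rw [Set.mem_setOf_eq] at *; rw [smul_neg, hu] }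
    have hkz : z ∈ U := hz k (P.mul_mem (P.inv_mem (hAP (hf b hb))) (hBP hb))
    obtain ⟨htop, -⟩ := Top.invariant_top h hJ hA hL hLN (U := U)
      (fun g hg v (hv : k • v = v) => show k • g • v = g • v by rw [← mul_smul, hkx b hb g hg, mul_smul, hv]) hkz hzL
    refine h.faithful k fun m => ?_
    have hle : fx M L ≤ U := fun v hv => hD'D.2 v (hDD ▸ hv) b hb
    exact (show U = ⊤ from by rwa [sup_eq_left.2 hle] at htop).ge (AddSubgroup.mem_top m)
  by_contra hne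
  exact absurd (hA.member.strict B hBA hB.member.ne hne) (not_lt.2 hB.member.off)

omit hA in
/-- There is only one offender beside `J`. -/
theorem Top.unique {A B : Subgroup Γ} (hA : Top p Mx M J A) (hB : Top p Mx M J B) : B = A := by
  have hnorm : ∀ {A : Subgroup Γ}, Top p Mx M J A → ∀ {g : Γ}, g ∈ Subgroup.normalizer (J : Set Γ) → g ∈ Mx →
      conjSub g A = A := fun hA _ hg hgM =>
    Top.eq_of_comm h hJ hA (Top.conj h hJ hA hg hgM) (Top.conj_comm h hJ hA hg hgM)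
  refine Top.eq_of_comm h hJ hA hB fun a ha b hb => ?_
  set c := a * b * a⁻¹ * b⁻¹ with hc
  have hcA : c ∈ A := by
    have h1 : b * a⁻¹ * b⁻¹ ∈ A := by
      rw [← hnorm hA (hB.le_norm hb) (hB.leMx hb)]; exact conj_mem_conjSub (A.inv_mem ha)
    rw [hc, mul_assoc, mul_assoc, ← mul_assoc b]
    exact A.mul_mem ha h1
  have hcB : c ∈ B := by
    have h1 : a * b * a⁻¹ ∈ B := by
      rw [← hnorm hB (hA.le_norm ha) (hA.leMx ha)]; exact conj_mem_conjSub hb
    exact B.mul_mem h1 (B.inv_mem hb)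
  by_contra hne
  have hc1 : c ≠ 1 := fun e => hne (by rwa [hc, mul_inv_eq_one, mul_inv_eq_iff_eq_mul] at e)
  refine hne (mul_inv_eq_one.1 ?_)
  have hfix : fx M A = fx M B := le_antisymm (fun v hv => Top.fix_of h hJ hB hcB hc1 (hv c hcA))
    fun v hv => Top.fix_of h hJ hA hcA hc1 (hv c hcB)
  refine h.faithful _ fun m => ?_
  obtain ⟨n, rfl⟩ : ∃ n, (b * a) • n = m := ⟨(b * a)⁻¹ • m, smul_inv_smul _ _⟩
  have h1 : a • (b • n - n) = b • n - n := (hfix ▸ hB.cm_le h.exp hb (mem_cm.2 ⟨n, rfl⟩) : b • n - n ∈ fx M A) a ha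
  have h2 : b • (a • n - n) = a • n - n := (hfix ▸ hA.cm_le h.exp ha (mem_cm.2 ⟨n, rfl⟩) : a • n - n ∈ fx M B) b hb
  rw [← mul_smul, inv_mul_cancel_right, mul_smul, mul_smul,
    show b • n = n + (b • n - n) by abel, show a • n = n + (a • n - n) by abel, smul_add, smul_add, h1, h2]
  abel

theorem Top.conj_eq {g : Γ} (hg : g ∈ Subgroup.normalizer (J : Set Γ)) (hgM : g ∈ Mx) : conjSub g A = A :=
  Top.unique h hJ hA (Top.conj h hJ hA hg hgM)

/-- The overgroup generated by the conjugates of an offender beside `J` under `N(J)`. -/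
def comp (J A : Subgroup Γ) : Subgroup Γ := ⨆ g ∈ Subgroup.normalizer (J : Set Γ), conjSub g A

theorem Top.comp_eq {L : Subgroup Γ} (hL : IsMin Mx A L) (hLN : L ≤ Subgroup.normalizer (J : Set Γ)) :
    comp J A = L := by
  obtain ⟨x, hxL, hx, hgen⟩ := Top.exists_out h hJ hA hL hLN
  refine le_antisymm (iSup₂_le fun g hg => ?_) ?_
  · by_cases hgM : g ∈ Mx
    · rw [Top.conj_eq h hJ hA hg hgM]; exact hL.aLe
    · obtain ⟨a, ha, hm⟩ := Top.exists_rep h hJ hA hL hLN hxL hx hg hgM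
      rw [show g = a * x * ((a * x)⁻¹ * g) by rw [mul_inv_cancel_left], ← conjSub_conjSub,
        Top.conj_eq h hJ hA ((Subgroup.normalizer (J : Set Γ)).mul_mem
          ((Subgroup.normalizer (J : Set Γ)).inv_mem
            ((Subgroup.normalizer (J : Set Γ)).mul_mem (hA.le_norm ha) (hLN hxL))) hg) hm]
      rintro _ ⟨c, hc, rfl⟩
      exact L.mul_mem (L.mul_mem (L.mul_mem (hL.aLe ha) hxL) (hL.aLe hc)) (L.inv_mem (L.mul_mem (hL.aLe ha) hxL))
  · refine hgen.ge.trans (sup_le ?_ ?_)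
    · have h1 := le_iSup₂ (f := fun g (_ : g ∈ Subgroup.normalizer (J : Set Γ)) => conjSub g A) 1
        (Subgroup.normalizer (J : Set Γ)).one_mem
      rwa [conjSub_one] at h1
    · exact le_iSup₂ (f := fun g (_ : g ∈ Subgroup.normalizer (J : Set Γ)) => conjSub g A) x (hLN hxL)

theorem Top.comp_min : IsMin Mx A (comp J A) ∧ comp J A ≤ Subgroup.normalizer (J : Set Γ) := by
  obtain ⟨L, -, hLN, hL⟩ := Top.exists_min h hJ hA hA.le_norm hJ.notLe le_rfl
  rw [Top.comp_eq h hJ hA hL hLN]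
  exact ⟨hL, hLN⟩

omit h hJ hA in
theorem comp_conj {J A : Subgroup Γ} {g : Γ} (hg : g ∈ Subgroup.normalizer (J : Set Γ)) :
    conjSub g (comp J A) = comp J A := by
  have key : ∀ {g : Γ}, g ∈ Subgroup.normalizer (J : Set Γ) → conjSub g (comp J A) ≤ comp J A := fun {g} hg => by
    rw [conjSub, Subgroup.map_le_iff_le_comap]
    refine iSup₂_le fun n hn => Subgroup.map_le_iff_le_comap.1 ?_
    show conjSub g (conjSub n A) ≤ _
    rw [conjSub_conjSub]
    exact le_iSup₂ (f := fun g (_ : g ∈ Subgroup.normalizer (J : Set Γ)) => conjSub g A) (g * n)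
      ((Subgroup.normalizer (J : Set Γ)).mul_mem hg hn)
  refine le_antisymm (key hg) ?_
  have h1 := conjSub_mono g (key ((Subgroup.normalizer (J : Set Γ)).inv_mem hg))
  rwa [conjSub_conjSub, mul_inv_cancel, conjSub_one] at h1

end CfsgLib.LocalEven.PMinFF
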